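/-
Products of matrices over the factors of a tensor power, slots, pure vectors and permutations of
the factors.
-/
import Mathlib
import Cfsg.Prelude.Def_GeometricClasses
set_option autoImplicit false
set_option linter.unusedSectionVars false

namespace CfsgLib.ClassicalMax.TWreath

open Matrix Cfsg.Geo

variable {F : Type*} [Field F] {t k : ℕ}

/-- The product over the factors. -/
def pmat (A : Fin t → Matrix (Fin k) (Fin k) F) : Matrix (Fin t → Fin k) (Fin t → Fin k) F :=
  fun a b => ∏ l, A l (a l) (b l)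

lemma pmat_apply (A : Fin t → Matrix (Fin k) (Fin k) F) (a b : Fin t → Fin k) :
    pmat A a b = ∏ l, A l (a l) (b l) := rfl

lemma pmat_mul (A B : Fin t → Matrix (Fin k) (Fin k) F) :
    pmat A * pmat B = pmat fun l => A l * B l := by
  ext a b
  simp [Matrix.mul_apply, pmat, Fintype.prod_sum, Finset.prod_mul_distrib]

@[simp] lemma pmat_one : pmat (1 : Fin t → Matrix (Fin k) (Fin k) F) = 1 := by
  ext a b
  rw [pmat_apply]
  by_cases h : a = b
  · subst h; simp
  · obtain ⟨l, hl⟩ := Function.ne_iff.1 h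
    rw [Matrix.one_apply_ne h]
    exact Finset.prod_eq_zero (Finset.mem_univ l) (by simp [hl])

lemma pmat_update_apply (A : Fin t → Matrix (Fin k) (Fin k) F) (i : Fin t)
    (X : Matrix (Fin k) (Fin k) F) (a b : Fin t → Fin k) :
    pmat (Function.update A i X) a b =
      X (a i) (b i) * ∏ l ∈ Finset.univ.erase i, A l (a l) (b l) := by
  rw [pmat_apply, ← Finset.mul_prod_erase _ _ (Finset.mem_univ i), Function.update_self]
  congr 1
  exact Finset.prod_congr rfl fun l hl => by rw [Function.update_of_ne (Finset.ne_of_mem_erase hl)]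

lemma pmat_update_add (A : Fin t → Matrix (Fin k) (Fin k) F) (i : Fin t)
    (X Y : Matrix (Fin k) (Fin k) F) :
    pmat (Function.update A i (X + Y)) = pmat (Function.update A i X) + pmat (Function.update A i Y) := by
  ext a b
  simp only [Matrix.add_apply, pmat_update_apply, add_mul]

lemma pmat_update_smul (A : Fin t → Matrix (Fin k) (Fin k) F) (i : Fin t) (c : F)
    (X : Matrix (Fin k) (Fin k) F) :
    pmat (Function.update A i (c • X)) = c • pmat (Function.update A i X) := by
  ext a b
  simp only [Matrix.smul_apply, pmat_update_apply, smul_eq_mul, mul_assoc]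

lemma pmat_smul_one (A : Fin t → Matrix (Fin k) (Fin k) F) (i : Fin t) (c : F) :
    c • pmat A = pmat (Function.update A i (c • A i)) := by
  rw [pmat_update_smul, Function.update_eq_self]

lemma pmat_single (a b : Fin t → Fin k) :
    pmat (fun l => Matrix.single (a l) (b l) (1 : F)) = Matrix.single a b 1 := by
  ext p q
  rw [pmat_apply]
  by_cases h : a = p ∧ b = q
  · obtain ⟨rfl, rfl⟩ := h
    simp
  · rw [Matrix.single_apply_of_ne _ _ _ _ _ h]
    rcases not_and_or.1 h with h' | h'
    all_goals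
      obtain ⟨l, hl⟩ := Function.ne_iff.1 h'
      exact Finset.prod_eq_zero (Finset.mem_univ l) (by simp [hl])

/-- A matrix as a combination of products. -/
lemma eq_sum_pmat (M : Matrix (Fin t → Fin k) (Fin t → Fin k) F) :
    M = ∑ a, ∑ b, M a b • pmat (fun l => Matrix.single (a l) (b l) (1 : F)) := by
  conv_lhs => rw [Matrix.matrix_eq_sum_single M]
  refine Finset.sum_congr rfl fun a _ => Finset.sum_congr rfl fun b _ => ?_
  rw [pmat_single, Matrix.smul_single, smul_eq_mul, mul_one]

/-- Linear maps agreeing on products are equal. -/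
lemma ext_pmat {W : Type*} [AddCommGroup W] [Module F W]
    {f g : Matrix (Fin t → Fin k) (Fin t → Fin k) F →ₗ[F] W} (h : ∀ A, f (pmat A) = g (pmat A)) :
    f = g := by
  refine LinearMap.ext fun M => ?_
  rw [eq_sum_pmat M]
  simp only [map_sum, map_smul, h]

/-- The embedding of the matrices of one factor. -/
def slot (i : Fin t) : Matrix (Fin k) (Fin k) F →ₐ[F] Matrix (Fin t → Fin k) (Fin t → Fin k) F where
  toFun X := pmat (Function.update 1 i X)
  map_one' := by rw [show Function.update (1 : Fin t → Matrix (Fin k) (Fin k) F) i 1 = 1 from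
    Function.update_eq_self i (1 : Fin t → Matrix (Fin k) (Fin k) F), pmat_one]
  map_mul' X Y := by
    rw [pmat_mul]
    congr 1
    funext l
    rcases eq_or_ne l i with rfl | h
    · simp
    · simp [Function.update_of_ne h]
  map_zero' := by ext a b; simp [pmat_update_apply]
  map_add' X Y := pmat_update_add _ i X Y
  commutes' c := by
    rw [Algebra.algebraMap_eq_smul_one, pmat_update_smul, Algebra.algebraMap_eq_smul_one]
    rw [show Function.update (1 : Fin t → Matrix (Fin k) (Fin k) F) i 1 = 1 from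
      Function.update_eq_self i (1 : Fin t → Matrix (Fin k) (Fin k) F), pmat_one]

lemma slot_eq (i : Fin t) (X : Matrix (Fin k) (Fin k) F) :
    slot i X = pmat (Function.update 1 i X) := rfl

lemma slot_apply (i : Fin t) (X : Matrix (Fin k) (Fin k) F) (a b : Fin t → Fin k) :
    slot i X a b = if ∀ l, l ≠ i → a l = b l then X (a i) (b i) else 0 := by
  rw [slot_eq, pmat_update_apply]
  split_ifs with h
  · rw [Finset.prod_eq_one fun l hl => by rw [Pi.one_apply, h l (Finset.ne_of_mem_erase hl), Matrix.one_apply_eq], mul_one]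
  · push Not at h
    obtain ⟨l, hl, hne⟩ := h
    rw [Finset.prod_eq_zero (Finset.mem_erase.2 ⟨hl, Finset.mem_univ l⟩) (by simp [hne]), mul_zero]

lemma slot_injective (i : Fin t) : Function.Injective (slot (F := F) (k := k) i) := by
  intro X Y h
  ext p q
  have := congrFun (congrFun h (fun _ => p)) (Function.update (fun _ => p) i q)
  rw [slot_apply, slot_apply, if_pos (fun l hl => by rw [Function.update_of_ne hl]),
    if_pos (fun l hl => by rw [Function.update_of_ne hl])] at this
  simpa using this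

lemma slot_mul_pmat (i : Fin t) (X : Matrix (Fin k) (Fin k) F) (A : Fin t → Matrix (Fin k) (Fin k) F) :
    slot i X * pmat A = pmat (Function.update A i (X * A i)) := by
  rw [slot_eq, pmat_mul]
  congr 1
  funext l
  rcases eq_or_ne l i with rfl | h
  · simp
  · simp [Function.update_of_ne h]

lemma pmat_mul_slot (i : Fin t) (X : Matrix (Fin k) (Fin k) F) (A : Fin t → Matrix (Fin k) (Fin k) F) :
    pmat A * slot i X = pmat (Function.update A i (A i * X)) := by
  rw [slot_eq, pmat_mul]
  congr 1
  funext l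
  rcases eq_or_ne l i with rfl | h
  · simp
  · simp [Function.update_of_ne h]

lemma slot_comm {i j : Fin t} (h : i ≠ j) (X Y : Matrix (Fin k) (Fin k) F) :
    slot i X * slot j Y = slot j Y * slot i X := by
  simp only [slot_eq, pmat_mul]
  congr 1
  funext l
  rcases eq_or_ne l i with rfl | h1
  · simp [Function.update_of_ne h]
  · simp [Function.update_of_ne h1]

/-- The pure vector with the given factors. -/
def pvec (x : Fin t → Fin k → F) : (Fin t → Fin k) → F := fun a => ∏ l, x l (a l)

lemma pvec_single (a : Fin t → Fin k) :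
    pvec (fun l => Pi.single (a l) (1 : F)) = Pi.single a 1 := by
  funext b
  by_cases h : b = a
  · subst h; simp [pvec]
  · obtain ⟨l, hl⟩ := Function.ne_iff.1 h
    rw [Pi.single_eq_of_ne h]
    exact Finset.prod_eq_zero (Finset.mem_univ l) (by simp [hl])

lemma pmat_mulVec_pvec (A : Fin t → Matrix (Fin k) (Fin k) F) (x : Fin t → Fin k → F) :
    pmat A *ᵥ pvec x = pvec fun l => A l *ᵥ x l := by
  funext a
  simp [Matrix.mulVec, dotProduct, pmat, pvec, Fintype.prod_sum, Finset.prod_mul_distrib]

lemma pvec_dot (φ x : Fin t → Fin k → F) : pvec φ ⬝ᵥ pvec x = ∏ l, φ l ⬝ᵥ x l := by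
  simp [dotProduct, pvec, Fintype.prod_sum, Finset.prod_mul_distrib]

lemma pvec_ne_zero {x : Fin t → Fin k → F} (h : ∀ l, x l ≠ 0) : pvec x ≠ 0 := by
  choose p hp using fun l => Function.ne_iff.1 (h l)
  exact fun h0 => Finset.prod_ne_zero_iff.2 (fun l _ => hp l) (congrFun h0 p)

lemma pmat_vecMulVec (u v : Fin t → Fin k → F) :
    pmat (fun l => Matrix.vecMulVec (u l) (v l)) = Matrix.vecMulVec (pvec u) (pvec v) := by
  ext a b
  simp [pmat, Matrix.vecMulVec_apply, pvec, Finset.prod_mul_distrib]

/-- The matrix of a permutation of the factors. -/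
def permMat (σ : Equiv.Perm (Fin t)) : Matrix (Fin t → Fin k) (Fin t → Fin k) F :=
  fun a b => if b = a ∘ σ then 1 else 0

lemma permMat_mul (σ τ : Equiv.Perm (Fin t)) :
    permMat σ * permMat τ = (permMat (σ * τ) : Matrix (Fin t → Fin k) (Fin t → Fin k) F) := by
  ext a b
  rw [Matrix.mul_apply, Finset.sum_eq_single (a ∘ ⇑σ) (fun c _ h => by simp [permMat, h])
    (fun h => absurd (Finset.mem_univ _) h)]
  simp [permMat, Function.comp_assoc, Equiv.Perm.coe_mul]
  rfl

@[simp] lemma permMat_one : (permMat 1 : Matrix (Fin t → Fin k) (Fin t → Fin k) F) = 1 := by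
  ext a b
  simp [permMat, Matrix.one_apply, eq_comm]

lemma permMat_mul_pmat (σ : Equiv.Perm (Fin t)) (A : Fin t → Matrix (Fin k) (Fin k) F) :
    permMat σ * pmat A = pmat (A ∘ ⇑σ⁻¹) * permMat σ := by
  ext a b
  rw [Matrix.mul_apply, Matrix.mul_apply,
    Finset.sum_eq_single (a ∘ ⇑σ) (fun c _ h => by simp [permMat, h])
      (fun h => absurd (Finset.mem_univ _) h),
    Finset.sum_eq_single (b ∘ ⇑σ⁻¹) (fun c _ h => ?_) (fun h => absurd (Finset.mem_univ _) h)]
  · have e : b = (b ∘ ⇑σ⁻¹) ∘ ⇑σ := by funext l; simp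
    simp only [permMat, if_true, one_mul, ← e, mul_one, pmat_apply]
    exact Fintype.prod_equiv σ _ _ fun l => by simp
  · have : b ≠ c ∘ ⇑σ := fun e => h (by funext l; simp [e])
    simp [permMat, this]

lemma permMat_mul_slot (σ : Equiv.Perm (Fin t)) (i : Fin t) (X : Matrix (Fin k) (Fin k) F) :
    permMat σ * slot i X = slot (σ i) X * permMat σ := by
  rw [slot_eq, permMat_mul_pmat, slot_eq]
  congr 2
  funext l
  by_cases h : l = σ i
  · subst h; simp
  · have : σ⁻¹ l ≠ i := fun e => h (by rw [← e]; simp)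
    rw [Function.comp_apply, Function.update_of_ne h, Function.update_of_ne this]
    rfl

lemma permMat_mulVec_pvec (σ : Equiv.Perm (Fin t)) (x : Fin t → Fin k → F) :
    permMat σ *ᵥ pvec x = pvec (x ∘ ⇑σ⁻¹) := by
  funext a
  rw [Matrix.mulVec, dotProduct, Finset.sum_eq_single (a ∘ ⇑σ) (fun c _ h => by simp [permMat, h])
    (fun h => absurd (Finset.mem_univ _) h)]
  simp only [permMat, if_true, one_mul, pvec]
  exact Fintype.prod_equiv σ _ _ fun l => by simp

/-- The product as a homomorphism. -/
def pmatGL : (Fin t → GL (Fin k) F) →* GL (Fin t → Fin k) F where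
  toFun A := ⟨pmat fun l => (A l : Matrix (Fin k) (Fin k) F),
    pmat fun l => ((A l)⁻¹ : GL (Fin k) F).val,
    by rw [pmat_mul]; simp only [Units.mul_inv]; exact pmat_one,
    by rw [pmat_mul]; simp only [Units.inv_mul]; exact pmat_one⟩
  map_one' := Units.ext pmat_one
  map_mul' A B := Units.ext (by simp [pmat_mul])

@[simp] lemma coe_pmatGL (A : Fin t → GL (Fin k) F) :
    (pmatGL A).val = pmat fun l => (A l : Matrix (Fin k) (Fin k) F) := rfl

/-- The permutations as a homomorphism. -/
def permGL : Equiv.Perm (Fin t) →* GL (Fin t → Fin k) F where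
  toFun σ := ⟨permMat σ, permMat σ⁻¹, by rw [permMat_mul, mul_inv_cancel, permMat_one],
    by rw [permMat_mul, inv_mul_cancel, permMat_one]⟩
  map_one' := Units.ext permMat_one
  map_mul' σ τ := Units.ext (permMat_mul σ τ).symm

@[simp] lemma coe_permGL (σ : Equiv.Perm (Fin t)) :
    (permGL σ : GL (Fin t → Fin k) F).val = permMat σ := rfl

lemma permGL_mul_pmatGL (σ : Equiv.Perm (Fin t)) (A : Fin t → GL (Fin k) F) :
    permGL σ * pmatGL A = pmatGL (A ∘ ⇑σ⁻¹) * permGL σ :=
  Units.ext (by simpa [Function.comp_def] using permMat_mul_pmat σ fun l => (A l).val)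

/-- The members of the standard subgroup are products followed by permutations. -/
theorem mem_std_iff {g : GL (Fin t → Fin k) F} :
    g ∈ tensorWreathStandard k t F ↔ ∃ σ A, g = pmatGL A * permGL σ := by
  constructor
  · intro hg
    induction hg using Subgroup.closure_induction with
    | mem x hx =>
      rcases hx with ⟨gs, hgs⟩ | ⟨σ, hσ⟩
      · exact ⟨1, gs, by rw [map_one, mul_one]; exact Units.ext (Matrix.ext hgs)⟩
      · exact ⟨σ, 1, by rw [map_one, one_mul]; exact Units.ext (Matrix.ext hσ)⟩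
    | one => exact ⟨1, 1, by simp⟩
    | mul x y _ _ hx hy =>
      obtain ⟨σ, A, rfl⟩ := hx
      obtain ⟨τ, B, rfl⟩ := hy
      exact ⟨σ * τ, A * (B ∘ ⇑σ⁻¹), by
        rw [map_mul, map_mul, mul_assoc, ← mul_assoc (permGL σ), permGL_mul_pmatGL, mul_assoc,
          mul_assoc]⟩
    | inv x _ hx =>
      obtain ⟨σ, A, rfl⟩ := hx
      exact ⟨σ⁻¹, (A⁻¹) ∘ ⇑(σ⁻¹)⁻¹, by
        rw [_root_.mul_inv_rev, ← map_inv, ← map_inv, permGL_mul_pmatGL]⟩
  · rintro ⟨σ, A, rfl⟩
    exact mul_mem (Subgroup.subset_closure (Or.inl ⟨A, fun x y => rfl⟩))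
      (Subgroup.subset_closure (Or.inr ⟨σ, fun x y => rfl⟩))

lemma pmatGL_mem_std (A : Fin t → GL (Fin k) F) : pmatGL A ∈ tensorWreathStandard k t F :=
  mem_std_iff.2 ⟨1, A, by simp⟩

lemma permGL_mem_std (σ : Equiv.Perm (Fin t)) :
    (permGL σ : GL (Fin t → Fin k) F) ∈ tensorWreathStandard k t F :=
  mem_std_iff.2 ⟨σ, 1, by simp⟩

/-- An invertible product has invertible factors. -/
lemma exists_units {g : GL (Fin t → Fin k) F} {σ : Equiv.Perm (Fin t)}
    {A : Fin t → Matrix (Fin k) (Fin k) F} (h : g.val = pmat A * permMat σ) :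
    g ∈ tensorWreathStandard k t F := by
  have hA : (g * permGL σ⁻¹).val = pmat A := by
    rw [Units.val_mul, h, coe_permGL, mul_assoc, permMat_mul, mul_inv_cancel, permMat_one, mul_one]
  have hu : ∀ l, IsUnit (A l) := fun l => Matrix.mulVec_injective_iff_isUnit.1 fun v w hvw => by
    by_contra hne
    have h0 : (g * permGL σ⁻¹).val *ᵥ pvec (fun _ : Fin t => v - w) = 0 := by
      rw [hA, pmat_mulVec_pvec]
      funext a
      exact Finset.prod_eq_zero (Finset.mem_univ l) (by
        show (A l *ᵥ (v - w)) (a l) = 0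
        rw [Matrix.mulVec_sub, hvw, sub_self, Pi.zero_apply])
    have h1 : ((g * permGL σ⁻¹)⁻¹ : GL (Fin t → Fin k) F).val *ᵥ
        ((g * permGL σ⁻¹).val *ᵥ pvec (fun _ : Fin t => v - w)) = 0 := by
      rw [h0, Matrix.mulVec_zero]
    rw [Matrix.mulVec_mulVec, Units.inv_mul, Matrix.one_mulVec] at h1
    exact pvec_ne_zero (fun _ => sub_ne_zero.2 hne) h1
  refine mem_std_iff.2 ⟨σ, fun l => (hu l).unit, Units.ext ?_⟩
  simpa using h

end CfsgLib.ClassicalMax.TWreath
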