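/-
Elements of the tensor wreath group with square zero translation part, square zero sums of slots,
and the normaliser of the slots.
-/
import Cfsg.Agent.Lib.ClassicalMax.TWreath.Slot
set_option autoImplicit false
set_option linter.unusedSectionVars false

namespace CfsgLib.ClassicalMax.TWreath

open Matrix Cfsg.Geo

variable {F : Type*} [Field F] {t k : ℕ}

lemma exists_dual {v : Fin k → F} (hv : v ≠ 0) : ∃ φ, φ ⬝ᵥ v = 1 := by
  obtain ⟨i, hi⟩ := Function.ne_iff.1 hv
  exact ⟨Pi.single i (v i)⁻¹, by rw [single_dotProduct, inv_mul_cancel₀ hi]⟩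

/-- A functional separating a vector from a line. -/
lemma exists_sep {v w : Fin k → F} (hw : ∀ c : F, c • v ≠ w) :
    ∃ φ, φ ⬝ᵥ v = 0 ∧ φ ⬝ᵥ w = 1 := by
  obtain ⟨f, hf, hfm⟩ := Submodule.exists_dual_map_eq_bot_of_notMem
    (fun h => (Submodule.mem_span_singleton.1 h).elim hw) (inferInstance :
      Module.Projective F ((Fin k → F) ⧸ Submodule.span F {v}))
  refine ⟨fun j => (f w)⁻¹ * f (Pi.single j 1), ?_, ?_⟩
  all_goals
    have e : ∀ x, (fun j => (f w)⁻¹ * f (Pi.single j 1)) ⬝ᵥ x = (f w)⁻¹ * f x := fun x => by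
      conv_rhs => rw [pi_eq_sum_univ' x, map_sum, Finset.mul_sum]
      refine Finset.sum_congr rfl fun j _ => ?_
      rw [map_smul, smul_eq_mul]
      ring
    rw [e]
  · rw [(Submodule.mem_bot F).1 (hfm ▸ Submodule.mem_map_of_mem
      (Submodule.mem_span_singleton_self v) : f v ∈ (⊥ : Submodule F F)), mul_zero]
  · exact inv_mul_cancel₀ hf

lemma pvec_dot₂ {l m : Fin t} (hlm : l ≠ m) (ψ x : Fin t → Fin k → F) (φ χ : Fin k → F) :
    pvec (Function.update (Function.update ψ l φ) m χ) ⬝ᵥ pvec x =
      (φ ⬝ᵥ x l) * (χ ⬝ᵥ x m) * ∏ n ∈ (Finset.univ.erase l).erase m, ψ n ⬝ᵥ x n := by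
  rw [pvec_dot, ← Finset.mul_prod_erase _ _ (Finset.mem_univ l),
    ← Finset.mul_prod_erase _ _ (Finset.mem_erase.2 ⟨hlm.symm, Finset.mem_univ m⟩),
    Function.update_self, Function.update_of_ne hlm, Function.update_self, mul_assoc]
  congr 1
  congr 1
  refine Finset.prod_congr rfl fun n hn => ?_
  obtain ⟨h1, h2⟩ := Finset.mem_erase.1 hn
  rw [Function.update_of_ne h1, Function.update_of_ne (Finset.ne_of_mem_erase h2)]

/-- Three pure vectors in arithmetic progression differ in at most one factor. -/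
lemma no_two_moved (h2 : (2 : F) ≠ 0) {x y z : Fin t → Fin k → F}
    (h : pvec y + pvec z = (2 : F) • pvec x) (hx : ∀ n, x n ≠ 0) (hy : ∀ n, y n ≠ 0) {l m : Fin t}
    (hlm : l ≠ m) (hl : ∀ c : F, c • x l ≠ y l) (hm : ∀ c : F, c • x m ≠ y m) : False := by
  choose ψy hψy using fun n => exists_dual (hy n)
  have key : ∀ {a b : Fin t}, a ≠ b → (∀ c : F, c • x a ≠ y a) → ∃ c : F, c • y b = z b := by
    intro a b hab ha
    by_contra hcon
    push Not at hcon
    obtain ⟨φ, hφ1, hφ2⟩ := exists_sep ha
    by_cases hz : z b = 0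
    · exact hcon 0 (by rw [zero_smul, hz])
    obtain ⟨χ, hχ1, hχ2⟩ := exists_sep (v := z b) (w := y b) fun c hc => by
      rcases eq_or_ne c 0 with rfl | hc0
      · exact hy b (by rw [← hc, zero_smul])
      · exact hcon c⁻¹ (by rw [← hc, inv_smul_smul₀ hc0])
    have := congrArg (pvec (Function.update (Function.update ψy a φ) b χ) ⬝ᵥ ·) h
    simp only [dotProduct_add, dotProduct_smul, pvec_dot₂ hab, hφ1, hφ2, hχ1, hχ2, smul_eq_mul,
      zero_mul, mul_zero, add_zero, one_mul, hψy, Finset.prod_const_one] at this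
    exact one_ne_zero this
  obtain ⟨c, hc⟩ := key hlm.symm hm
  choose ψx hψx using fun n => exists_dual (hx n)
  obtain ⟨φ, hφ1, hφ2⟩ := exists_sep (v := y l) (w := x l) fun d hd => by
    rcases eq_or_ne d 0 with rfl | hd0
    · exact hx l (by rw [← hd, zero_smul])
    · exact hl d⁻¹ (by rw [← hd, inv_smul_smul₀ hd0])
  have := congrArg (pvec (Function.update (Function.update ψx l φ) m (ψx m)) ⬝ᵥ ·) h
  simp only [dotProduct_add, dotProduct_smul, pvec_dot₂ hlm, ← hc, hφ1, hφ2, hψx, smul_eq_mul,
    zero_mul, mul_zero, add_zero, one_mul, mul_one, Finset.prod_const_one] at this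
  exact h2 this.symm

/-- A vector outside two lines. -/
lemma exists_avoid (hk : 2 ≤ k) (u v : Fin k → F) :
    ∃ w : Fin k → F, w ≠ 0 ∧ (∀ c : F, c • u ≠ w) ∧ ∀ c : F, c • v ≠ w := by
  have hout : ∀ r : Fin k → F, ∃ w, ∀ c : F, c • r ≠ w := fun r => by
    by_contra hcon
    push Not at hcon
    have hle : (⊤ : Submodule F (Fin k → F)) ≤ Submodule.span F {r} := fun w _ =>
      Submodule.mem_span_singleton.2 (hcon w)
    have h1 := Submodule.finrank_mono hle
    have h2 : Module.finrank F (Submodule.span F ({r} : Set (Fin k → F))) ≤ 1 :=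
      (finrank_span_le_card _).trans (by simp)
    rw [finrank_top, Module.finrank_fin_fun] at h1
    omega
  by_cases huv : ∃ c : F, c • u = v
  · obtain ⟨c, hc⟩ := huv
    obtain ⟨w, hw⟩ := hout u
    exact ⟨w, fun h => hw 0 (by rw [zero_smul, h]), hw, fun d hd => hw (d * c) (by
      rw [mul_smul, hc, hd])⟩
  by_cases hvu : ∃ c : F, c • v = u
  · obtain ⟨c, hc⟩ := hvu
    obtain ⟨w, hw⟩ := hout v
    exact ⟨w, fun h => hw 0 (by rw [zero_smul, h]), fun d hd => hw (d * c) (by
      rw [mul_smul, hc, hd]), hw⟩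
  push Not at huv hvu
  refine ⟨u + v, fun h => huv (-1) (by rw [neg_one_smul, ← eq_neg_of_add_eq_zero_right h]),
    fun c hc => huv (c - 1) (by rw [sub_smul, one_smul, hc, add_sub_cancel_left]),
    fun c hc => hvu (c - 1) (by rw [sub_smul, one_smul, hc, add_sub_cancel_right])⟩

lemma mulVec_ne_zero (A : GL (Fin k) F) {v : Fin k → F} (hv : v ≠ 0) : A.val *ᵥ v ≠ 0 := fun h =>
  hv (by
    have := congrArg (fun w => (A⁻¹ : GL (Fin k) F).val *ᵥ w) h
    simpa [Matrix.mulVec_mulVec] using this)

/-- A matrix with only eigenvectors is scalar. -/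
lemma eq_smul_one_of_eigen (hk : 2 ≤ k) {A : Matrix (Fin k) (Fin k) F}
    (h : ∀ v, ∃ c : F, c • v = A *ᵥ v) : ∃ c : F, A = c • 1 := by
  choose c hc using fun p => h (Pi.single p 1)
  have e : ∀ p q, p ≠ q → c p = c q := by
    intro p q hpq
    obtain ⟨d, hd⟩ := h (Pi.single p 1 + Pi.single q 1)
    rw [Matrix.mulVec_add, ← hc p, ← hc q] at hd
    have h1 := congrFun hd p
    have h2 := congrFun hd q
    simp [hpq, hpq.symm] at h1 h2
    rw [← h1, ← h2]
  refine ⟨c ⟨0, by omega⟩, Matrix.ext_of_mulVec_single fun p => ?_⟩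
  rw [← hc p, Matrix.smul_mulVec, Matrix.one_mulVec]
  rcases eq_or_ne p ⟨0, by omega⟩ with rfl | hp
  · rfl
  · rw [e p _ hp]

/-- An element of the wreath group with square zero translation part lives in one slot. -/
theorem slot_of_sq_zero (h2 : (2 : F) ≠ 0) (hk : 2 ≤ k) (ht : 0 < t) {h : GL (Fin t → Fin k) F}
    (hh : h ∈ tensorWreathStandard k t F) {N : Matrix (Fin t → Fin k) (Fin t → Fin k) F}
    (hN : h.val = 1 + N) (hNN : N * N = 0) : ∃ j X, N = slot j X := by
  classical
  obtain ⟨σ, A, hσA⟩ := mem_std_iff.1 hh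
  obtain ⟨τ, B, hτB⟩ := mem_std_iff.1 (inv_mem hh)
  have hinv : (h⁻¹ : GL (Fin t → Fin k) F).val = 1 - N := by
    have e2 : h.val * (1 - N) = 1 := by
      rw [hN, add_mul, one_mul, mul_sub, mul_one, hNN, sub_zero, sub_add_cancel]
    calc (h⁻¹ : GL (Fin t → Fin k) F).val = (h⁻¹ : GL (Fin t → Fin k) F).val * (h.val * (1 - N)) := by
          rw [e2, mul_one]
      _ = 1 - N := by rw [← mul_assoc, Units.inv_mul, one_mul]
  have hsum : ∀ x : Fin t → Fin k → F,
      pvec (fun n => (A n).val *ᵥ x (σ⁻¹ n)) + pvec (fun n => (B n).val *ᵥ x (τ⁻¹ n)) =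
        (2 : F) • pvec x := by
    intro x
    have e1 : h.val *ᵥ pvec x = pvec (fun n => (A n).val *ᵥ x (σ⁻¹ n)) := by
      rw [hσA, Units.val_mul, ← Matrix.mulVec_mulVec, coe_permGL, permMat_mulVec_pvec, coe_pmatGL,
        pmat_mulVec_pvec]
      rfl
    have e2 : (h⁻¹ : GL (Fin t → Fin k) F).val *ᵥ pvec x = pvec (fun n => (B n).val *ᵥ x (τ⁻¹ n)) := by
      rw [hτB, Units.val_mul, ← Matrix.mulVec_mulVec, coe_permGL, permMat_mulVec_pvec, coe_pmatGL,
        pmat_mulVec_pvec]
      rfl
    rw [← e1, ← e2, hN, hinv, ← Matrix.add_mulVec, show (1 + N) + (1 - N) = (2 : F) •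
      (1 : Matrix (Fin t → Fin k) (Fin t → Fin k) F) by rw [two_smul]; abel, Matrix.smul_mulVec,
      Matrix.one_mulVec]
  have hσ : σ = 1 := by
    by_contra hne
    obtain ⟨a, ha⟩ : ∃ a, σ a ≠ a := by
      by_contra hcon
      push Not at hcon
      exact hne (Equiv.ext hcon)
    have ha' : σ⁻¹ a ≠ a := fun e => ha (by nth_rw 1 [← e]; simp)
    set v : Fin k → F := Pi.single ⟨0, by omega⟩ 1
    have hv : v ≠ 0 := by simp [v]
    obtain ⟨w, hw0, hw1, hw2⟩ := exists_avoid hk ((A (σ a)).val *ᵥ v) (((A a)⁻¹ : GL _ F).val *ᵥ v)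
    set x : Fin t → Fin k → F := Function.update (fun _ => w) a v
    have hx : ∀ n, x n ≠ 0 := fun n => by
      rcases eq_or_ne n a with rfl | hn
      · simpa [x] using hv
      · simpa [x, Function.update_of_ne hn] using hw0
    refine no_two_moved h2 (hsum x) hx (fun n => mulVec_ne_zero _ (hx _)) ha (fun c hc => ?_)
      (fun c hc => ?_)
    · -- the image of the marked factor
      have hxσ : x (σ a) = w := by simp [x, Function.update_of_ne ha]
      have hinvσ : σ⁻¹ (σ a) = a := σ.symm_apply_apply a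
      simp only [hxσ, hinvσ, show x a = v by simp [x]] at hc
      rcases eq_or_ne c 0 with rfl | hc0
      · rw [zero_smul] at hc
        exact mulVec_ne_zero _ hv hc.symm
      · exact hw1 c⁻¹ (by rw [← hc, inv_smul_smul₀ hc0])
    · have hxσ : x (σ⁻¹ a) = w := Function.update_of_ne ha' _ _
      simp only [hxσ, show x a = v by simp [x]] at hc
      exact hw2 c (by
        have := congrArg (fun u => ((A a)⁻¹ : GL (Fin k) F).val *ᵥ u) hc
        simpa [Matrix.mulVec_mulVec, Matrix.mulVec_smul] using this)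
  subst hσ
  by_cases hone : ∃ j, ∀ n, n ≠ j → ∃ c : F, (A n).val = c • 1
  · obtain ⟨j, hj⟩ := hone
    choose c hc using hj
    have hpm : ∀ s : Finset (Fin t), j ∉ s → ∃ d : F, pmat (fun n => (A n).val) =
        d • pmat (fun n => if n ∈ s then 1 else (A n).val) := by
      intro s hs
      induction s using Finset.induction with
      | empty => exact ⟨1, by simp⟩
      | insert n s hn ih =>
        obtain ⟨d, hd⟩ := ih (fun h => hs (Finset.mem_insert_of_mem h))
        have hnj : n ≠ j := fun e => hs (by rw [e]; exact Finset.mem_insert_self j s)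
        refine ⟨d * c n hnj, ?_⟩
        rw [hd, mul_smul]
        congr 1
        conv_rhs => rw [pmat_smul_one _ n]
        congr 1
        funext l
        rcases eq_or_ne l n with rfl | hl
        · simp [hn, ← hc l hnj]
        · simp [Function.update_of_ne hl, hl]
    obtain ⟨d, hd⟩ := hpm (Finset.univ.erase j) (by simp)
    refine ⟨j, d • (A j).val - 1, ?_⟩
    rw [map_sub, map_one, map_smul, slot_eq, eq_sub_iff_add_eq, add_comm, ← hN, hσA, map_one,
      mul_one, coe_pmatGL, hd]
    congr 2
    funext l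
    rcases eq_or_ne l j with rfl | hl
    · simp
    · simp [hl]
  · push Not at hone
    obtain ⟨l, -, hl⟩ := hone ⟨0, ht⟩
    obtain ⟨m, hml, hm⟩ := hone l
    have eig : ∀ n, (∀ c : F, (A n).val ≠ c • 1) → ∃ v, ∀ c : F, c • v ≠ (A n).val *ᵥ v :=
      fun n hn => by
        by_contra hcon
        push Not at hcon
        obtain ⟨c, hc⟩ := eq_smul_one_of_eigen hk hcon
        exact hn c hc
    obtain ⟨vl, hvl⟩ := eig l hl
    obtain ⟨vm, hvm⟩ := eig m hm
    exfalso
    set x : Fin t → Fin k → F := Function.update (Function.update (fun _ => vl) l vl) m vm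
    have hvl0 : vl ≠ 0 := fun h => hvl 0 (by simp [h])
    have hvm0 : vm ≠ 0 := fun h => hvm 0 (by simp [h])
    have hx : ∀ n, x n ≠ 0 := fun n => by
      rcases eq_or_ne n m with rfl | hn
      · simpa [x] using hvm0
      · simpa [x, Function.update_of_ne hn] using hvl0
    refine no_two_moved h2 (hsum x) hx (fun n => mulVec_ne_zero _ (hx _)) hml (fun c hc => ?_)
      (fun c hc => ?_)
    · simp [x] at hc
      exact hvm c hc
    · simp [x, Function.update_of_ne hml.symm] at hc
      exact hvl c hc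

/-- The bilinear pairing of matrices by weights. -/
lemma sum_pmat_mul (w A : Fin t → Matrix (Fin k) (Fin k) F) :
    ∑ a, ∑ b, pmat w a b * pmat A a b = ∏ l, ∑ p, ∑ q, w l p q * A l p q := by
  simp [pmat, Fintype.prod_sum, Finset.prod_mul_distrib]

/-- A square zero sum of slots is a single slot. -/
theorem slot_of_sum_sq_zero (h2 : (2 : F) ≠ 0) (hk : 0 < k) (ht : 0 < t)
    {X : Fin t → Matrix (Fin k) (Fin k) F}
    (hXX : (∑ l, slot l (X l)) * (∑ l, slot l (X l)) = 0) : ∃ j Y, ∑ l, slot l (X l) = slot j Y := by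
  classical
  by_cases hone : ∃ j, ∀ n, n ≠ j → ∃ c : F, X n = c • 1
  · obtain ⟨j, hj⟩ := hone
    choose c hc using hj
    refine ⟨j, X j + ∑ n, (if h : n = j then 0 else c n h) • 1, ?_⟩
    rw [map_add, map_sum, ← Finset.add_sum_erase _ _ (Finset.mem_univ j)]
    congr 1
    rw [← Finset.sum_erase (a := j) (Finset.univ : Finset (Fin t)) (by simp)]
    refine Finset.sum_congr rfl fun n hn => ?_
    have hnj := Finset.ne_of_mem_erase hn
    rw [dif_neg hnj, map_smul, map_one, hc n hnj, map_smul, map_one]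
  exfalso
  push Not at hone
  obtain ⟨l, -, hl⟩ := hone ⟨0, ht⟩
  obtain ⟨m, hml, hm⟩ := hone l
  let z : Fin k := ⟨0, hk⟩
  have sep : ∀ n, (∀ c : F, X n ≠ c • 1) → ∃ w : Matrix (Fin k) (Fin k) F,
      (∑ p, ∑ q, w p q * (1 : Matrix (Fin k) (Fin k) F) p q) = 0 ∧
        (∑ p, ∑ q, w p q * X n p q) ≠ 0 := by
    intro n hn
    by_cases hoff : ∃ p q, p ≠ q ∧ X n p q ≠ 0
    · obtain ⟨p, q, hpq, hX⟩ := hoff
      refine ⟨Matrix.single p q 1, ?_, ?_⟩
      · rw [Finset.sum_eq_single p (fun a _ ha => by simp [Matrix.single, ha.symm]) (by simp),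
          Finset.sum_eq_single q (fun a _ ha => by simp [Matrix.single, ha.symm]) (by simp)]
        simp [hpq]
      · rw [Finset.sum_eq_single p (fun a _ ha => by simp [Matrix.single, ha.symm]) (by simp),
          Finset.sum_eq_single q (fun a _ ha => by simp [Matrix.single, ha.symm]) (by simp)]
        simpa using hX
    · push Not at hoff
      obtain ⟨p, hp⟩ : ∃ p, X n p p ≠ X n z z := by
        by_contra hcon
        push Not at hcon
        refine hn (X n z z) (Matrix.ext fun p q => ?_)
        rcases eq_or_ne p q with rfl | hpq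
        · simp [hcon p]
        · simp [hoff p q hpq, hpq]
      refine ⟨Matrix.single p p 1 - Matrix.single z z 1, ?_, ?_⟩
      all_goals simp only [Matrix.sub_apply, sub_mul, Finset.sum_sub_distrib]
      all_goals
        rw [Finset.sum_eq_single p (fun a _ ha => by simp [Matrix.single, ha.symm]) (by simp),
          Finset.sum_eq_single p (fun a _ ha => by simp [Matrix.single, ha.symm]) (by simp),
          Finset.sum_eq_single z (fun a _ ha => by simp [Matrix.single, ha.symm]) (by simp),
          Finset.sum_eq_single z (fun a _ ha => by simp [Matrix.single, ha.symm]) (by simp)]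
      · simp
      · simpa [sub_ne_zero] using hp
  obtain ⟨wl, hwl1, hwlX⟩ := sep l hl
  obtain ⟨wm, hwm1, hwmX⟩ := sep m hm
  set w : Fin t → Matrix (Fin k) (Fin k) F :=
    Function.update (Function.update (fun _ => Matrix.single z z 1) l wl) m wm with hw
  let Φ : Matrix (Fin t → Fin k) (Fin t → Fin k) F →ₗ[F] F :=
    { toFun := fun M => ∑ a, ∑ b, pmat w a b * M a b
      map_add' := fun M N => by simp only [Matrix.add_apply, mul_add, Finset.sum_add_distrib]
      map_smul' := fun c M => by
        simp only [Matrix.smul_apply, smul_eq_mul, RingHom.id_apply, Finset.mul_sum, mul_left_comm] }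
  have hΦ : ∀ A, Φ (pmat A) = ∏ n, ∑ p, ∑ q, w n p q * A n p q := sum_pmat_mul w
  have hone' : ∀ n, n = l ∨ n = m →
      (∑ p, ∑ q, w n p q * (1 : Matrix (Fin k) (Fin k) F) p q) = 0 := by
    rintro n (rfl | rfl)
    · simpa [hw, Function.update_of_ne hml.symm] using hwl1
    · simpa [hw] using hwm1
  have hkill : ∀ (A : Fin t → Matrix (Fin k) (Fin k) F) (n : Fin t), (n = l ∨ n = m) → A n = 1 →
      Φ (pmat A) = 0 := fun A n hn hA => by
    rw [hΦ]
    exact Finset.prod_eq_zero (Finset.mem_univ n) (by rw [hA]; exact hone' n hn)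
  have hterm : ∀ i j, ¬ ((i = l ∧ j = m) ∨ (i = m ∧ j = l)) → Φ (slot i (X i) * slot j (X j)) = 0 := by
    intro i j hij
    rw [slot_eq, slot_eq, pmat_mul]
    rcases ne_or_eq i l with hil | rfl
    · by_cases hjl : j = l
      · subst hjl
        have him : i ≠ m := fun e => hij (Or.inr ⟨e, rfl⟩)
        exact hkill _ m (Or.inr rfl) (by simp [Function.update_of_ne him.symm, Function.update_of_ne hml])
      · exact hkill _ l (Or.inl rfl) (by simp [Function.update_of_ne hil.symm, Function.update_of_ne (Ne.symm hjl)])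
    · have hjm : j ≠ m := fun e => hij (Or.inl ⟨rfl, e⟩)
      exact hkill _ m (Or.inr rfl) (by simp [Function.update_of_ne hml, Function.update_of_ne hjm.symm])
  have hsplit : Φ ((∑ i, slot i (X i)) * (∑ j, slot j (X j))) =
      2 * Φ (slot l (X l) * slot m (X m)) := by
    rw [Finset.sum_mul, map_sum]
    simp only [Finset.mul_sum, map_sum]
    rw [← Finset.add_sum_erase _ _ (Finset.mem_univ l),
      ← Finset.add_sum_erase _ _ (Finset.mem_erase.2 ⟨hml, Finset.mem_univ m⟩),
      Finset.sum_eq_single m (fun j _ hj => hterm l j (by simp [hj, hml.symm])) (by simp),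
      Finset.sum_eq_single l (fun j _ hj => hterm m j (by simp [hj, hml])) (by simp),
      Finset.sum_eq_zero (fun i hi => Finset.sum_eq_zero fun j _ => hterm i j (by
        obtain ⟨h1, h2⟩ := Finset.mem_erase.1 hi
        simp [h1, Finset.ne_of_mem_erase h2])),
      slot_comm hml (X m) (X l)]
    ring
  rw [hXX] at hsplit
  rw [map_zero] at hsplit
  have hne : Φ (slot l (X l) * slot m (X m)) ≠ 0 := by
    rw [slot_eq, slot_eq, pmat_mul, hΦ]
    refine Finset.prod_ne_zero_iff.2 fun n _ => ?_
    rcases eq_or_ne n l with rfl | hnl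
    · simpa [hw, Function.update_of_ne hml.symm] using hwlX
    rcases eq_or_ne n m with rfl | hnm
    · simpa [hw, Function.update_of_ne hml] using hwmX
    · simp only [hw, Function.update_of_ne hnl, Function.update_of_ne hnm, Pi.one_apply, mul_one]
      rw [Finset.sum_eq_single z (fun a _ ha => by simp [Matrix.single, ha.symm]) (by simp),
        Finset.sum_eq_single z (fun a _ ha => by simp [Matrix.single, ha.symm]) (by simp)]
      simp
  exact mul_ne_zero h2 hne hsplit.symm

lemma conj_pmat {u : GL (Fin t → Fin k) F} {φ : Fin t → Matrix (Fin k) (Fin k) F → Matrix (Fin k) (Fin k) F}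
    (hφ : ∀ l X, u.val * slot l X = slot l (φ l X) * u.val) (A : Fin t → Matrix (Fin k) (Fin k) F) :
    u.val * pmat A = pmat (fun l => φ l (A l)) * u.val := by
  classical
  suffices H : ∀ s : Finset (Fin t), u.val * pmat (fun l => if l ∈ s then A l else 1) =
      pmat (fun l => if l ∈ s then φ l (A l) else 1) * u.val by
    simpa using H Finset.univ
  intro s
  induction s using Finset.induction with
  | empty => simp [show (fun _ : Fin t => (1 : Matrix (Fin k) (Fin k) F)) = 1 from rfl]
  | insert n s hn ih =>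
    have e : ∀ B : Fin t → Matrix (Fin k) (Fin k) F, (fun l => if l ∈ insert n s then B l else 1) =
        Function.update (fun l => if l ∈ s then B l else 1) n
          (B n * (if n ∈ s then B n else 1)) := fun B => by
      funext l
      rcases eq_or_ne l n with rfl | hl
      · simp [hn]
      · simp [hl]
    rw [e A, e fun l => φ l (A l), ← slot_mul_pmat, ← slot_mul_pmat, ← mul_assoc, hφ, mul_assoc,
      ih, mul_assoc]

/-- An element permuting the slots lies in the wreath group. -/
theorem mem_std_of_slots (hk : 0 < k) (ht : 0 < t) {g : GL (Fin t → Fin k) F}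
    (σ : Equiv.Perm (Fin t))
    (h : ∀ l X, ∃ Y, g.val * slot l X * (g⁻¹ : GL (Fin t → Fin k) F).val = slot (σ l) Y) :
    g ∈ tensorWreathStandard k t F := by
  classical
  set u : GL (Fin t → Fin k) F := permGL σ⁻¹ * g with hu
  have hu' : ∀ l X, ∃ Y, u.val * slot l X = slot l Y * u.val := by
    intro l X
    obtain ⟨Y, hY⟩ := h l X
    refine ⟨Y, ?_⟩
    have e : g.val * slot l X = slot (σ l) Y * g.val := by
      rw [← hY, mul_assoc _ _ g.val, Units.inv_mul, mul_one]
    rw [hu, Units.val_mul, mul_assoc, e, ← mul_assoc, coe_permGL, permMat_mul_slot, mul_assoc]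
    simp
  choose φ hφ using hu'
  have hinj : ∀ l, Function.Injective (φ l) := fun l X X' e => slot_injective l (by
    have h1 := hφ l X
    rw [e, ← hφ l X'] at h1
    exact (Units.mul_right_inj u).1 h1)
  have hcan : ∀ {P Q : Matrix (Fin t → Fin k) (Fin t → Fin k) F}, P * u.val = Q * u.val → P = Q :=
    fun e => (Units.mul_left_inj u).1 e
  let φL : ∀ l, Matrix (Fin k) (Fin k) F →ₗ[F] Matrix (Fin k) (Fin k) F := fun l =>
    { toFun := φ l
      map_add' := fun X X' => slot_injective l (hcan (by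
        rw [map_add, add_mul, ← hφ, ← hφ, ← hφ, map_add, mul_add]))
      map_smul' := fun c X => slot_injective l (hcan (by
        rw [RingHom.id_apply, map_smul, smul_mul_assoc, ← hφ, ← hφ, map_smul, mul_smul_comm])) }
  have hmul : ∀ l X X', φ l (X * X') = φ l X * φ l X' := fun l X X' => slot_injective l (hcan (by
    rw [← hφ, map_mul, map_mul, ← mul_assoc, hφ, mul_assoc, hφ, mul_assoc]))
  have hsurj : ∀ l, Function.Surjective (φL l) := fun l =>
    LinearMap.surjective_of_injective (hinj l)
  let z : Fin k := ⟨0, hk⟩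
  set P : Fin t → Matrix (Fin k) (Fin k) F := fun l => φ l (Matrix.single z z 1) with hP
  have hPXP : ∀ l Y, ∃ c : F, P l * Y * P l = c • P l := by
    intro l Y
    obtain ⟨X, rfl⟩ := hsurj l Y
    refine ⟨X z z, ?_⟩
    show φ l _ * φ l X * φ l _ = _
    rw [← hmul, ← hmul, show Matrix.single z z (1 : F) * X * Matrix.single z z 1 =
      X z z • Matrix.single z z 1 by
        rw [Matrix.single_mul_mul_single, Matrix.smul_single, one_mul, mul_one, smul_eq_mul, mul_one]]
    exact (φL l).map_smul (X z z) (Matrix.single z z 1)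
  have hP0 : ∀ l, ∃ p q, P l p q ≠ 0 := fun l => by
    by_contra hcon
    push Not at hcon
    have h0 : φ l (Matrix.single z z 1) = φ l 0 :=
      (Matrix.ext fun p q => hcon p q : P l = 0).trans (φL l).map_zero.symm
    have := congrFun (congrFun (hinj l h0) z) z
    simp at this
  choose p₀ q₀ hpq using hP0
  set col : Fin t → Fin k → F := fun l p => P l p (q₀ l)
  set row : Fin t → Fin k → F := fun l q => (P l (p₀ l) (q₀ l))⁻¹ * P l (p₀ l) q
  have hPcr : P = fun l => Matrix.vecMulVec (col l) (row l) := by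
    funext l
    ext p q
    obtain ⟨c, hc⟩ := hPXP l (Matrix.single (q₀ l) (p₀ l) 1)
    have e : ∀ a b, P l a (q₀ l) * P l (p₀ l) b = c * P l a b := fun a b => by
      have := congrFun (congrFun hc a) b
      rw [Matrix.smul_apply, smul_eq_mul] at this
      rw [← this, Matrix.mul_apply, Finset.sum_eq_single (p₀ l) (fun r _ hr => by
        rw [Matrix.mul_apply, Finset.sum_eq_zero fun s _ => by simp [Matrix.single, hr.symm],
          zero_mul]) (by simp), Matrix.mul_apply,
        Finset.sum_eq_single (q₀ l) (fun s _ hs => by simp [Matrix.single, hs.symm]) (by simp)]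
      simp
    have hc0 : c = P l (p₀ l) (q₀ l) :=
      (mul_right_cancel₀ (hpq l) (e (p₀ l) (q₀ l))).symm
    rw [Matrix.vecMulVec_apply, show col l p = P l p (q₀ l) from rfl,
      show row l q = (P l (p₀ l) (q₀ l))⁻¹ * P l (p₀ l) q from rfl, mul_left_comm, e, ← hc0,
      inv_mul_cancel_left₀ (hc0 ▸ hpq l)]
  set E0 : (Fin t → Fin k) → F := Pi.single (fun _ => z) 1 with hE0
  set v₀ := u.val *ᵥ E0 with hv₀
  set d : F := pvec row ⬝ᵥ v₀
  have hv0 : v₀ = d • pvec col := by
    have h1 := congrArg (fun M => M *ᵥ E0) (conj_pmat hφ fun _ => Matrix.single z z 1)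
    simp only [← Matrix.mulVec_mulVec, ← hv₀] at h1
    rw [pmat_single, show Matrix.single (fun _ => z) (fun _ => z) (1 : F) *ᵥ E0 = E0 by
      rw [hE0, Matrix.mulVec_single_one]; funext a; simp [Matrix.single, Pi.single_apply, eq_comm],
      ← hv₀, show (fun l => φ l (Matrix.single z z 1)) = P from rfl, hPcr, pmat_vecMulVec,
      Matrix.vecMulVec_mulVec] at h1
    conv_lhs => rw [h1]
    simp [d]
  let B : Fin t → Matrix (Fin k) (Fin k) F := fun l =>
    Matrix.of fun p q => (φ l (Matrix.single q z 1) *ᵥ col l) p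
  have hB : u.val = d • pmat B := by
    refine Matrix.ext_of_mulVec_single fun b => ?_
    have h1 := congrArg (fun M => M *ᵥ E0) (conj_pmat hφ fun l => Matrix.single (b l) z 1)
    simp only [← Matrix.mulVec_mulVec, ← hv₀] at h1
    rw [pmat_single, show Matrix.single b (fun _ => z) (1 : F) *ᵥ E0 = Pi.single b 1 by
      rw [hE0, Matrix.mulVec_single_one]; funext a; simp [Matrix.single, Pi.single_apply, eq_comm],
      hv0, Matrix.mulVec_smul, pmat_mulVec_pvec] at h1
    rw [h1, Matrix.smul_mulVec, ← pvec_single b, pmat_mulVec_pvec]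
    congr 2
    funext l
    rw [Matrix.mulVec_single_one]
    rfl
  have hg : g.val = pmat ((Function.update B ⟨0, ht⟩ (d • B ⟨0, ht⟩)) ∘ ⇑σ⁻¹) * permMat σ := by
    have : g = permGL σ * u := by rw [hu, ← mul_assoc, ← map_mul, mul_inv_cancel, map_one, one_mul]
    rw [this, Units.val_mul, coe_permGL, hB, pmat_smul_one B ⟨0, ht⟩, permMat_mul_pmat]
  exact exists_units hg

end CfsgLib.ClassicalMax.TWreath
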