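/-
A symplectic form on one factor: roots, adjoints on tensor products, blocks at a slot.
-/
import Cfsg.Agent.Lib.ClassicalMax.TWreath.Wreath
set_option autoImplicit false
set_option linter.unusedSectionVars false

namespace CfsgLib.ClassicalMax.TWreath

open Matrix Cfsg.Geo

variable {F : Type*} [Field F] {t k : ℕ}

/-- A non-degenerate alternating matrix. -/
structure Alt (F : Type*) [Field F] (k : ℕ) where
  J : Matrix (Fin k) (Fin k) F
  Ji : Matrix (Fin k) (Fin k) F
  skew : Jᵀ = -J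
  Ji_mul : Ji * J = 1
  two : (2 : F) ≠ 0

namespace Alt

variable (S : Alt F k)

lemma mul_Ji : S.J * S.Ji = 1 := mul_eq_one_comm.1 S.Ji_mul

lemma Ji_skew : S.Jiᵀ = -S.Ji := by
  have h1 : S.J * (-S.Jiᵀ) = 1 := by
    rw [mul_neg, ← neg_mul, ← S.skew, ← Matrix.transpose_mul, S.Ji_mul, Matrix.transpose_one]
  calc S.Jiᵀ = -(S.Ji * (S.J * (-S.Jiᵀ))) := by rw [← mul_assoc, S.Ji_mul, one_mul, neg_neg]
    _ = -S.Ji := by rw [h1, mul_one]

/-- The pairing. -/
def om (x w : Fin k → F) : F := (S.J *ᵥ w) ⬝ᵥ x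

lemma vecMul_J (w : Fin k → F) : w ᵥ* S.J = -(S.J *ᵥ w) := by
  rw [← Matrix.mulVec_transpose, S.skew, Matrix.neg_mulVec]

lemma om_swap (x w : Fin k → F) : S.om x w = -S.om w x := by
  rw [om, om, dotProduct_comm, Matrix.dotProduct_mulVec, S.vecMul_J, neg_dotProduct]

lemma om_self (w : Fin k → F) : S.om w w = 0 := by
  have h := S.om_swap w w
  exact (mul_eq_zero.1 (show (2 : F) * S.om w w = 0 by linear_combination h)).resolve_left S.two

lemma om_add_left (x y w : Fin k → F) : S.om (x + y) w = S.om x w + S.om y w := dotProduct_add _ _ _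

lemma om_smul_left (c : F) (x w : Fin k → F) : S.om (c • x) w = c * S.om x w := dotProduct_smul _ _ _

lemma om_sub_left (x y w : Fin k → F) : S.om (x - y) w = S.om x w - S.om y w := dotProduct_sub _ _ _

lemma om_add_right (x v w : Fin k → F) : S.om x (v + w) = S.om x v + S.om x w := by
  rw [S.om_swap, S.om_add_left, S.om_swap v, S.om_swap w]; ring

lemma om_smul_right (c : F) (x w : Fin k → F) : S.om x (c • w) = c * S.om x w := by
  rw [S.om_swap, S.om_smul_left, S.om_swap w]; ring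

lemma om_sub_right (x v w : Fin k → F) : S.om x (v - w) = S.om x v - S.om x w := by
  rw [S.om_swap, S.om_sub_left, S.om_swap v, S.om_swap w]; ring

lemma mulVec_J_surj (φ : Fin k → F) : ∃ z, S.J *ᵥ z = φ :=
  ⟨S.Ji *ᵥ φ, by rw [Matrix.mulVec_mulVec, S.mul_Ji, Matrix.one_mulVec]⟩

lemma exists_om_one {u : Fin k → F} (hu : u ≠ 0) : ∃ v, S.om v u = 1 := by
  obtain ⟨η, hη⟩ := exists_dual (v := S.J *ᵥ u) fun h => hu (by
    have := congrArg (fun x => S.Ji *ᵥ x) h
    simpa [Matrix.mulVec_mulVec, S.Ji_mul] using this)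
  exact ⟨η, by rw [om, dotProduct_comm, hη]⟩

/-- The map `x ↦ ω(x, b) a`. -/
def ro (a b : Fin k → F) : Matrix (Fin k) (Fin k) F := Matrix.vecMulVec a (S.J *ᵥ b)

lemma ro_mulVec (a b x : Fin k → F) : S.ro a b *ᵥ x = S.om x b • a := by
  rw [ro, Matrix.vecMulVec_mulVec, op_smul_eq_smul]; rfl

lemma ro_mul (a b c d : Fin k → F) : S.ro a b * S.ro c d = S.om c b • S.ro a d := by
  rw [ro, ro, Matrix.vecMulVec_mul_vecMulVec, Matrix.vecMulVec_smul]; rfl

lemma ro_add_left (a a' b : Fin k → F) : S.ro (a + a') b = S.ro a b + S.ro a' b :=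
  Matrix.add_vecMulVec _ _ _

lemma ro_add_right (a b b' : Fin k → F) : S.ro a (b + b') = S.ro a b + S.ro a b' := by
  rw [ro, Matrix.mulVec_add, Matrix.vecMulVec_add]; rfl

lemma ro_smul_left (c : F) (a b : Fin k → F) : S.ro (c • a) b = c • S.ro a b :=
  Matrix.smul_vecMulVec _ _ _

lemma ro_smul_right (c : F) (a b : Fin k → F) : S.ro a (c • b) = c • S.ro a b := by
  rw [ro, Matrix.mulVec_smul, Matrix.vecMulVec_smul]; rfl

lemma ro_neg_left (a b : Fin k → F) : S.ro (-a) b = -S.ro a b := by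
  rw [← neg_one_smul F a, ro_smul_left, neg_one_smul]

lemma ro_neg_right (a b : Fin k → F) : S.ro a (-b) = -S.ro a b := by
  rw [← neg_one_smul F b, ro_smul_right, neg_one_smul]

/-- The root of a vector. -/
def R (w : Fin k → F) : Matrix (Fin k) (Fin k) F := S.ro w w

lemma R_mulVec (w x : Fin k → F) : S.R w *ᵥ x = S.om x w • w := S.ro_mulVec _ _ _

lemma R_sq (w : Fin k → F) : S.R w * S.R w = 0 := by rw [R, ro_mul, om_self, zero_smul]

lemma R_sandwich (u v : Fin k → F) : S.R u * S.R v * S.R u = (S.om v u ^ 2 * (-1)) • S.R u := by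
  rw [R, R, ro_mul, smul_mul_assoc, ro_mul, smul_smul, S.om_swap u v]; congr 1; ring

/-- The adjoint of one factor. -/
def adj (A : Matrix (Fin k) (Fin k) F) : Matrix (Fin k) (Fin k) F := S.Ji * Aᵀ * S.J

lemma adj_add (A B : Matrix (Fin k) (Fin k) F) : S.adj (A + B) = S.adj A + S.adj B := by
  simp [adj, mul_add, add_mul]

lemma adj_smul (c : F) (A : Matrix (Fin k) (Fin k) F) : S.adj (c • A) = c • S.adj A := by
  simp [adj, smul_mul_assoc, mul_smul_comm]

lemma adj_one : S.adj 1 = 1 := by simp [adj, S.Ji_mul]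

lemma adj_mul (A B : Matrix (Fin k) (Fin k) F) : S.adj (A * B) = S.adj B * S.adj A := by
  simp only [adj, Matrix.transpose_mul, mul_assoc]
  rw [← mul_assoc S.J S.Ji, S.mul_Ji, one_mul]

lemma om_adj (A : Matrix (Fin k) (Fin k) F) (x z : Fin k → F) :
    S.om (A *ᵥ x) z = S.om x (S.adj A *ᵥ z) := by
  rw [om, om, adj, ← Matrix.mulVec_mulVec, ← Matrix.mulVec_mulVec, Matrix.mulVec_mulVec _ S.J S.Ji,
    S.mul_Ji, Matrix.one_mulVec, Matrix.dotProduct_mulVec, Matrix.mulVec_transpose]

lemma adj_ro (a b : Fin k → F) : S.adj (S.ro a b) = -S.ro b a := by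
  rw [adj, ro, Matrix.transpose_vecMulVec, Matrix.mul_vecMulVec, Matrix.vecMulVec_mul,
    Matrix.mulVec_mulVec, S.Ji_mul, Matrix.one_mulVec, S.vecMul_J, Matrix.vecMulVec_neg]
  rfl

lemma adj_R (w : Fin k → F) : S.adj (S.R w) = -S.R w := S.adj_ro w w

/-- The symmetric map of two vectors. -/
def E (a b : Fin k → F) : Matrix (Fin k) (Fin k) F := S.ro a b + S.ro b a

lemma adj_E (a b : Fin k → F) : S.adj (S.E a b) = -S.E a b := by
  rw [E, adj_add, adj_ro, adj_ro]; abel

lemma R_add (a b : Fin k → F) : S.R (a + b) = S.R a + S.E a b + S.R b := by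
  simp only [R, E, ro_add_left, ro_add_right]; abel

lemma R_sub (a b : Fin k → F) : S.R (a - b) = S.R a - S.E a b + S.R b := by
  rw [sub_eq_add_neg a b, R_add, show S.E a (-b) = -S.E a b by
    rw [E, E, ro_neg_right, ro_neg_left]; abel,
    show S.R (-b) = S.R b by rw [R, R, ro_neg_right, ro_neg_left, neg_neg]]
  abel

lemma R_smul (c : F) (a : Fin k → F) : S.R (c • a) = (c * c) • S.R a := by
  rw [R, R, ro_smul_left, ro_smul_right, smul_smul]

/-- The adjoint on the tensor power. -/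
def adjB : Matrix (Fin t → Fin k) (Fin t → Fin k) F →ₗ[F] Matrix (Fin t → Fin k) (Fin t → Fin k) F where
  toFun M := pmat (fun _ => S.Ji) * Mᵀ * pmat fun _ => S.J
  map_add' M N := by rw [Matrix.transpose_add, mul_add, add_mul]
  map_smul' c M := by rw [Matrix.transpose_smul, mul_smul_comm, smul_mul_assoc]; rfl

lemma pmat_J_mul_Ji : pmat (fun _ : Fin t => S.J) * pmat (fun _ => S.Ji) = 1 := by
  rw [pmat_mul]; simp only [S.mul_Ji]; exact pmat_one

lemma pmat_Ji_mul_J : pmat (fun _ : Fin t => S.Ji) * pmat (fun _ => S.J) = 1 := by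
  rw [pmat_mul]; simp only [S.Ji_mul]; exact pmat_one

lemma adjB_mul (M N : Matrix (Fin t → Fin k) (Fin t → Fin k) F) :
    S.adjB (M * N) = S.adjB N * S.adjB M := by
  show _ * (M * N)ᵀ * _ = (_ * Nᵀ * _) * (_ * Mᵀ * _)
  simp only [Matrix.transpose_mul, mul_assoc]
  rw [← mul_assoc (pmat fun _ : Fin t => S.J) (pmat fun _ => S.Ji), S.pmat_J_mul_Ji, one_mul]

lemma adjB_one : S.adjB (1 : Matrix (Fin t → Fin k) (Fin t → Fin k) F) = 1 := by
  show _ * (1 : Matrix (Fin t → Fin k) (Fin t → Fin k) F)ᵀ * _ = _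
  rw [Matrix.transpose_one, mul_one, S.pmat_Ji_mul_J]

lemma adjB_pmat (A : Fin t → Matrix (Fin k) (Fin k) F) :
    S.adjB (pmat A) = pmat fun l => S.adj (A l) := by
  show _ * (pmat A)ᵀ * _ = _
  rw [show (pmat A)ᵀ = pmat fun l => (A l)ᵀ from rfl, pmat_mul, pmat_mul]
  rfl

lemma adjB_slot (i : Fin t) (X : Matrix (Fin k) (Fin k) F) :
    S.adjB (slot i X) = slot i (S.adj X) := by
  rw [slot_eq, adjB_pmat, slot_eq]
  congr 1
  funext l
  rcases eq_or_ne l i with rfl | h
  · simp
  · simp [Function.update_of_ne h, adj_one]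

/-- The isometries of the tensor power. -/
def Iso (t : ℕ) : Subgroup (GL (Fin t → Fin k) F) where
  carrier := {g | S.adjB g.val * g.val = 1}
  one_mem' := by
    show S.adjB (1 : Matrix (Fin t → Fin k) (Fin t → Fin k) F) * 1 = 1
    rw [mul_one, adjB_one]
  mul_mem' {g h} hg hh := by
    show S.adjB (g.val * h.val) * (g.val * h.val) = 1
    rw [adjB_mul, mul_assoc, ← mul_assoc (S.adjB g.val), hg, one_mul]
    exact hh
  inv_mem' {g} hg := by
    have h1 : S.adjB g.val = (g⁻¹).val := by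
      calc S.adjB g.val = S.adjB g.val * (g.val * (g⁻¹).val) := by rw [Units.mul_inv, mul_one]
        _ = (g⁻¹).val := by rw [← mul_assoc, hg, one_mul]
    have h2 : S.adjB (g⁻¹).val * S.adjB g.val = 1 := by
      rw [← adjB_mul, Units.mul_inv, adjB_one]
    show S.adjB (g⁻¹).val * (g⁻¹).val = 1
    nth_rw 2 [← h1]
    exact h2

lemma mem_Iso {g : GL (Fin t → Fin k) F} : g ∈ S.Iso t ↔ S.adjB g.val * g.val = 1 := Iff.rfl

lemma adjB_eq_inv {g : GL (Fin t → Fin k) F} (hg : g ∈ S.Iso t) : S.adjB g.val = (g⁻¹).val := by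
  calc S.adjB g.val = S.adjB g.val * (g.val * (g⁻¹).val) := by rw [Units.mul_inv, mul_one]
    _ = (g⁻¹).val := by rw [← mul_assoc, hg, one_mul]

lemma permGL_mem_Iso (σ : Equiv.Perm (Fin t)) : permGL σ ∈ S.Iso t := by
  rw [mem_Iso]
  show pmat (fun _ => S.Ji) * (permMat σ)ᵀ * pmat (fun _ => S.J) * permMat σ = 1
  have e : (permMat σ : Matrix (Fin t → Fin k) (Fin t → Fin k) F)ᵀ = permMat σ⁻¹ := by
    ext a b
    simp only [Matrix.transpose_apply, permMat]
    have : (a = b ∘ ⇑σ) ↔ (b = a ∘ ⇑σ⁻¹) := by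
      constructor <;> rintro rfl <;> funext l <;> simp
    simp [this]
  rw [e, mul_assoc, mul_assoc, ← mul_assoc (permMat σ⁻¹), permMat_mul_pmat, mul_assoc, permMat_mul,
    inv_mul_cancel, permMat_one, mul_one]
  exact S.pmat_Ji_mul_J

end Alt

/-- The block of a matrix at a slot against a functional and a vector. -/
def blk (i : Fin t) (φ x : Fin k → F) :
    Matrix (Fin t → Fin k) (Fin t → Fin k) F →ₗ[F] Matrix (Fin t → Fin k) (Fin t → Fin k) F :=
  ∑ p : Fin k, (LinearMap.mulLeft F (slot i (Matrix.vecMulVec (Pi.single p 1) φ))) ∘ₗ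
    (LinearMap.mulRight F (slot i (Matrix.vecMulVec x (Pi.single p 1))))

lemma blk_apply (i : Fin t) (φ x : Fin k → F) (M : Matrix (Fin t → Fin k) (Fin t → Fin k) F) :
    blk i φ x M = ∑ p : Fin k, slot i (Matrix.vecMulVec (Pi.single p 1) φ) * M *
      slot i (Matrix.vecMulVec x (Pi.single p 1)) := by
  simp [blk, mul_assoc]

lemma sum_vecMulVec_single :
    ∑ p : Fin k, Matrix.vecMulVec (Pi.single p (1 : F)) (Pi.single p 1) = 1 := by
  ext a b
  simp [Matrix.sum_apply, Matrix.vecMulVec_apply, Pi.single_apply, Matrix.one_apply, eq_comm]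

lemma vecMulVec_single_eq (a b : Fin k) :
    Matrix.vecMulVec (Pi.single a (1 : F)) (Pi.single b 1) = Matrix.single a b 1 := by
  ext p q
  simp [Matrix.vecMulVec_apply, Pi.single_apply, Matrix.single, ← ite_and, eq_comm, and_comm]

lemma blk_pmat (i : Fin t) (φ x : Fin k → F) (A : Fin t → Matrix (Fin k) (Fin k) F) :
    blk i φ x (pmat A) = (φ ⬝ᵥ A i *ᵥ x) • pmat (Function.update A i 1) := by
  rw [blk_apply, ← pmat_update_smul, ← sum_vecMulVec_single, Finset.smul_sum]
  have hsum : ∀ (s : Finset (Fin k)) (X : Fin k → Matrix (Fin k) (Fin k) F),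
      pmat (Function.update A i (∑ p ∈ s, X p)) = ∑ p ∈ s, pmat (Function.update A i (X p)) := by
    intro s X
    induction s using Finset.induction with
    | empty => ext a b; simp [pmat_update_apply]
    | insert p s hp ih => rw [Finset.sum_insert hp, pmat_update_add, ih, Finset.sum_insert hp]
  rw [hsum]
  refine Finset.sum_congr rfl fun p _ => ?_
  rw [slot_mul_pmat, pmat_mul_slot, Function.update_idem, Function.update_self, Matrix.vecMulVec_mul,
    Matrix.vecMulVec_mul_vecMulVec, Matrix.dotProduct_mulVec, ← Matrix.smul_vecMulVec,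
    Matrix.smul_vecMulVec, Matrix.vecMulVec_smul]

lemma blk_add_left (i : Fin t) (φ φ' x : Fin k → F) (M : Matrix (Fin t → Fin k) (Fin t → Fin k) F) :
    blk i (φ + φ') x M = blk i φ x M + blk i φ' x M := by
  simp only [blk_apply, Matrix.vecMulVec_add, map_add, add_mul, Finset.sum_add_distrib]

lemma blk_add_right (i : Fin t) (φ x x' : Fin k → F) (M : Matrix (Fin t → Fin k) (Fin t → Fin k) F) :
    blk i φ (x + x') M = blk i φ x M + blk i φ x' M := by
  simp only [blk_apply, Matrix.add_vecMulVec, map_add, mul_add, Finset.sum_add_distrib]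

lemma blk_smul_left (i : Fin t) (c : F) (φ x : Fin k → F)
    (M : Matrix (Fin t → Fin k) (Fin t → Fin k) F) : blk i (c • φ) x M = c • blk i φ x M := by
  simp only [blk_apply, Matrix.vecMulVec_smul, map_smul, smul_mul_assoc, Finset.smul_sum]

lemma blk_smul_right (i : Fin t) (c : F) (φ x : Fin k → F)
    (M : Matrix (Fin t → Fin k) (Fin t → Fin k) F) : blk i φ (c • x) M = c • blk i φ x M := by
  simp only [blk_apply, Matrix.smul_vecMulVec, map_smul, mul_smul_comm, Finset.smul_sum]

lemma blk_mul_slot (i : Fin t) (φ x : Fin k → F) (M : Matrix (Fin t → Fin k) (Fin t → Fin k) F)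
    (A : Matrix (Fin k) (Fin k) F) : blk i φ x (M * slot i A) = blk i φ (A *ᵥ x) M := by
  simp only [blk_apply]
  refine Finset.sum_congr rfl fun p _ => ?_
  rw [mul_assoc, mul_assoc M, ← map_mul, Matrix.mul_vecMulVec, ← mul_assoc]

lemma blk_slot_mul (i : Fin t) (φ x : Fin k → F) (M : Matrix (Fin t → Fin k) (Fin t → Fin k) F)
    (A : Matrix (Fin k) (Fin k) F) : blk i φ x (slot i A * M) = blk i (φ ᵥ* A) x M := by
  simp only [blk_apply]
  refine Finset.sum_congr rfl fun p _ => ?_
  rw [← mul_assoc, ← map_mul, Matrix.vecMulVec_mul]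

lemma blk_one (i : Fin t) (φ x : Fin k → F) :
    blk i φ x (1 : Matrix (Fin t → Fin k) (Fin t → Fin k) F) = (φ ⬝ᵥ x) • 1 := by
  rw [← pmat_one, blk_pmat, show Function.update (1 : Fin t → Matrix (Fin k) (Fin k) F) i 1 = 1 from
    Function.update_eq_self i (1 : Fin t → Matrix (Fin k) (Fin k) F)]
  simp

lemma blk_slot (i : Fin t) (φ x : Fin k → F) (A : Matrix (Fin k) (Fin k) F) :
    blk i φ x (slot i A) = (φ ⬝ᵥ A *ᵥ x) • 1 := by
  rw [← one_mul (slot i A), blk_mul_slot, blk_one]

/-- Blocks commute with the slot. -/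
lemma blk_comm (i : Fin t) (φ x : Fin k → F) (M : Matrix (Fin t → Fin k) (Fin t → Fin k) F)
    (X : Matrix (Fin k) (Fin k) F) : slot i X * blk i φ x M = blk i φ x M * slot i X := by
  suffices H : LinearMap.mulLeft F (slot i X) ∘ₗ blk i φ x = LinearMap.mulRight F (slot i X) ∘ₗ blk i φ x by
    exact LinearMap.congr_fun H M
  refine ext_pmat fun A => ?_
  simp [blk_pmat, slot_mul_pmat, pmat_mul_slot, mul_smul_comm, smul_mul_assoc]

/-- A matrix is recovered from its blocks. -/
lemma sum_slot_blk (i : Fin t) (M : Matrix (Fin t → Fin k) (Fin t → Fin k) F) :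
    ∑ a, ∑ b, slot i (Matrix.single a b 1) * blk i (Pi.single a 1) (Pi.single b 1) M = M := by
  let L : Matrix (Fin t → Fin k) (Fin t → Fin k) F →ₗ[F] Matrix (Fin t → Fin k) (Fin t → Fin k) F :=
    ∑ a, ∑ b, LinearMap.mulLeft F (slot i (Matrix.single a b 1)) ∘ₗ
      blk i (Pi.single a 1) (Pi.single b 1)
  suffices H : L = LinearMap.id by simpa [L] using LinearMap.congr_fun H M
  refine ext_pmat fun A => ?_
  have hs : ∀ (s : Finset (Fin k × Fin k)) (X : Fin k × Fin k → Matrix (Fin k) (Fin k) F),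
      pmat (Function.update A i (∑ p ∈ s, X p)) = ∑ p ∈ s, pmat (Function.update A i (X p)) := by
    intro s X
    induction s using Finset.induction with
    | empty => ext a b; simp [pmat_update_apply]
    | insert p s hp ih => rw [Finset.sum_insert hp, pmat_update_add, ih, Finset.sum_insert hp]
  conv_rhs => rw [LinearMap.id_apply, ← Function.update_eq_self i A,
    Matrix.matrix_eq_sum_single (A i), ← Fintype.sum_prod_type', hs, Fintype.sum_prod_type]
  simp [L, blk_pmat, slot_mul_pmat, ← pmat_update_smul, Matrix.smul_single]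

lemma eq_of_blk (i : Fin t) {M N : Matrix (Fin t → Fin k) (Fin t → Fin k) F}
    (h : ∀ φ x, blk i φ x M = blk i φ x N) : M = N := by
  rw [← sum_slot_blk i M, ← sum_slot_blk i N]
  simp only [h]

/-- A matrix with scalar blocks is a slot. -/
lemma slot_of_blk (i : Fin t) {M : Matrix (Fin t → Fin k) (Fin t → Fin k) F}
    (h : ∀ φ x, ∃ c : F, blk i φ x M = c • 1) : ∃ X, M = slot i X := by
  choose c hc using h
  refine ⟨∑ a, ∑ b, c (Pi.single a 1) (Pi.single b 1) • Matrix.single a b 1, ?_⟩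
  conv_lhs => rw [← sum_slot_blk i M]
  simp only [hc, map_sum, map_smul, mul_smul_comm, mul_one]

lemma sandwich_blk (i : Fin t) (a φ x ψ : Fin k → F) (M : Matrix (Fin t → Fin k) (Fin t → Fin k) F) :
    slot i (Matrix.vecMulVec a φ) * M * slot i (Matrix.vecMulVec x ψ) =
      slot i (Matrix.vecMulVec a ψ) * blk i φ x M := by
  suffices H : LinearMap.mulRight F (slot i (Matrix.vecMulVec x ψ)) ∘ₗ
      LinearMap.mulLeft F (slot i (Matrix.vecMulVec a φ)) =
      LinearMap.mulLeft F (slot i (Matrix.vecMulVec a ψ)) ∘ₗ blk i φ x by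
    exact LinearMap.congr_fun H M
  refine ext_pmat fun A => ?_
  simp only [LinearMap.comp_apply, LinearMap.mulLeft_apply, LinearMap.mulRight_apply, blk_pmat,
    slot_mul_pmat, pmat_mul_slot, mul_smul_comm, Function.update_idem, Function.update_self, mul_one,
    ← pmat_update_smul]
  congr 2
  rw [Matrix.vecMulVec_mul, Matrix.vecMulVec_mul_vecMulVec, Matrix.dotProduct_mulVec,
    Matrix.vecMulVec_smul]

namespace Alt

variable (S : Alt F k)

/-- The adjoint on some of the factors. -/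
def adjOn (s : Finset (Fin t)) :
    Matrix (Fin t → Fin k) (Fin t → Fin k) F →ₗ[F] Matrix (Fin t → Fin k) (Fin t → Fin k) F where
  toFun M := ∑ a, ∑ b, M a b •
    pmat (fun l => if l ∈ s then S.adj (Matrix.single (a l) (b l) 1) else Matrix.single (a l) (b l) 1)
  map_add' M N := by simp only [Matrix.add_apply, add_smul, Finset.sum_add_distrib]
  map_smul' c M := by
    simp only [Matrix.smul_apply, smul_eq_mul, RingHom.id_apply, Finset.smul_sum, smul_smul]

lemma adjOn_pmat (s : Finset (Fin t)) (A : Fin t → Matrix (Fin k) (Fin k) F) :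
    S.adjOn s (pmat A) = pmat fun l => if l ∈ s then S.adj (A l) else A l := by
  ext c d
  show (∑ a, ∑ b, pmat A a b • pmat _ : Matrix (Fin t → Fin k) (Fin t → Fin k) F) c d = _
  simp only [Matrix.sum_apply, Matrix.smul_apply, smul_eq_mul]
  refine (sum_pmat_mul A fun l => Matrix.of fun p q => (if l ∈ s then S.adj (Matrix.single p q 1)
    else Matrix.single p q 1 : Matrix (Fin k) (Fin k) F) (c l) (d l)).trans
      (Finset.prod_congr rfl fun l _ => ?_)
  show _ = (if l ∈ s then S.adj (A l) else A l) (c l) (d l)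
  conv_rhs => rw [Matrix.matrix_eq_sum_single (A l)]
  split_ifs with hl
  · have e : ∀ (f : Fin k → Fin k → Matrix (Fin k) (Fin k) F),
        S.adj (∑ p, ∑ q, f p q) = ∑ p, ∑ q, S.adj (f p q) := fun f => by
      simp only [adj, Matrix.transpose_sum, Finset.mul_sum, Finset.sum_mul]
    rw [e, Matrix.sum_apply]
    simp only [Matrix.of_apply, if_pos hl]
    refine Finset.sum_congr rfl fun p _ => ?_
    rw [Matrix.sum_apply]
    refine Finset.sum_congr rfl fun q _ => ?_
    rw [show Matrix.single p q (A l p q) = A l p q • Matrix.single p q (1 : F) by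
      rw [Matrix.smul_single, smul_eq_mul, mul_one], S.adj_smul, Matrix.smul_apply, smul_eq_mul]
  · rw [Matrix.sum_apply]
    simp only [Matrix.of_apply, if_neg hl]
    refine Finset.sum_congr rfl fun p _ => ?_
    rw [Matrix.sum_apply]
    refine Finset.sum_congr rfl fun q _ => ?_
    rw [show Matrix.single p q (A l p q) = A l p q • Matrix.single p q (1 : F) by
      rw [Matrix.smul_single, smul_eq_mul, mul_one], Matrix.smul_apply, smul_eq_mul]

lemma adjOn_insert {s : Finset (Fin t)} {i : Fin t} (hi : i ∉ s)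
    (M : Matrix (Fin t → Fin k) (Fin t → Fin k) F) :
    S.adjOn (insert i s) M = S.adjOn {i} (S.adjOn s M) := by
  suffices H : S.adjOn (insert i s) = S.adjOn {i} ∘ₗ S.adjOn s from LinearMap.congr_fun H M
  refine ext_pmat fun A => ?_
  rw [LinearMap.comp_apply, adjOn_pmat, adjOn_pmat, adjOn_pmat]
  congr 1
  funext l
  rcases eq_or_ne l i with rfl | h
  · simp [hi]
  · simp [h]

lemma adjOn_univ (M : Matrix (Fin t → Fin k) (Fin t → Fin k) F) :
    S.adjOn Finset.univ M = S.adjB M := by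
  suffices H : S.adjOn (Finset.univ : Finset (Fin t)) = S.adjB from LinearMap.congr_fun H M
  exact ext_pmat fun A => by simp [adjOn_pmat, adjB_pmat]

lemma adjOn_empty (M : Matrix (Fin t → Fin k) (Fin t → Fin k) F) :
    S.adjOn (∅ : Finset (Fin t)) M = M := by
  suffices H : S.adjOn (∅ : Finset (Fin t)) = LinearMap.id from LinearMap.congr_fun H M
  exact ext_pmat fun A => by simp [adjOn_pmat]

lemma adjOn_adjOn (i : Fin t) (hid : ∀ A, S.adj (S.adj A) = A)
    (M : Matrix (Fin t → Fin k) (Fin t → Fin k) F) : S.adjOn {i} (S.adjOn {i} M) = M := by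
  suffices H : S.adjOn {i} ∘ₗ S.adjOn {i} = LinearMap.id from LinearMap.congr_fun H M
  refine ext_pmat fun A => ?_
  rw [LinearMap.comp_apply, adjOn_pmat, adjOn_pmat]
  show pmat _ = pmat A
  congr 1
  funext l
  split_ifs <;> simp [hid]

lemma adj_adj (A : Matrix (Fin k) (Fin k) F) : S.adj (S.adj A) = A := by
  simp only [adj, Matrix.transpose_mul, Matrix.transpose_transpose, S.skew, S.Ji_skew, neg_mul,
    mul_neg, neg_neg, mul_assoc]
  rw [S.Ji_mul, mul_one, ← mul_assoc, S.Ji_mul, one_mul]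

/-- The blocks of the adjoint at the slot. -/
lemma blk_adjOn (i : Fin t) (z x : Fin k → F) (M : Matrix (Fin t → Fin k) (Fin t → Fin k) F) :
    blk i (S.J *ᵥ z) x (S.adjOn {i} M) = -blk i (S.J *ᵥ x) z M := by
  suffices H : blk i (S.J *ᵥ z) x ∘ₗ S.adjOn {i} = -(blk i (S.J *ᵥ x) z) by
    exact LinearMap.congr_fun H M
  refine ext_pmat fun A => ?_
  rw [LinearMap.comp_apply, adjOn_pmat, LinearMap.neg_apply, blk_pmat, blk_pmat, if_pos (by simp),
    ← neg_smul]
  congr 1
  · show S.om (S.adj (A i) *ᵥ x) z = -S.om (A i *ᵥ z) x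
    rw [S.om_adj (A i), S.om_swap (S.adj (A i) *ᵥ x)]
  · congr 1
    funext l
    rcases eq_or_ne l i with rfl | h
    · simp
    · simp [h]

end Alt

end CfsgLib.ClassicalMax.TWreath
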