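/-
Above the stabiliser of a symplectic tensor power with only scalar root sets, a conjugate root
opposite to a slot root is a slot element.
-/
import Cfsg.Agent.Lib.ClassicalMax.TWreath.SpAdj
set_option autoImplicit false
set_option linter.unusedSectionVars false

namespace CfsgLib.ClassicalMax.TWreath

open Matrix Cfsg.Geo

section Nilp

variable {F : Type*} [Field F] {A : Type*} [Ring A] [Algebra F A] {r : A}

/-- The radical shape of a square zero element. -/
def Shp (r n : A) : Prop := (∃ a b, n = r * a + b * r) ∧ r * n = 0 ∧ n * r = 0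

lemma Shp.add {n n' : A} (h : Shp r n) (h' : Shp r n') : Shp r (n + n') := by
  obtain ⟨⟨a, b, rfl⟩, h1, h2⟩ := h
  obtain ⟨⟨a', b', rfl⟩, h1', h2'⟩ := h'
  exact ⟨⟨a + a', b + b', by rw [mul_add, add_mul]; abel⟩, by rw [mul_add, h1, h1', add_zero],
    by rw [add_mul, h2, h2', add_zero]⟩

lemma Shp.smul {n : A} (h : Shp r n) (c : F) : Shp r (c • n) := by
  obtain ⟨⟨a, b, rfl⟩, h1, h2⟩ := h
  exact ⟨⟨c • a, c • b, by rw [smul_add, mul_smul_comm, smul_mul_assoc]⟩,
    by rw [mul_smul_comm, h1, smul_zero], by rw [smul_mul_assoc, h2, smul_zero]⟩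

lemma Shp.neg {n : A} (h : Shp r n) : Shp r (-n) := by
  obtain ⟨⟨a, b, rfl⟩, h1, h2⟩ := h
  exact ⟨⟨-a, -b, by rw [mul_neg, neg_mul, neg_add]⟩, by rw [mul_neg, h1, neg_zero],
    by rw [neg_mul, h2, neg_zero]⟩

lemma Shp.sub {n n' : A} (h : Shp r n) (h' : Shp r n') : Shp r (n - n') := by
  rw [sub_eq_add_neg]; exact h.add h'.neg

lemma shp_sandwich (hr : r * r = 0) (x : A) : Shp r (r * x * r) :=
  ⟨⟨x * r, 0, by rw [zero_mul, add_zero, mul_assoc]⟩, by rw [← mul_assoc, ← mul_assoc, hr, zero_mul, zero_mul],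
    by rw [mul_assoc, hr, mul_zero]⟩

lemma Shp.mul (hr : r * r = 0) {n n' : A} (h : Shp r n) (h' : Shp r n') :
    ∃ x, n * n' = r * x * r := by
  obtain ⟨⟨a, b, rfl⟩, h1, h2⟩ := h
  obtain ⟨⟨a', b', rfl⟩, h1', h2'⟩ := h'
  have e : r * a * r = 0 := by
    rw [add_mul, mul_assoc b, hr, mul_zero, add_zero] at h2; exact h2
  refine ⟨a * b', ?_⟩
  rw [add_mul (r * a), mul_assoc b r, h1', mul_zero, add_zero, mul_add, ← mul_assoc (r * a) r a', e,
    zero_mul, zero_add, ← mul_assoc, mul_assoc r a b']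

lemma Shp.triple (hr : r * r = 0) {n n' n'' : A} (h : Shp r n) (h' : Shp r n') (h'' : Shp r n'') :
    n * n' * n'' = 0 := by
  obtain ⟨x, hx⟩ := h.mul hr h'
  rw [hx, mul_assoc, h''.2.1, mul_zero]

lemma Shp.conj {n u u' : A} (h : Shp r n) (hu : r * u = u * r) (hu' : r * u' = u' * r) :
    Shp r (u * n * u') := by
  obtain ⟨⟨a, b, rfl⟩, h1, h2⟩ := h
  refine ⟨⟨u * a * u', u * b * u', ?_⟩, ?_, ?_⟩
  · rw [mul_add, add_mul, ← mul_assoc u r, ← hu, mul_assoc r u, mul_assoc r (u * a),
      mul_assoc (u * b) u' r, ← hu', ← mul_assoc u b r, ← mul_assoc (u * b) r]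
  · rw [← mul_assoc, ← mul_assoc, hu, mul_assoc u r, h1, mul_zero, zero_mul]
  · rw [mul_assoc _ u' r, ← hu', ← mul_assoc, mul_assoc u _ r, h2, mul_zero, zero_mul]

variable (F)

/-- The exponential of degree two. -/
def ex (n : A) : A := 1 + n + (2⁻¹ : F) • (n * n)

variable {F}

lemma ex_zero : ex F (0 : A) = 1 := by simp [ex]

lemma ex_sq_zero {n : A} (h : n * n = 0) : ex F n = 1 + n := by simp [ex, h]

lemma ex_sandwich (hr : r * r = 0) {n : A} (h : Shp r n) {u v : A} (huv : u * v = 1) (hvu : v * u = 1) :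
    u * ex F n * v = ex F (u * n * v) := by
  rw [ex, ex, mul_add, mul_add, add_mul, add_mul, mul_one, huv, mul_smul_comm, smul_mul_assoc]
  congr 2
  rw [mul_assoc (u * n) v, ← mul_assoc v (u * n) v, ← mul_assoc v u n, hvu, one_mul]
  simp only [mul_assoc]

lemma ex_mul_of_comm (hr : r * r = 0) (h2 : (2 : F) ≠ 0) {a b : A} (ha : Shp r a) (hb : Shp r b)
    (hab : a * b = b * a) : ex F a * ex F b = ex F (a + b) := by
  have t : ∀ {x y z : A}, Shp r x → Shp r y → Shp r z → x * (y * z) = 0 := fun hx hy hz => by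
    rw [← mul_assoc, hx.triple hr hy hz]
  simp only [ex, mul_add, add_mul, mul_smul_comm, smul_mul_assoc, mul_one, one_mul, smul_add,
    mul_assoc, t ha ha hb, t ha hb hb, mul_zero, smul_zero, add_zero, ← hab]
  match_scalars <;> field_simp <;> ring

lemma ex_neg (hr : r * r = 0) (h2 : (2 : F) ≠ 0) {a : A} (ha : Shp r a) :
    ex F a * ex F (-a) = 1 := by
  rw [ex_mul_of_comm hr h2 ha ha.neg (by rw [mul_neg, neg_mul]), add_neg_cancel, ex_zero]

lemma ex_three (hr : r * r = 0) (h2 : (2 : F) ≠ 0) {a y : A} (ha : Shp r a) (hy : Shp r y) :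
    ex F a * ex F y * ex F a = ex F (a + a + y) := by
  have t : ∀ {x y z : A}, Shp r x → Shp r y → Shp r z → x * (y * z) = 0 := fun hx hy hz => by
    rw [← mul_assoc, hx.triple hr hy hz]
  have q : ∀ {x y z : A} (w : A), Shp r x → Shp r y → Shp r z → x * (y * (z * w)) = 0 :=
    fun w hx hy hz => by rw [← mul_assoc, ← mul_assoc, hx.triple hr hy hz, zero_mul]
  simp only [ex, mul_add, add_mul, mul_smul_comm, smul_mul_assoc, mul_one, one_mul, smul_add,
    mul_assoc, t ha ha ha, t ha ha hy, t ha hy ha, t hy ha ha, t ha hy hy, t hy hy ha,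
    q _ ha ha ha, q _ ha ha hy, q _ ha hy hy, q _ ha hy ha, q _ hy hy ha, q _ hy ha ha,
    smul_zero, add_zero, mul_zero]
  match_scalars <;> field_simp <;> ring

end Nilp

section Wy

variable {F : Type*} [Field F] {A : Type*} [Ring A] [Algebra F A]

/-- The monomial element of two opposite square zero elements. -/
def wy (r y : A) (s : F) : A := (1 + s • r) * (1 - s⁻¹ • y) * (1 + s • r)

variable {r y : A} (hr : r * r = 0) (hy : y * y = 0) (h1 : r * y * r = r) (h2 : y * r * y = y)
include hr hy h1 h2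

lemma wy_eq {s : F} (hs : s ≠ 0) :
    wy r y s = (1 - r * y - y * r) + s • r - s⁻¹ • y := by
  simp only [wy, add_mul, mul_add, sub_mul, mul_sub, one_mul, mul_one, smul_mul_assoc, mul_smul_comm,
    hr, h1, smul_smul, smul_zero]
  match_scalars <;> field_simp <;> ring

lemma wy_mul_neg {s : F} (hs : s ≠ 0) : wy r y s * wy r y (-s) = 1 := by
  rw [wy_eq hr hy h1 h2 hs, wy_eq hr hy h1 h2 (neg_ne_zero.2 hs)]
  have h1' : r * (y * r) = r := by rw [← mul_assoc, h1]
  have h2' : y * (r * y) = y := by rw [← mul_assoc, h2]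
  have hr' : ∀ x, r * (r * x) = 0 := fun x => by rw [← mul_assoc, hr, zero_mul]
  have hy' : ∀ x, y * (y * x) = 0 := fun x => by rw [← mul_assoc, hy, zero_mul]
  have h1'' : ∀ x, r * (y * (r * x)) = r * x := fun x => by rw [← mul_assoc y, ← mul_assoc, ← mul_assoc r, h1]
  have h2'' : ∀ x, y * (r * (y * x)) = y * x := fun x => by rw [← mul_assoc r, ← mul_assoc, ← mul_assoc y, h2]
  simp only [add_mul, mul_add, sub_mul, mul_sub, one_mul, mul_one, smul_mul_assoc, mul_smul_comm,
    mul_assoc, hr, hy, h1', h2', hr', hy', h1'', h2'', mul_zero, zero_mul, smul_zero, sub_zero, zero_sub, add_zero, zero_add, sub_self, inv_one, one_smul,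
    neg_mul, mul_neg, smul_neg, smul_smul]
  match_scalars <;> field_simp <;> ring

lemma wy_one_sq : wy r y (1 : F) * wy r y (1 : F) = 1 - (2 : F) • (r * y + y * r) := by
  rw [wy_eq hr hy h1 h2 one_ne_zero]
  have h1' : r * (y * r) = r := by rw [← mul_assoc, h1]
  have h2' : y * (r * y) = y := by rw [← mul_assoc, h2]
  have hr' : ∀ x, r * (r * x) = 0 := fun x => by rw [← mul_assoc, hr, zero_mul]
  have hy' : ∀ x, y * (y * x) = 0 := fun x => by rw [← mul_assoc, hy, zero_mul]
  have h1'' : ∀ x, r * (y * (r * x)) = r * x := fun x => by rw [← mul_assoc y, ← mul_assoc, ← mul_assoc r, h1]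
  have h2'' : ∀ x, y * (r * (y * x)) = y * x := fun x => by rw [← mul_assoc r, ← mul_assoc, ← mul_assoc y, h2]
  simp only [add_mul, mul_add, sub_mul, mul_sub, one_mul, mul_one, smul_mul_assoc, mul_smul_comm,
    mul_assoc, hr, hy, h1', h2', hr', hy', h1'', h2'', mul_zero, smul_zero, inv_one, one_smul]
  match_scalars <;> field_simp <;> ring

/-- The torus element scales the first element. -/
lemma wy_torus {s : F} (hs : s ≠ 0) :
    wy r y s * wy r y (1 : F) * r * (wy r y (-1 : F) * wy r y (-s)) = (s * s) • r := by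
  have h1' : r * (y * r) = r := by rw [← mul_assoc, h1]
  have h2' : y * (r * y) = y := by rw [← mul_assoc, h2]
  have hr' : ∀ x, r * (r * x) = 0 := fun x => by rw [← mul_assoc, hr, zero_mul]
  have hy' : ∀ x, y * (y * x) = 0 := fun x => by rw [← mul_assoc, hy, zero_mul]
  have h1'' : ∀ x, r * (y * (r * x)) = r * x := fun x => by rw [← mul_assoc y, ← mul_assoc, ← mul_assoc r, h1]
  have h2'' : ∀ x, y * (r * (y * x)) = y * x := fun x => by rw [← mul_assoc r, ← mul_assoc, ← mul_assoc y, h2]
  have e1 : wy r y (1 : F) * r * wy r y (-1 : F) = -y := by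
    rw [wy_eq hr hy h1 h2 one_ne_zero, wy_eq hr hy h1 h2 (neg_ne_zero.2 one_ne_zero)]
    simp only [add_mul, mul_add, sub_mul, mul_sub, one_mul, mul_one, smul_mul_assoc, mul_smul_comm,
      mul_assoc, hr, hy, h1', h2', hr', hy', h1'', h2'', mul_zero, zero_mul, smul_zero, sub_zero, zero_sub, add_zero, zero_add, sub_self, inv_one, one_smul,
    neg_mul, mul_neg, smul_neg, smul_smul]
    match_scalars <;> field_simp <;> ring
  calc wy r y s * wy r y (1 : F) * r * (wy r y (-1 : F) * wy r y (-s))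
      = wy r y s * (wy r y (1 : F) * r * wy r y (-1 : F)) * wy r y (-s) := by simp only [mul_assoc]
    _ = (s * s) • r := by
      rw [e1, wy_eq hr hy h1 h2 hs, wy_eq hr hy h1 h2 (neg_ne_zero.2 hs)]
      simp only [add_mul, mul_add, sub_mul, mul_sub, one_mul, mul_one, smul_mul_assoc, mul_smul_comm,
        mul_neg, neg_mul, mul_assoc, hr, hy, h1', h2', hr', hy', h1'', h2'', mul_zero, zero_mul, smul_zero,
        sub_zero, zero_sub, add_zero, zero_add, sub_self, inv_one, one_smul, smul_smul, smul_neg]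
      match_scalars <;> field_simp <;> ring

end Wy

variable {F : Type*} [Field F] {t k : ℕ}

lemma pmat_ne_zero {A : Fin t → Matrix (Fin k) (Fin k) F} (h : ∀ l, A l ≠ 0) : pmat A ≠ 0 := by
  have h' : ∀ l, ∃ p : Fin k × Fin k, A l p.1 p.2 ≠ 0 := fun l => by
    by_contra hcon
    push Not at hcon
    exact h l (Matrix.ext fun p q => hcon (p, q))
  choose p hp using h'
  exact fun h0 => Finset.prod_ne_zero_iff.2 (fun l _ => hp l)
    (congrFun (congrFun h0 fun l => (p l).1) fun l => (p l).2)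

/-- A matrix commuting with the slot has scalar blocks times itself. -/
lemma blk_of_comm (i : Fin t) (φ x : Fin k → F) {D : Matrix (Fin t → Fin k) (Fin t → Fin k) F}
    (hD : ∀ X, slot i X * D = D * slot i X) : blk i φ x D = (φ ⬝ᵥ x) • D := by
  rw [blk_apply]
  simp only [mul_assoc, ← hD]
  simp only [← mul_assoc, ← Finset.sum_mul, ← map_mul, ← map_sum, Matrix.vecMulVec_mul_vecMulVec,
    Matrix.vecMulVec_smul, ← Finset.smul_sum, sum_vecMulVec_single, map_smul, map_one, smul_mul_assoc,
    one_mul]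

/-- Slot factors cancel. -/
lemma eq_zero_of_slot_mul {i : Fin t} {A : Matrix (Fin k) (Fin k) F} (hA : A ≠ 0)
    {D : Matrix (Fin t → Fin k) (Fin t → Fin k) F} (hD : ∀ X, slot i X * D = D * slot i X)
    (h : slot i A * D = 0) : D = 0 := by
  obtain ⟨p, hp⟩ : ∃ p, (Pi.single p (1 : F)) ᵥ* A ≠ 0 := by
    by_contra hcon
    push Not at hcon
    exact hA (Matrix.ext fun p q => by simpa using congrFun (hcon p) q)
  obtain ⟨x, hx⟩ := exists_dual hp
  have h1 := congrArg (blk i (Pi.single p (1 : F)) x) h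
  rw [blk_slot_mul, blk_of_comm i _ _ hD, map_zero, dotProduct_comm, hx, one_smul] at h1
  exact h1

/-- The matrices of the members. -/
def MV (M : Subgroup (GL (Fin t → Fin k) F)) (x : Matrix (Fin t → Fin k) (Fin t → Fin k) F) : Prop :=
  ∃ g ∈ M, g.val = x

variable {M : Subgroup (GL (Fin t → Fin k) F)}

lemma MV.mul {x y : Matrix (Fin t → Fin k) (Fin t → Fin k) F} (hx : MV M x) (hy : MV M y) :
    MV M (x * y) := by
  obtain ⟨g, hg, rfl⟩ := hx
  obtain ⟨h, hh, rfl⟩ := hy
  exact ⟨g * h, M.mul_mem hg hh, rfl⟩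

lemma MV.one : MV M (1 : Matrix (Fin t → Fin k) (Fin t → Fin k) F) := ⟨1, M.one_mem, rfl⟩

lemma MV.inv {x y : Matrix (Fin t → Fin k) (Fin t → Fin k) F} (hx : MV M x) (h : x * y = 1) :
    MV M y := by
  obtain ⟨g, hg, rfl⟩ := hx
  exact ⟨g⁻¹, M.inv_mem hg, by
    calc (g⁻¹).val = (g⁻¹).val * (g.val * y) := by rw [h, mul_one]
      _ = y := by rw [← mul_assoc, Units.inv_mul, one_mul]⟩

variable (S : Alt F k)

/-- A subgroup of the isometries containing the isometries of each factor. -/
structure Over (M : Subgroup (GL (Fin t → Fin k) F)) : Prop where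
  le : M ≤ S.Iso t
  slots : ∀ (i : Fin t) (X : Matrix (Fin k) (Fin k) F), S.adj X * X = 1 → MV M (slot i X)

/-- A subgroup of the isometries containing the products of factor isometries and the permutations
of the factors. -/
structure Full (M : Subgroup (GL (Fin t → Fin k) F)) : Prop extends Over S M where
  pm : ∀ A : Fin t → Matrix (Fin k) (Fin k) F, (∀ l, S.adj (A l) * A l = 1) → MV M (pmat A)
  perm : ∀ σ : Equiv.Perm (Fin t), MV M (permMat σ)

/-- Only scalar root sets. -/
def NoUp (M : Subgroup (GL (Fin t → Fin k) F)) : Prop :=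
  ∀ (i : Fin t) (w : Fin k → F) (X : Matrix (Fin t → Fin k) (Fin t → Fin k) F), w ≠ 0 →
    MV M (1 + slot i (S.R w) * X * slot i (S.R w)) →
    ∃ c : F, slot i (S.R w) * X * slot i (S.R w) = c • slot i (S.R w)

variable {S}

lemma R_ne_zero {w : Fin k → F} (hw : w ≠ 0) : S.R w ≠ 0 := fun h => by
  obtain ⟨v, hv⟩ := S.exists_om_one hw
  have := congrArg (fun A => A *ᵥ v) h
  simp only [S.R_mulVec, hv, one_smul, Matrix.zero_mulVec] at this
  exact hw this

variable (H : Over S M)
include H

lemma slot_mem (i : Fin t) {X : Matrix (Fin k) (Fin k) F} (hX : S.adj X * X = 1) :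
    MV M (slot i X) := H.slots i X hX

lemma root_mem (i : Fin t) (w : Fin k → F) (c : F) : MV M (1 + c • slot i (S.R w)) := by
  rw [← map_smul, show (1 : Matrix (Fin t → Fin k) (Fin t → Fin k) F) = slot i 1 from (map_one _).symm,
    ← map_add]
  refine slot_mem H i ?_
  rw [S.adj_add, S.adj_one, S.adj_smul, S.adj_R]
  simp only [add_mul, mul_add, one_mul, mul_one, smul_neg, neg_mul, smul_mul_smul_comm, S.R_sq,
    smul_zero, neg_zero, add_zero]
  abel

variable [Fintype F]

omit H in
lemma exists_nat_half : ∀ (h2 : (2 : F) ≠ 0), ∃ m : ℕ, (m : F) = 2⁻¹ := fun h2 => by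
  refine ⟨2 ^ (Fintype.card F - 2), eq_inv_of_mul_eq_one_left ?_⟩
  rw [Nat.cast_pow, Nat.cast_ofNat, ← pow_succ,
    show Fintype.card F - 2 + 1 = Fintype.card F - 1 by have := Fintype.one_lt_card (α := F); omega]
  exact FiniteField.pow_card_sub_one_eq_one 2 h2

omit H in
lemma MV.ex_half {r n : Matrix (Fin t → Fin k) (Fin t → Fin k) F} (hr : r * r = 0)
    (h2 : (2 : F) ≠ 0) (hn : Shp r n) (h : MV M (ex F n)) : MV M (ex F ((2⁻¹ : F) • n)) := by
  obtain ⟨m, hm⟩ := exists_nat_half (F := F) h2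
  rw [← hm]
  have : ∀ m : ℕ, MV M (ex F ((m : F) • n)) := by
    intro m
    induction m with
    | zero => simpa [ex_zero] using MV.one
    | succ m ih =>
      have e : ex F (((m + 1 : ℕ) : F) • n) = ex F ((m : F) • n) * ex F n := by
        rw [ex_mul_of_comm hr h2 (hn.smul _) hn (by rw [smul_mul_assoc, mul_smul_comm]),
          Nat.cast_succ, add_smul, one_smul]
      rw [e]; exact ih.mul h
  exact this m

/-- The exact sandwich by a root of another slot. -/
theorem sandwich_mem {i j : Fin t} (hij : i ≠ j) (u w : Fin k → F)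
    {n : Matrix (Fin t → Fin k) (Fin t → Fin k) F} (hn : Shp (slot i (S.R u)) n) (h : MV M (ex F n)) :
    MV M (1 + slot j (S.R w) * ((-2 : F) • n) * slot j (S.R w)) := by
  set r := slot (F := F) i (S.R u)
  set r' := slot (F := F) j (S.R w) with hr'
  have hr : r * r = 0 := by rw [← map_mul, S.R_sq, map_zero]
  have hr'2 : r' * r' = 0 := by rw [← map_mul, S.R_sq, map_zero]
  have hc : r * r' = r' * r := slot_comm hij _ _
  have huv : (1 + r') * (1 - r') = 1 := by
    rw [add_mul, mul_sub, mul_one, mul_sub, mul_one, hr'2, one_mul]; abel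
  have hvu : (1 - r') * (1 + r') = 1 := by
    rw [sub_mul, mul_add, mul_one, mul_add, mul_one, hr'2, one_mul]; abel
  have hp : MV M (1 + r') := by simpa using root_mem H j w 1
  have hm : MV M (1 - r') := hp.inv huv
  have hu1 : r * (1 + r') = (1 + r') * r := by rw [mul_add, add_mul, hc, mul_one, one_mul]
  have hu2 : r * (1 - r') = (1 - r') * r := by rw [mul_sub, sub_mul, hc, mul_one, one_mul]
  set a := (1 + r') * n * (1 - r') with ha
  set b := (1 - r') * n * (1 + r') with hb
  have hA : Shp r a := hn.conj hu1 hu2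
  have hB : Shp r b := hn.conj hu2 hu1
  have ma : MV M (ex F a) := by rw [ha, ← ex_sandwich hr hn huv hvu]; exact (hp.mul h).mul hm
  have mb : MV M (ex F b) := by rw [hb, ← ex_sandwich hr hn hvu huv]; exact (hm.mul h).mul hp
  have mah : MV M (ex F ((2⁻¹ : F) • a)) := ma.ex_half hr S.two hA
  have e1 : MV M (ex F (a + b)) := by
    have := (mah.mul mb).mul mah
    rwa [ex_three hr S.two (hA.smul _) hB, ← add_smul,
      show (2⁻¹ : F) + 2⁻¹ = 1 by rw [← two_mul, mul_inv_cancel₀ S.two], one_smul] at this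
  have mn : MV M (ex F (-n)) := h.inv (ex_neg hr S.two hn)
  have e2 : MV M (ex F (-n + -n + (a + b))) := by
    have := (mn.mul e1).mul mn
    rwa [ex_three hr S.two hn.neg (hA.add hB)] at this
  have e3 : -n + -n + (a + b) = r' * ((-2 : F) • n) * r' := by
    simp only [ha, hb, add_mul, sub_mul, mul_add, mul_sub, one_mul, mul_one, mul_smul_comm,
      smul_mul_assoc, neg_mul, mul_neg, neg_smul, two_smul]
    abel
  rw [e3, ex_sq_zero (by
    rw [mul_assoc _ r', ← mul_assoc r' (r' * _), ← mul_assoc r' r', hr'2]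
    simp)] at e2
  exact e2

omit [Fintype F] in
lemma unip_mem_iso {r n : Matrix (Fin t → Fin k) (Fin t → Fin k) F} {i : Fin t}
    {X : Matrix (Fin k) (Fin k) F} (hr : r * r = 0) (hn : n = slot i X) (hs : Shp r n)
    (hskew : S.adjB n = -n) : MV M (ex F n) := by
  subst hn
  have e : ex F (slot i X) = slot i (1 + X + (2⁻¹ : F) • (X * X)) := by
    simp [ex, map_add, map_mul, map_smul]
  rw [e]
  refine slot_mem H i (slot_injective i ?_)
  rw [map_mul, map_one, ← S.adjB_slot, ← e, ex, map_add, map_add, map_smul, S.adjB_mul, S.adjB_one,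
    hskew, neg_mul_neg]
  have h := ex_neg hr S.two hs.neg
  rwa [neg_neg, ex, ex, neg_mul_neg] at h

/-- Members of the radical of a root are slot elements. -/
theorem rad_slot (hno : NoUp S M) {i : Fin t} {u : Fin k → F} (hu : u ≠ 0)
    {n : Matrix (Fin t → Fin k) (Fin t → Fin k) F} (hn : Shp (slot i (S.R u)) n)
    (hskew : S.adjB n = -n) (h : MV M (ex F n)) : ∃ X, n = slot i X := by
  classical
  set r := slot (F := F) i (S.R u) with hrdef
  have hr : r * r = 0 := by rw [← map_mul, S.R_sq, map_zero]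
  have hj : ∀ j, j ≠ i → S.adjOn {j} n = n := by
    intro j hji
    have hz : ∀ w, blk j (S.J *ᵥ w) w n = 0 := by
      intro w
      rcases eq_or_ne w 0 with rfl | hw
      · rw [show (0 : Fin k → F) = (0 : F) • (0 : Fin k → F) from (zero_smul _ _).symm,
          blk_smul_right, zero_smul]
      have hm := sandwich_mem H hji.symm u w hn h
      obtain ⟨c, hc⟩ := hno j w _ hw hm
      set r' := slot (F := F) j (S.R w)
      have h0 : c • (r' * r) = 0 := by
        rw [← smul_mul_assoc, ← hc, mul_assoc _ r', slot_comm hji, ← mul_assoc _ r r', mul_assoc r',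
          smul_mul_assoc, hn.2.2]
        simp
      have hne : r' * r ≠ 0 := by
        show slot j (S.R w) * slot i (S.R u) ≠ 0
        rw [slot_eq, slot_eq, pmat_mul]
        refine pmat_ne_zero fun l => ?_
        rcases eq_or_ne l j with rfl | hl
        · simpa [Function.update_of_ne hji] using R_ne_zero hw
        rcases eq_or_ne l i with rfl | hli
        · simpa [Function.update_of_ne hl] using R_ne_zero hu
        · have : Nonempty (Fin k) := by
            obtain ⟨p, -⟩ := Function.ne_iff.1 hw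
            exact ⟨p⟩
          simp [Function.update_of_ne hl, Function.update_of_ne hli]
      rw [(smul_eq_zero.1 h0).resolve_right hne, zero_smul, mul_smul_comm, smul_mul_assoc,
        smul_eq_zero, or_iff_right (neg_ne_zero.2 S.two)] at hc
      have hs := sandwich_blk j w (S.J *ᵥ w) w (S.J *ᵥ w) n
      exact eq_zero_of_slot_mul (R_ne_zero hw) (fun X => blk_comm j _ _ n X) (hs.symm.trans hc)
    refine eq_of_blk j fun φ x => ?_
    obtain ⟨z, rfl⟩ := S.mulVec_J_surj φ
    rw [S.blk_adjOn]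
    have := hz (z + x)
    rw [Matrix.mulVec_add, blk_add_left, blk_add_right, blk_add_right, hz, hz, zero_add,
      add_zero] at this
    exact neg_eq_of_add_eq_zero_left this
  have hi : S.adjOn {i} n = -n := by
    have : ∀ s : Finset (Fin t), i ∉ s → S.adjOn s n = n := by
      intro s hs
      induction s using Finset.induction with
      | empty => exact S.adjOn_empty n
      | insert j s hjs ih =>
        rw [S.adjOn_insert hjs, ih (fun h => hs (Finset.mem_insert_of_mem h)),
          hj j (fun e => hs (by rw [← e]; exact Finset.mem_insert_self j s))]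
    rw [← hskew, ← S.adjOn_univ, ← Finset.insert_erase (Finset.mem_univ i),
      S.adjOn_insert (Finset.notMem_erase i _), this _ (Finset.notMem_erase i _)]
  have hsym : ∀ z x, blk i (S.J *ᵥ z) x n = blk i (S.J *ᵥ x) z n := fun z x => by
    have := S.blk_adjOn i z x n
    rw [hi, map_neg, neg_inj] at this
    exact this
  obtain ⟨v, hv⟩ := S.exists_om_one hu
  have hvu : S.om u v = -1 := by rw [S.om_swap, hv]
  -- vanishing blocks
  have hperp : ∀ z x, S.om z u = 0 → S.om x u = 0 → blk i (S.J *ᵥ z) x n = 0 := by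
    intro z x hz hx
    obtain ⟨⟨a, b, rfl⟩, -, -⟩ := hn
    rw [map_add, blk_slot_mul, blk_mul_slot, S.R_mulVec, hx, zero_smul, ← zero_smul F (0 : Fin k → F),
      blk_smul_right, zero_smul, add_zero,
      show (S.J *ᵥ z) ᵥ* S.R u = (S.om u z) • (S.J *ᵥ u) from Matrix.vecMul_vecMulVec _ _ _,
      blk_smul_left, S.om_swap, hz, neg_zero, zero_smul]
  have huv0 : blk i (S.J *ᵥ v) u n = 0 := by
    have := congrArg (blk i (S.J *ᵥ v) v) hn.2.2
    rw [blk_mul_slot, S.R_mulVec, hv, one_smul, map_zero] at this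
    exact this
  have hlin : ∀ y, S.om y u = 0 → ∃ c : F, blk i (S.J *ᵥ v) y n = c • 1 := by
    intro y hy
    have huy : S.om u y = 0 := by rw [S.om_swap, hy, neg_zero]
    set e := slot (F := F) i (S.E u y) with he
    have hEE : S.E u y * S.E u y = 0 := by
      simp [Alt.E, add_mul, mul_add, S.ro_mul, hy, huy, S.om_self]
    have hee : e * e = 0 := by rw [he, ← map_mul, hEE, map_zero]
    have hshp : Shp r e := by
      refine ⟨⟨slot i (S.ro v y), slot i (S.ro y (-v)), ?_⟩, ?_, ?_⟩
      · rw [hrdef, ← map_mul, ← map_mul, ← map_add, he, Alt.R, S.ro_mul, S.ro_mul, hv, one_smul,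
          ← neg_one_smul F v, S.om_smul_right, hvu, neg_mul_neg, one_mul, one_smul, Alt.E]
      · rw [hrdef, he, ← map_mul]
        simp [Alt.E, Alt.R, mul_add, S.ro_mul, hy, S.om_self]
      · rw [hrdef, he, ← map_mul]
        simp [Alt.E, Alt.R, add_mul, S.ro_mul, huy, S.om_self]
    have hskewE : S.adjB e = -e := by rw [he, S.adjB_slot, S.adj_E, map_neg]
    have me : MV M (ex F e) := unip_mem_iso H hr he hshp hskewE
    have men : MV M (ex F (-e)) := me.inv (ex_neg hr S.two hshp)
    have mn : MV M (ex F (-n)) := h.inv (ex_neg hr S.two hn)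
    have hcom := ((h.mul me).mul mn).mul men
    have e1 : ex F n * ex F e * ex F (-n) = ex F (e + (n * e - e * n)) := by
      have t : ∀ {x y z}, Shp r x → Shp r y → Shp r z → x * y * z = 0 := fun hx hy hz =>
        hx.triple hr hy hz
      rw [ex_sandwich hr hshp (ex_neg hr S.two hn) (by
        have := ex_neg hr S.two hn.neg
        rwa [neg_neg] at this)]
      congr 1
      simp only [ex, add_mul, mul_add, one_mul, mul_one, smul_mul_assoc, mul_smul_comm, neg_mul,
        mul_neg, neg_neg, smul_add, ← mul_assoc, t hn hn hshp, t hn hshp hn, t hshp hn hn, neg_zero,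
        zero_mul, smul_zero, add_zero]
      abel
    obtain ⟨x₁, hx₁⟩ := hn.mul hr hshp
    obtain ⟨x₂, hx₂⟩ := hshp.mul hr hn
    have hc0 : n * e - e * n = r * (x₁ - x₂) * r := by rw [hx₁, hx₂, mul_sub, sub_mul]
    have hsh : Shp r (n * e - e * n) := hc0 ▸ shp_sandwich hr _
    have hce : (n * e - e * n) * e = e * (n * e - e * n) := by
      rw [hc0, mul_assoc, hshp.2.1, mul_zero, ← mul_assoc e, ← mul_assoc e, hshp.2.2, zero_mul, zero_mul]
    rw [e1, ex_mul_of_comm hr S.two (hshp.add hsh) hshp.neg (by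
      rw [add_mul, mul_add, mul_neg, mul_neg, neg_mul, neg_mul, hce]; ),
      show e + (n * e - e * n) + -e = n * e - e * n by abel,
      ex_sq_zero (by rw [hc0, mul_assoc, ← mul_assoc r (r * _), ← mul_assoc r r, hr]; simp),
      hc0] at hcom
    obtain ⟨c, hc⟩ := hno i u _ hu hcom
    have h2 := congrArg (blk i (S.J *ᵥ v) v) (hc0.trans hc)
    have hJE : (S.J *ᵥ v) ᵥ* S.E u y = -(S.J *ᵥ (S.E u y *ᵥ v)) := by
      refine dotProduct_eq _ _ fun x => ?_
      rw [← Matrix.dotProduct_mulVec, neg_dotProduct]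
      show S.om (S.E u y *ᵥ x) v = -S.om x (S.E u y *ᵥ v)
      rw [S.om_adj, S.adj_E, Matrix.neg_mulVec, ← neg_one_smul F (S.E u y *ᵥ v), S.om_smul_right,
        neg_one_mul]
    have hEv : S.E u y *ᵥ v = S.om v y • u + y := by
      rw [Alt.E, Matrix.add_mulVec, S.ro_mulVec, S.ro_mulVec, hv, one_smul]
    rw [map_sub, he, blk_mul_slot, blk_slot_mul, hJE, ← neg_one_smul F, blk_smul_left, neg_one_smul,
      sub_neg_eq_add, hsym (S.E u y *ᵥ v) v, hEv, blk_add_right, blk_smul_right, huv0, smul_zero,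
      zero_add, map_smul, blk_slot, ← two_smul F, smul_smul] at h2
    exact ⟨(2 : F)⁻¹ * (c * (S.J *ᵥ v ⬝ᵥ S.R u *ᵥ v)), by
      rw [mul_smul, ← h2, inv_smul_smul₀ S.two]⟩
  -- the component in the root
  set D₀ := blk i (S.J *ᵥ v) v n with hD₀
  set f := slot (F := F) i (S.R v) with hf
  have hC : r * (f * n * f) * r = (-1 : F) • (r * D₀) := by
    rw [hf, Alt.R, Alt.ro, sandwich_blk, ← hD₀]
    show r * (f * D₀) * r = _
    rw [← mul_assoc, mul_assoc _ D₀ r, ← blk_comm, ← mul_assoc, hrdef, hf, ← map_mul, ← map_mul,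
      S.R_sandwich, hv, one_pow, one_mul, map_smul, smul_mul_assoc]
  set C := r * (f * n * f) * r with hCdef
  obtain ⟨X, hX⟩ : ∃ X, n - C = slot i X := by
    refine slot_of_blk i fun φ x => ?_
    obtain ⟨z, rfl⟩ := S.mulVec_J_surj φ
    obtain ⟨z', hz', hz0⟩ : ∃ z', z = S.om z u • v + z' ∧ S.om z' u = 0 :=
      ⟨z - S.om z u • v, by abel, by rw [S.om_sub_left, S.om_smul_left, hv, mul_one, sub_self]⟩
    obtain ⟨x', hx', hx0⟩ : ∃ x', x = S.om x u • v + x' ∧ S.om x' u = 0 :=
      ⟨x - S.om x u • v, by abel, by rw [S.om_sub_left, S.om_smul_left, hv, mul_one, sub_self]⟩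
    obtain ⟨c₁, hc₁⟩ := hlin x' hx0
    obtain ⟨c₂, hc₂⟩ := hlin z' hz0
    have hn' : blk i (S.J *ᵥ z) x n =
        (S.om z u * S.om x u) • D₀ + (S.om z u * c₁ + S.om x u * c₂) • 1 := by
      conv_lhs => rw [hz', hx']
      simp only [Matrix.mulVec_add, Matrix.mulVec_smul, blk_add_left, blk_add_right, blk_smul_left,
        blk_smul_right, ← hD₀, hc₁, hsym z' v, hc₂, hperp z' x' hz0 hx0, add_zero, smul_smul,
        add_smul, smul_add]
      module
    refine ⟨S.om z u * c₁ + S.om x u * c₂, ?_⟩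
    rw [map_sub, hn', hC, map_smul, hrdef, blk_slot_mul,
      show (S.J *ᵥ z) ᵥ* S.R u = (S.om u z) • (S.J *ᵥ u) from Matrix.vecMul_vecMulVec _ _ _,
      blk_smul_left, hD₀, blk_of_comm i _ _ (fun X => blk_comm i _ _ n X), S.om_swap u z, smul_smul,
      smul_smul, show (S.J *ᵥ u) ⬝ᵥ x = S.om x u from rfl,
      show (-1 : F) * -S.om z u * S.om x u = S.om z u * S.om x u by ring]
    abel
  have hCsh : Shp r C := shp_sandwich hr _
  have hCskew : S.adjB C = -C := by
    simp only [hCdef, S.adjB_mul, hskew, hrdef, hf, S.adjB_slot, S.adj_R, map_neg, neg_mul, mul_neg,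
      neg_neg, mul_assoc]
  have hsh : Shp r (n - C) := hn.sub hCsh
  have ms : MV M (ex F (n - C)) := unip_mem_iso H hr hX hsh (by rw [map_sub, hskew, hCskew]; abel)
  have hcm : (n - C) * C = C * (n - C) := by
    rw [hCdef, ← mul_assoc (n - C), ← mul_assoc (n - C), hsh.2.2, zero_mul, zero_mul, mul_assoc,
      hsh.2.1, mul_zero]
  have hm : MV M (ex F C) := by
    have := (ms.inv (ex_neg hr S.two hsh)).mul h
    rwa [ex_mul_of_comm hr S.two hsh.neg hn (by
      rw [neg_mul, mul_neg, neg_inj]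
      calc (n - C) * n = (n - C) * (n - C) + (n - C) * C := by rw [← mul_add, sub_add_cancel]
        _ = (n - C) * (n - C) + C * (n - C) := by rw [hcm]
        _ = n * (n - C) := by rw [← add_mul, sub_add_cancel]),
      show -(n - C) + n = C by abel] at this
  rw [ex_sq_zero (by rw [hCdef, mul_assoc, ← mul_assoc r (r * _), ← mul_assoc r r, hr]; simp)] at hm
  obtain ⟨c, hc⟩ := hno i u _ hu hm
  exact ⟨X + c • S.R u, by rw [map_add, map_smul, ← hX, ← hrdef, ← hc, ← hCdef, sub_add_cancel]⟩

end CfsgLib.ClassicalMax.TWreath
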