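/-
The equivariant projection on the sum of the slots given by the partial traces.
-/
import Cfsg.Agent.Lib.ClassicalMax.TWreath.Slot
set_option autoImplicit false
set_option linter.unusedSectionVars false

namespace CfsgLib.ClassicalMax.TWreath

open Matrix Cfsg.Geo

variable {F : Type*} [Field F] {t k : ℕ}

/-- The partial trace over the factors different from `i`. -/
def ptr (i : Fin t) : Matrix (Fin t → Fin k) (Fin t → Fin k) F →ₗ[F] Matrix (Fin k) (Fin k) F where
  toFun M := Matrix.of fun p q => ∑ c : Fin t → Fin k,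
    if c i = p then M c (Function.update c i q) else 0
  map_add' M N := by
    ext p q
    simp only [Matrix.of_apply, Matrix.add_apply]
    rw [← Finset.sum_add_distrib]
    exact Finset.sum_congr rfl fun c _ => by split_ifs <;> simp
  map_smul' r M := by
    ext p q
    simp only [Matrix.of_apply, Matrix.smul_apply, RingHom.id_apply, smul_eq_mul, Finset.mul_sum,
      mul_ite, mul_zero]

lemma ptr_pmat (i : Fin t) (A : Fin t → Matrix (Fin k) (Fin k) F) :
    ptr i (pmat A) = (∏ l ∈ Finset.univ.erase i, (A l).trace) • A i := by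
  ext p q
  let f : Fin t → Fin k → F :=
    Function.update (fun l x => A l x x) i (fun x => if x = p then A i p q else 0)
  have e : ∀ c : Fin t → Fin k,
      (if c i = p then pmat A c (Function.update c i q) else 0) = ∏ l, f l (c l) := by
    intro c
    rw [← Finset.mul_prod_erase _ (fun l => f l (c l)) (Finset.mem_univ i)]
    simp only [f, Function.update_self]
    split_ifs with h
    · rw [pmat_apply, ← Finset.mul_prod_erase _ _ (Finset.mem_univ i), Function.update_self, h]
      congr 1
      exact Finset.prod_congr rfl fun l hl => by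
        rw [Function.update_of_ne (Finset.ne_of_mem_erase hl),
          Function.update_of_ne (Finset.ne_of_mem_erase hl)]
    · rw [zero_mul]
  show (∑ c : Fin t → Fin k, if c i = p then pmat A c (Function.update c i q) else 0) = _
  rw [Finset.sum_congr rfl (fun c _ => e c), ← Fintype.prod_sum,
    ← Finset.mul_prod_erase _ _ (Finset.mem_univ i), Matrix.smul_apply, smul_eq_mul, mul_comm]
  congr 1
  · exact Finset.prod_congr rfl fun l hl => by
      simp [f, Function.update_of_ne (Finset.ne_of_mem_erase hl), Matrix.trace]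
  · simp [f]

/-- The sum of the slots of the partial traces. -/
def proj : Matrix (Fin t → Fin k) (Fin t → Fin k) F →ₗ[F] Matrix (Fin t → Fin k) (Fin t → Fin k) F :=
  ∑ i : Fin t, (slot i).toLinearMap ∘ₗ ptr i

lemma proj_apply (M : Matrix (Fin t → Fin k) (Fin t → Fin k) F) :
    proj M = ∑ i, slot i (ptr i M) := by simp [proj]

lemma proj_pmat (A : Fin t → Matrix (Fin k) (Fin k) F) :
    proj (pmat A) = ∑ i, (∏ l ∈ Finset.univ.erase i, (A l).trace) • slot i (A i) := by
  simp [proj_apply, ptr_pmat, map_smul]

/-- Conjugation by an element of the wreath group on products. -/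
lemma conj_std_pmat (B : Fin t → GL (Fin k) F) (σ : Equiv.Perm (Fin t))
    (A : Fin t → Matrix (Fin k) (Fin k) F) :
    (pmatGL B * permGL σ).val * pmat A * (pmatGL B * permGL σ)⁻¹.val =
      pmat fun l => (B l).val * A (σ⁻¹ l) * ((B l)⁻¹ : GL (Fin k) F).val := by
  rw [_root_.mul_inv_rev, ← map_inv, ← map_inv, Units.val_mul, Units.val_mul, coe_permGL, coe_permGL,
    coe_pmatGL, coe_pmatGL, mul_assoc _ (permMat σ) (pmat A), permMat_mul_pmat, mul_assoc, mul_assoc,
    ← mul_assoc (permMat σ) (permMat σ⁻¹), permMat_mul, mul_inv_cancel, permMat_one, one_mul,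
    ← mul_assoc, pmat_mul, pmat_mul]
  rfl

lemma conj_std_slot (B : Fin t → GL (Fin k) F) (σ : Equiv.Perm (Fin t)) (i : Fin t)
    (X : Matrix (Fin k) (Fin k) F) :
    (pmatGL B * permGL σ).val * slot i X * (pmatGL B * permGL σ)⁻¹.val =
      slot (σ i) ((B (σ i)).val * X * ((B (σ i))⁻¹ : GL (Fin k) F).val) := by
  rw [slot_eq, conj_std_pmat, slot_eq]
  congr 1
  funext l
  rcases eq_or_ne l (σ i) with rfl | h
  · simp
  · have : σ⁻¹ l ≠ i := fun e => h (by rw [← e]; simp)
    rw [Function.update_of_ne this, Function.update_of_ne h, Pi.one_apply, mul_one, Units.mul_inv,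
      Pi.one_apply]

lemma proj_conj {g : GL (Fin t → Fin k) F} (hg : g ∈ tensorWreathStandard k t F)
    (M : Matrix (Fin t → Fin k) (Fin t → Fin k) F) :
    proj (g.val * M * (g⁻¹ : GL (Fin t → Fin k) F).val) =
      g.val * proj M * (g⁻¹ : GL (Fin t → Fin k) F).val := by
  obtain ⟨σ, B, rfl⟩ := mem_std_iff.1 hg
  let L : Matrix (Fin t → Fin k) (Fin t → Fin k) F →ₗ[F] Matrix (Fin t → Fin k) (Fin t → Fin k) F :=
    (LinearMap.mulRight F (pmatGL B * permGL σ)⁻¹.val) ∘ₗ
      (LinearMap.mulLeft F (pmatGL B * permGL σ).val)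
  have hL : ∀ N, L N = (pmatGL B * permGL σ).val * N * (pmatGL B * permGL σ)⁻¹.val := fun N => rfl
  suffices H : proj ∘ₗ L = L ∘ₗ proj by
    have := LinearMap.congr_fun H M
    simpa only [LinearMap.comp_apply, hL] using this
  refine ext_pmat fun A => ?_
  show proj (L (pmat A)) = L (proj (pmat A))
  rw [hL, conj_std_pmat, proj_pmat, proj_pmat, map_sum]
  refine (Fintype.sum_equiv σ _ _ fun i => ?_).symm
  rw [map_smul, hL, conj_std_slot]
  congr 1
  · refine Finset.prod_nbij' (fun l => σ l) (fun l => σ⁻¹ l) ?_ ?_ (fun l _ => by simp)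
      (fun l _ => by simp) fun l _ => ?_
    · intro l hl; simpa using Finset.ne_of_mem_erase hl
    · intro l hl
      simpa [Equiv.symm_apply_eq] using Finset.ne_of_mem_erase hl
    · show _ = ((B (σ l)).val * A (σ⁻¹ (σ l)) * ((B (σ l))⁻¹ : GL (Fin k) F).val).trace
      rw [Matrix.trace_units_conj]
      simp
  · simp

/-- The traceless slots are in the image. -/
lemma proj_single_slot (i : Fin t) (p : Fin k) {N : Matrix (Fin k) (Fin k) F} (hN : N.trace = 0) :
    proj (pmat (Function.update (fun _ => Matrix.single p p (1 : F)) i N)) = slot i N := by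
  rw [proj_pmat, Finset.sum_eq_single i (fun j _ hj => ?_) (by simp), Function.update_self,
    Finset.prod_eq_one (fun l hl => ?_), one_smul]
  · rw [Function.update_of_ne (Finset.ne_of_mem_erase hl), Matrix.trace, Finset.sum_eq_single p
      (fun a _ ha => by simp [Matrix.single, ha.symm]) (by simp)]
    simp
  · rw [Finset.prod_eq_zero (Finset.mem_erase.2 ⟨hj.symm, Finset.mem_univ i⟩)
      (by rw [Function.update_self]; exact hN), zero_smul]

end CfsgLib.ClassicalMax.TWreath
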