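/-
A conjugate root opposite to a slot root is a slot element, and an element mapping a slot root to
a slot root maps slot to slot.
-/
import Cfsg.Agent.Lib.ClassicalMax.TWreath.SpRoot
set_option autoImplicit false
set_option linter.unusedSectionVars false

namespace CfsgLib.ClassicalMax.TWreath

open Matrix Cfsg.Geo

section Alg

variable {F : Type*} [Field F] {A : Type*} [Ring A] [Algebra F A] {r y f : A}
  (hr : r * r = 0) (hy : y * y = 0) (hf : f * f = 0) (h1 : r * y * r = r) (h2 : y * r * y = y)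
  (hf1 : r * f * r = r) (hf2 : f * r * f = f)

/-- The middle part of the first idempotent. -/
def pa (r y f : A) : A := r * (y - f) - r * y * f * r

/-- The middle part of the second idempotent. -/
def pd (r y f : A) : A := (y - f) * r - r * f * y * r

include hr h1 hf1

lemma r_mul_pd : r * pd r y f = 0 := by
  have e1 : r * (y * r) = r := by rw [← mul_assoc, h1]
  have e2 : r * (f * r) = r := by rw [← mul_assoc, hf1]
  have e3 : ∀ x, r * (r * x) = 0 := fun x => by rw [← mul_assoc, hr, zero_mul]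
  simp only [pd, mul_sub, sub_mul, mul_assoc, e1, e2, e3, sub_self, sub_zero]

lemma pa_mul_r : pa r y f * r = 0 := by
  simp only [pa, mul_sub, sub_mul, mul_assoc, hr, mul_zero]
  simp only [← mul_assoc, h1, hf1, sub_self]

lemma r_mul_pa : r * pa r y f = 0 := by
  simp only [pa, mul_sub, ← mul_assoc, hr, zero_mul, sub_self]

lemma pd_mul_r : pd r y f * r = 0 := by
  simp only [pd, sub_mul, mul_assoc, hr, mul_zero, sub_self]

lemma shp_pa : Shp r (pa r y f) :=
  ⟨⟨(y - f) - y * f * r, 0, by simp only [pa, zero_mul, add_zero, mul_sub, mul_assoc]⟩,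
    r_mul_pa hr h1 hf1, pa_mul_r hr h1 hf1⟩

lemma shp_pd : Shp r (pd r y f) :=
  ⟨⟨0, (y - f) - r * f * y, by simp only [pd, mul_zero, zero_add, sub_mul]⟩,
    r_mul_pd hr h1 hf1, pd_mul_r hr h1 hf1⟩

include hy hf h2 hf2

/-- The product of the two flips is an exponential. -/
lemma flips_eq (htwo : (2 : F) ≠ 0) :
    (1 - (2 : F) • (r * y + y * r)) * (1 - (2 : F) • (r * f + f * r)) =
      ex F ((2 : F) • (pd r y f - pa r y f)) := by
  have e1 : r * (y * r) = r := by rw [← mul_assoc, h1]
  have e2 : r * (f * r) = r := by rw [← mul_assoc, hf1]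
  have e1' : ∀ x, r * (y * (r * x)) = r * x := fun x => by
    rw [← mul_assoc y, ← mul_assoc, ← mul_assoc r, h1]
  have e2' : ∀ x, r * (f * (r * x)) = r * x := fun x => by
    rw [← mul_assoc f, ← mul_assoc, ← mul_assoc r, hf1]
  have e3 : ∀ x, r * (r * x) = 0 := fun x => by rw [← mul_assoc, hr, zero_mul]
  have e4 : ∀ x, y * (y * x) = 0 := fun x => by rw [← mul_assoc, hy, zero_mul]
  have e5 : ∀ x, f * (f * x) = 0 := fun x => by rw [← mul_assoc, hf, zero_mul]
  simp only [ex, pa, pd, add_mul, mul_add, sub_mul, mul_sub, one_mul, mul_one, smul_mul_assoc,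
    mul_smul_comm, smul_sub, smul_add, smul_smul, mul_assoc, hr, hy, hf, e1, e2, e1', e2', e3, e4,
    e5, mul_zero, smul_zero, sub_zero, zero_sub, add_zero, zero_add]
  match_scalars <;> field_simp <;> ring

lemma exp_sq :
    pd r y f * pa r y f = 0 ∧ pa r y f * pa r y f = 0 ∧ pd r y f * pd r y f = 0 ∧
      pa r y f * pd r y f = -(r * y * f * r + r * f * y * r) := by
  have e1 : r * (y * r) = r := by rw [← mul_assoc, h1]
  have e2 : r * (f * r) = r := by rw [← mul_assoc, hf1]
  have e1' : ∀ x, r * (y * (r * x)) = r * x := fun x => by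
    rw [← mul_assoc y, ← mul_assoc, ← mul_assoc r, h1]
  have e2' : ∀ x, r * (f * (r * x)) = r * x := fun x => by
    rw [← mul_assoc f, ← mul_assoc, ← mul_assoc r, hf1]
  have e3 : ∀ x, r * (r * x) = 0 := fun x => by rw [← mul_assoc, hr, zero_mul]
  have e4 : ∀ x, y * (y * x) = 0 := fun x => by rw [← mul_assoc, hy, zero_mul]
  have e5 : ∀ x, f * (f * x) = 0 := fun x => by rw [← mul_assoc, hf, zero_mul]
  refine ⟨?_, ?_, ?_, ?_⟩ <;>
    simp only [pa, pd, add_mul, mul_add, sub_mul, mul_sub, mul_assoc, hr, hy, hf, e1, e2, e1', e2',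
      e3, e4, e5, mul_zero, sub_zero, zero_sub, add_zero, zero_add, sub_self, neg_sub, neg_add_rev] <;>
    abel

lemma qa_eq : r * f * pa r y f = pa r y f ∧ r * f * pd r y f = 0 ∧
    pd r y f * (f * r) = pd r y f ∧ pa r y f * (f * r) = 0 := by
  have e1 : r * (y * r) = r := by rw [← mul_assoc, h1]
  have e2 : r * (f * r) = r := by rw [← mul_assoc, hf1]
  have e1' : ∀ x, r * (y * (r * x)) = r * x := fun x => by
    rw [← mul_assoc y, ← mul_assoc, ← mul_assoc r, h1]
  have e2' : ∀ x, r * (f * (r * x)) = r * x := fun x => by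
    rw [← mul_assoc f, ← mul_assoc, ← mul_assoc r, hf1]
  have e3 : ∀ x, r * (r * x) = 0 := fun x => by rw [← mul_assoc, hr, zero_mul]
  have e5 : ∀ x, f * (f * x) = 0 := fun x => by rw [← mul_assoc, hf, zero_mul]
  refine ⟨?_, ?_, ?_, ?_⟩ <;>
    simp only [pa, pd, sub_mul, mul_sub, mul_assoc, hr, hf, e1, e2, e1', e2', e3, e5, mul_zero,
      sub_zero, zero_sub, sub_self, neg_zero, mul_neg, neg_mul] <;> abel

/-- The opposite element is a conjugate of a product inside the slot. -/
lemma conj_eq (hC : r * y * f * r = -(r * f * y * r)) :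
    (1 - r * f * y * r) * y * (1 + r * f * y * r) =
      (f * r + pd r y f) * f * (r * f + pa r y f) := by
  have e1 : r * (y * r) = r := by rw [← mul_assoc, h1]
  have e2 : r * (f * r) = r := by rw [← mul_assoc, hf1]
  have e1' : ∀ x, r * (y * (r * x)) = r * x := fun x => by
    rw [← mul_assoc y, ← mul_assoc, ← mul_assoc r, h1]
  have e2' : ∀ x, r * (f * (r * x)) = r * x := fun x => by
    rw [← mul_assoc f, ← mul_assoc, ← mul_assoc r, hf1]
  have e3 : ∀ x, r * (r * x) = 0 := fun x => by rw [← mul_assoc, hr, zero_mul]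
  set C := r * f * y * r with hCdef
  have hy' : y * r * f * (r * y) = y := by
    simp only [mul_assoc, e2']
    rw [← mul_assoc, h2]
  have hL : (1 - C) * (y * r) = f * r + pd r y f := by
    simp only [hCdef, pd, sub_mul, one_mul, mul_assoc, e1, e1']
    abel
  have hR : r * y * (1 + C) = r * f + pa r y f := by
    simp only [pa, mul_add, mul_one, mul_sub, hC]
    simp only [hCdef, mul_assoc, e1']
    abel
  calc (1 - C) * y * (1 + C) = (1 - C) * (y * r * f * (r * y)) * (1 + C) := by rw [hy']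
    _ = ((1 - C) * (y * r)) * f * (r * y * (1 + C)) := by simp only [mul_assoc]
    _ = _ := by rw [hL, hR]

end Alg

variable {F : Type*} [Field F] {t k : ℕ} {S : Alt F k} {M : Subgroup (GL (Fin t → Fin k) F)}

lemma R_conj {A : Matrix (Fin k) (Fin k) F} (hA : S.adj A * A = 1) (u : Fin k → F) :
    A * S.R u * S.adj A = S.R (A *ᵥ u) := by
  rw [Alt.R, Alt.R, Alt.ro, Alt.ro, Matrix.mul_vecMulVec, Matrix.vecMulVec_mul]
  congr 1
  refine dotProduct_eq _ _ fun x => ?_
  rw [← Matrix.dotProduct_mulVec]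
  show S.om (S.adj A *ᵥ x) u = S.om x (A *ᵥ u)
  rw [S.om_adj, S.adj_adj]

lemma exists_two_perp (hk : 3 ≤ k) (φ ψ : Fin k → F) : ∃ y, y ≠ 0 ∧ φ ⬝ᵥ y = 0 ∧ ψ ⬝ᵥ y = 0 := by
  let L : (Fin k → F) →ₗ[F] F × F :=
    { toFun := fun x => (φ ⬝ᵥ x, ψ ⬝ᵥ x)
      map_add' := fun x y => by simp [dotProduct_add]
      map_smul' := fun c x => by simp [dotProduct_smul] }
  obtain ⟨y, hy, hy0⟩ := Submodule.exists_mem_ne_zero_of_ne_bot
    (LinearMap.ker_ne_bot_of_finrank_lt (f := L) (by
      rw [Module.finrank_prod, Module.finrank_self, Module.finrank_fin_fun]; omega))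
  exact ⟨y, hy0, congrArg Prod.fst (show L y = 0 from hy), congrArg Prod.snd (show L y = 0 from hy)⟩

variable (H : Over S M)
include H

lemma iso_of_MV {x : Matrix (Fin t → Fin k) (Fin t → Fin k) F} (h : MV M x) : S.adjB x * x = 1 := by
  obtain ⟨g, hg, rfl⟩ := h
  exact H.le hg

variable [Fintype F]

/-- A conjugate root opposite to a slot root is a slot element. -/
theorem pair_slot (hno : NoUp S M) (hbig : 5 ≤ Fintype.card F ∨ 4 ≤ k) {i : Fin t} {u : Fin k → F}
    (hu : u ≠ 0) {Y : Matrix (Fin t → Fin k) (Fin t → Fin k) F} (hskew : S.adjB Y = -Y)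
    (hYY : Y * Y = 0) (h1 : slot i (S.R u) * Y * slot i (S.R u) = slot i (S.R u))
    (h2 : Y * slot i (S.R u) * Y = Y) (hY : ∀ s : F, MV M (1 + s • Y)) :
    ∃ X, Y = slot i X := by
  classical
  obtain ⟨v, hv⟩ := S.exists_om_one hu
  set r := slot (F := F) i (S.R u) with hrdef
  set f := slot (F := F) i (-S.R v) with hfdef
  have hr : r * r = 0 := by rw [hrdef, ← map_mul, S.R_sq, map_zero]
  have hf : f * f = 0 := by rw [hfdef, ← map_mul, neg_mul_neg, S.R_sq, map_zero]
  have hf1 : r * f * r = r := by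
    rw [hrdef, hfdef, ← map_mul, ← map_mul, mul_neg, neg_mul, S.R_sandwich, hv]; simp
  have hf2 : f * r * f = f := by
    rw [hrdef, hfdef, ← map_mul, ← map_mul]
    congr 1
    rw [neg_mul, neg_mul_neg, S.R_sandwich, S.om_swap u v, hv]; simp
  have hskr : S.adjB r = -r := by rw [hrdef, S.adjB_slot, S.adj_R, map_neg]
  have hskf : S.adjB f = -f := by rw [hfdef, S.adjB_slot, ← neg_one_smul F, S.adj_smul, S.adj_R]; simp
  have mr : ∀ s : F, MV M (1 + s • r) := root_mem H i u
  have mf : ∀ s : F, MV M (1 + s • f) := fun s => by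
    rw [hfdef, map_neg, smul_neg, ← neg_smul]; exact root_mem H i v (-s)
  have mw : ∀ {y : Matrix (Fin t → Fin k) (Fin t → Fin k) F} (s : F),
      (∀ c : F, MV M (1 + c • y)) → MV M (wy r y s) := fun s hy => by
    rw [wy, sub_eq_add_neg, ← neg_smul]
    exact ((mr s).mul (hy _)).mul (mr s)
  -- the radical element
  set a := pa r Y f with ha
  set d := pd r Y f with hd
  set C := r * f * Y * r with hCdef
  set N := (2 : F) • (d - a) with hN
  have hshN : Shp r N := ((shp_pd hr h1 hf1).sub (shp_pa hr h1 hf1)).smul _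
  have hmN : MV M (ex F N) := by
    rw [hN, ← flips_eq hr hYY hf h1 h2 hf1 hf2 S.two, ← wy_one_sq hr hYY h1 h2,
      ← wy_one_sq hr hf hf1 hf2]
    exact ((mw 1 hY).mul (mw 1 hY)).mul ((mw 1 mf).mul (mw 1 mf))
  have hskad : S.adjB a = d := by
    simp only [ha, hd, pa, pd, map_sub, S.adjB_mul, hskew, hskr, hskf, neg_mul, mul_neg, neg_neg,
      mul_sub, sub_mul, neg_sub_neg, mul_assoc]
  have hskda : S.adjB d = a := by
    simp only [ha, hd, pa, pd, map_sub, S.adjB_mul, hskew, hskr, hskf, neg_mul, mul_neg, neg_neg,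
      mul_sub, sub_mul, neg_sub_neg, mul_assoc]
  have hskN : S.adjB N = -N := by rw [hN, map_smul, map_sub, hskad, hskda, ← smul_neg, neg_sub]
  obtain ⟨X, hX⟩ := rad_slot H hno hu hshN hskN hmN
  obtain ⟨q1, q2, q3, q4⟩ := qa_eq hr hYY hf h1 h2 hf1 hf2
  have haS : a = slot i ((-(2⁻¹ : F)) • (S.R u * (-S.R v) * X)) := by
    rw [map_smul, map_mul, map_mul, ← hrdef, ← hfdef, ← hX, hN, mul_smul_comm, smul_smul, mul_sub,
      q1, q2, zero_sub, neg_mul, inv_mul_cancel₀ S.two, neg_smul, one_smul, neg_neg]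
  have hdS : d = slot i ((2⁻¹ : F) • (X * ((-S.R v) * S.R u))) := by
    rw [map_smul, map_mul, map_mul, ← hrdef, ← hfdef, ← hX, hN, smul_mul_assoc, smul_smul, sub_mul,
      q3, q4, sub_zero, inv_mul_cancel₀ S.two, one_smul]
  obtain ⟨z1, z2, z3, z4⟩ := exp_sq hr hYY hf h1 h2 hf1 hf2
  set C' := r * Y * f * r with hC'def
  have hskC : S.adjB C = C' := by
    simp only [hCdef, hC'def, S.adjB_mul, hskew, hskr, hskf, neg_mul, mul_neg, neg_neg, mul_assoc]
  have hskC' : S.adjB C' = C := by
    simp only [hCdef, hC'def, S.adjB_mul, hskew, hskr, hskf, neg_mul, mul_neg, neg_neg, mul_assoc]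
  have hsum : C + C' = 0 := by
    have hK : N * N = (4 : F) • (C + C') := by
      rw [hN, smul_mul_smul_comm, sub_mul, mul_sub, mul_sub, z1, z2, z3, z4, add_comm C,
        show (2 : F) * 2 = 4 by norm_num]
      congr 1
      abel
    have hrr : C + C' = r * ((f * Y) + (Y * f)) * r := by
      simp only [hCdef, hC'def, mul_add, add_mul, mul_assoc]
    set D := blk i (S.J *ᵥ u) u ((f * Y) + (Y * f))
    have hrD : C + C' = r * D := by rw [hrr, hrdef, Alt.R, Alt.ro]; exact sandwich_blk i _ _ _ _ _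
    have hDc : ∀ W, slot i W * D = D * slot i W := fun W => blk_comm i _ _ _ W
    obtain ⟨η, hη⟩ : ∃ η, η ⬝ᵥ u = 1 := exists_dual hu
    have e : (η ⬝ᵥ (X * X) *ᵥ v) • (1 : Matrix (Fin t → Fin k) (Fin t → Fin k) F) = (4 : F) • D := by
      rw [← blk_slot, map_mul, ← hX, hK, map_smul, hrD, hrdef, blk_slot_mul,
        show η ᵥ* S.R u = (η ⬝ᵥ u) • (S.J *ᵥ u) from Matrix.vecMul_vecMulVec _ _ _, hη, one_smul,
        blk_of_comm i _ _ hDc, show (S.J *ᵥ u) ⬝ᵥ v = S.om v u from rfl, hv, one_smul]
    have h4 : (4 : F) ≠ 0 := by rw [show (4 : F) = 2 * 2 by norm_num]; exact mul_ne_zero S.two S.two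
    set c := (4 : F)⁻¹ * (η ⬝ᵥ (X * X) *ᵥ v)
    have hDs : D = c • 1 := by rw [mul_smul, e, inv_smul_smul₀ h4]
    rw [hDs, mul_smul_comm, mul_one] at hrD
    have := congrArg S.adjB hrD
    rw [map_add, hskC, hskC', map_smul, hskr, add_comm, hrD, smul_neg, eq_neg_iff_add_eq_zero,
      ← two_smul F, smul_eq_zero, or_iff_right S.two] at this
    rw [hrD, this]
  have hC' : C' = -C := eq_neg_of_add_eq_zero_right hsum
  obtain ⟨V, hV⟩ : ∃ V, (1 - C) * Y * (1 + C) = slot i V := by
    refine ⟨((-S.R v) * S.R u + (2⁻¹ : F) • (X * ((-S.R v) * S.R u))) * (-S.R v) *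
      (S.R u * (-S.R v) + (-(2⁻¹ : F)) • (S.R u * (-S.R v) * X)), ?_⟩
    rw [map_mul, map_mul, map_add, map_add, ← hdS, ← haS, map_mul, map_mul, ← hrdef, ← hfdef, hCdef,
      hd, ha]
    exact conj_eq hr hYY hf h1 h2 hf1 hf2 hC'
  have hCC : C * C = 0 := by
    simp only [hCdef, mul_assoc]
    rw [← mul_assoc r r, hr, zero_mul, mul_zero, mul_zero, mul_zero]
  have hPQ : (1 + C) * (1 - C) = 1 := by
    rw [add_mul, one_mul, mul_sub, mul_one, hCC, sub_zero, sub_add_cancel]
  have hQP : (1 - C) * (1 + C) = 1 := by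
    rw [sub_mul, one_mul, mul_add, mul_one, hCC, add_zero, add_sub_cancel_right]
  have hrC : r * C = 0 := by
    simp only [hCdef, ← mul_assoc, hr, zero_mul]
  have hCr : C * r = 0 := by
    simp only [hCdef, mul_assoc, hr, mul_zero]
  have hPr : (1 + C) * r * (1 - C) = r := by
    rw [add_mul 1 C r, one_mul, hCr, add_zero, mul_sub, mul_one, hrC, sub_zero]
  have hYV : Y = (1 + C) * slot i V * (1 - C) := by
    rw [← hV]
    calc Y = ((1 + C) * (1 - C)) * Y * ((1 + C) * (1 - C)) := by rw [hPQ, one_mul, mul_one]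
      _ = _ := by simp only [mul_assoc]
  -- the properties of the slot element
  have hVV : slot i (V * V) = (0 : Matrix (Fin t → Fin k) (Fin t → Fin k) F) := by
    rw [map_mul, ← hV]
    calc (1 - C) * Y * (1 + C) * ((1 - C) * Y * (1 + C))
        = (1 - C) * (Y * ((1 + C) * (1 - C)) * Y) * (1 + C) := by simp only [mul_assoc]
      _ = 0 := by rw [hPQ, mul_one, hYY, mul_zero, zero_mul]
  have hVV' : V * V = 0 := slot_injective i (by rw [hVV, map_zero])
  have hVskew : S.adj V = -V := slot_injective i (by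
    rw [← S.adjB_slot, map_neg, ← hV, S.adjB_mul, S.adjB_mul, map_add, map_sub, S.adjB_one, hskew,
      hskC, hC', neg_mul, mul_neg, ← sub_eq_add_neg, sub_neg_eq_add, mul_assoc])
  have hRV : S.R u * V * S.R u = S.R u := slot_injective i (by
    rw [map_mul, map_mul, ← hrdef, ← hV]
    calc r * ((1 - C) * Y * (1 + C)) * r = (r * (1 - C)) * Y * ((1 + C) * r) := by simp only [mul_assoc]
      _ = r := by rw [mul_sub, mul_one, hrC, sub_zero, add_mul, one_mul, hCr, add_zero, h1])
  have hVR : V * S.R u * V = V := slot_injective i (by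
    rw [map_mul, map_mul, ← hrdef, ← hV]
    calc (1 - C) * Y * (1 + C) * r * ((1 - C) * Y * (1 + C))
        = (1 - C) * (Y * ((1 + C) * r * (1 - C)) * Y) * (1 + C) := by simp only [mul_assoc]
      _ = _ := by rw [hPr, h2])
  have hcnj : ∀ s : F, 1 + s • Y = (1 + C) * (1 + s • slot i V) * (1 - C) := fun s => by
    rw [mul_add, add_mul, mul_one, hPQ, mul_smul_comm, smul_mul_assoc, ← hYV]
  have mV : ∀ s : F, MV M (1 + s • slot i V) := fun s => by
    rw [← map_smul, show (1 : Matrix (Fin t → Fin k) (Fin t → Fin k) F) = slot i 1 from (map_one _).symm,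
      ← map_add]
    refine slot_mem H i ?_
    rw [S.adj_add, S.adj_one, S.adj_smul, hVskew]
    simp only [add_mul, mul_add, one_mul, mul_one, smul_neg, neg_mul, smul_mul_smul_comm, hVV',
      smul_zero, neg_zero, add_zero]
    abel
  set D := blk i (S.J *ᵥ u) u (f * Y) with hDdef
  have hCD : C = r * D := by
    rw [hCdef, mul_assoc r f, hrdef, Alt.R, Alt.ro]; exact sandwich_blk i _ _ _ _ _
  have hDc : ∀ W, slot i W * D = D * slot i W := fun W => blk_comm i _ _ _ W
  suffices hcs : ∃ c : F, D = c • 1 by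
    obtain ⟨c, hc⟩ := hcs
    refine ⟨(1 + c • S.R u) * V * (1 - c • S.R u), ?_⟩
    rw [hYV, hCD, hc, mul_smul_comm, mul_one, map_mul, map_mul, map_add, map_sub, map_one, map_smul]
  have hscal : ∀ (w : Fin k → F) (c : F), w ≠ 0 → c ≠ 0 → MV M (1 + c • (slot i (S.R w) * D)) →
      ∃ c' : F, D = c' • 1 := by
    intro w c hw hc h
    obtain ⟨v', hv'⟩ := S.exists_om_one hw
    have e : slot i (S.R w) * (slot i ((-c) • S.R v') * D) * slot i (S.R w) =
        c • (slot i (S.R w) * D) := by
      rw [mul_assoc, mul_assoc, ← hDc, ← mul_assoc, ← mul_assoc, ← map_mul, ← map_mul, mul_smul_comm,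
        smul_mul_assoc, S.R_sandwich, hv', smul_smul, map_smul, smul_mul_assoc]
      congr 1
      ring
    obtain ⟨c', hc'⟩ := hno i w _ hw (by rw [e]; exact h)
    rw [e] at hc'
    refine ⟨c⁻¹ * c', sub_eq_zero.1 (eq_zero_of_slot_mul (i := i) (A := S.R w) (R_ne_zero hw)
      (fun W => by rw [mul_sub, sub_mul, hDc, mul_smul_comm, smul_mul_assoc, mul_one, one_mul]) ?_)⟩
    rw [mul_sub, mul_smul_comm, mul_one, sub_eq_zero, mul_smul, ← hc', inv_smul_smul₀ hc]
  by_cases hk4 : 4 ≤ k
  · -- moving the line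
    obtain ⟨y, hy0, hy1, hy2⟩ := exists_two_perp (by omega) (S.J *ᵥ u) (S.J *ᵥ (V *ᵥ u))
    have hyu : S.om y u = 0 := hy1
    have hyV : S.om y (V *ᵥ u) = 0 := hy2
    have huy : S.om u y = 0 := by rw [S.om_swap, hyu, neg_zero]
    have hVu : S.om (V *ᵥ u) u = 1 := by
      have := congrArg (fun A => A *ᵥ v) hRV
      simp only [← Matrix.mulVec_mulVec, S.R_mulVec, hv, one_smul] at this
      exact smul_left_injective F hu (by simpa using this)
    have hVy : V *ᵥ y = 0 := by
      have h0 : S.om (V *ᵥ y) u = 0 := by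
        rw [S.om_adj, hVskew, Matrix.neg_mulVec, ← neg_one_smul F, S.om_smul_right, hyV, mul_zero]
      have := congrArg (fun A => A *ᵥ y) hVR
      simp only [← Matrix.mulVec_mulVec, S.R_mulVec, h0, zero_smul, Matrix.mulVec_zero] at this
      exact this.symm
    have hVVu : V *ᵥ (V *ᵥ u) = 0 := by rw [Matrix.mulVec_mulVec, hVV', Matrix.zero_mulVec]
    have hEE : ∀ σ : F, (σ • S.E u y) * (σ • S.E u y) = 0 := fun σ => by
      simp [Alt.E, add_mul, mul_add, S.ro_mul, hyu, huy, S.om_self]
    let A : F → Matrix (Fin k) (Fin k) F := fun σ => (1 + V) * (1 + σ • S.E u y) * (1 - V)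
    have hAadj : ∀ σ, S.adj (A σ) = A (-σ) := fun σ => by
      have hVneg : S.adj (-V) = V := by rw [← neg_one_smul F V, S.adj_smul, hVskew]; simp
      simp only [A, sub_eq_add_neg, S.adj_mul, S.adj_add, S.adj_one, S.adj_smul, S.adj_E, hVskew,
        hVneg, smul_neg, neg_smul, mul_assoc]
    have hAinv : ∀ σ, A (-σ) * A σ = 1 := fun σ => by
      have hV1 : (1 - V) * (1 + V) = 1 := by
        rw [sub_mul, one_mul, mul_add, mul_one, hVV', add_zero, add_sub_cancel_right]
      have hV2 : (1 + V) * (1 - V) = 1 := by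
        rw [add_mul, one_mul, mul_sub, mul_one, hVV', sub_zero, sub_add_cancel]
      have hE1 : (1 + (-σ) • S.E u y) * (1 + σ • S.E u y) = 1 := by
        rw [neg_smul, add_mul, one_mul, mul_add, mul_one, neg_mul, hEE]
        abel
      calc A (-σ) * A σ = (1 + V) * ((1 + (-σ) • S.E u y) * ((1 - V) * (1 + V)) * (1 + σ • S.E u y)) *
            (1 - V) := by simp only [A, mul_assoc]
        _ = 1 := by rw [hV1, mul_one, hE1, mul_one, hV2]
    have hAu : ∀ σ, A σ *ᵥ u = u - σ • y := fun σ => by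
      have hE1 : S.E u y *ᵥ u = 0 := by
        rw [Alt.E, Matrix.add_mulVec, S.ro_mulVec, S.ro_mulVec, S.om_self, huy, zero_smul, zero_smul,
          add_zero]
      have hE2 : S.E u y *ᵥ (V *ᵥ u) = y := by
        rw [Alt.E, Matrix.add_mulVec, S.ro_mulVec, S.ro_mulVec, S.om_swap (V *ᵥ u) y, hyV, neg_zero,
          zero_smul, zero_add, hVu, one_smul]
      have e1 : (1 + σ • S.E u y) *ᵥ ((1 - V) *ᵥ u) = u - V *ᵥ u - σ • y := by
        rw [Matrix.sub_mulVec, Matrix.one_mulVec, Matrix.add_mulVec, Matrix.one_mulVec,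
          Matrix.smul_mulVec, Matrix.mulVec_sub, hE1, hE2, zero_sub, smul_neg, ← sub_eq_add_neg]
      show ((1 + V) * (1 + σ • S.E u y) * (1 - V)) *ᵥ u = _
      rw [← Matrix.mulVec_mulVec, ← Matrix.mulVec_mulVec, e1, Matrix.add_mulVec, Matrix.one_mulVec,
        Matrix.mulVec_sub, Matrix.mulVec_sub, hVVu, Matrix.mulVec_smul, hVy, smul_zero, sub_zero,
        sub_zero]
      abel
    have hQ : ∀ σ : F, MV M (1 + (slot i (S.R (u + σ • y)) - r) * D) := by
      intro σ
      have mA : MV M (slot i (A (-σ))) := slot_mem H i (by rw [hAadj, hAinv])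
      have mE : MV M (slot i (1 + σ • S.E u y)) := slot_mem H i (by
        rw [S.adj_add, S.adj_one, S.adj_smul, S.adj_E, smul_neg, add_mul, one_mul, mul_add, mul_one,
          neg_mul, hEE]
        abel)
      have hCE : C * slot i (S.E u y) = 0 ∧ slot i (S.E u y) * C = 0 := by
        constructor
        · rw [hCD, mul_assoc, ← hDc, ← mul_assoc, hrdef, ← map_mul]
          simp [Alt.R, Alt.E, mul_add, S.ro_mul, hyu, S.om_self]
        · rw [hCD, ← mul_assoc, hrdef, ← map_mul]
          simp [Alt.R, Alt.E, add_mul, S.ro_mul, huy, S.om_self]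
      have hPE : slot i (1 + σ • S.E u y) = (1 + C) * slot i (1 + σ • S.E u y) * (1 - C) := by
        rw [map_add, map_one, map_smul, mul_add, add_mul, mul_one, hPQ, mul_smul_comm, smul_mul_assoc,
          add_mul 1 C, one_mul, hCE.1, add_zero, mul_sub, mul_one, hCE.2, sub_zero]
      have hPA : MV M ((1 + C) * slot i (A σ) * (1 - C)) := by
        have e : (1 + C) * slot i (A σ) * (1 - C) =
            (1 + (1 : F) • Y) * slot i (1 + σ • S.E u y) * (1 + (-1 : F) • Y) := by
          rw [hcnj, hcnj, hPE]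
          simp only [A, map_mul, map_add, map_sub, map_one, map_smul, one_smul, neg_smul,
            ← sub_eq_add_neg]
          calc _ = (1 + C) * ((1 + slot i V) * ((1 - C) * (1 + C)) * (1 + σ • slot i (S.E u y)) *
                ((1 - C) * (1 + C)) * (1 - slot i V)) * (1 - C) := by
                  rw [hQP]; simp only [mul_one, mul_assoc]
            _ = _ := by simp only [mul_assoc]
        rw [e]
        exact ((hY _).mul mE).mul (hY _)
      have e : slot i (A (-σ)) * ((1 + C) * slot i (A σ) * (1 - C)) =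
          1 + (slot i (S.R (u + σ • y)) - r) * D := by
        have hA1 : slot i (A (-σ)) * slot i (A σ) = 1 := by rw [← map_mul, hAinv, map_one]
        have hRA : slot i (A (-σ)) * r * slot i (A σ) = slot i (S.R (u + σ • y)) := by
          have := R_conj (S := S) (A := A (-σ))
            (by rw [hAadj, neg_neg]; simpa using hAinv (-σ)) u
          rw [hAadj, neg_neg, hAu, neg_smul, sub_neg_eq_add] at this
          rw [hrdef, ← map_mul, ← map_mul, this]
        calc slot i (A (-σ)) * ((1 + C) * slot i (A σ) * (1 - C))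
            = (slot i (A (-σ)) * slot i (A σ) + slot i (A (-σ)) * r * (D * slot i (A σ))) * (1 - C) := by
              rw [hCD]; simp only [mul_add, add_mul, mul_one, one_mul, mul_assoc]
          _ = (1 + slot i (S.R (u + σ • y)) * D) * (1 - r * D) := by
              rw [hA1, ← hDc, ← mul_assoc, hRA, hCD]
          _ = _ := by
              have z : slot i (S.R (u + σ • y)) * r = 0 := by
                rw [hrdef, ← map_mul, Alt.R, Alt.R, S.ro_mul, S.om_add_right, S.om_self,
                  S.om_smul_right, huy, mul_zero, add_zero, zero_smul, map_zero]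
              rw [add_mul, one_mul, mul_sub, mul_one, ← mul_assoc (_ * D), mul_assoc _ D r, ← hDc,
                ← mul_assoc, z, zero_mul, zero_mul, sub_zero, sub_mul]
              abel
      exact e ▸ mA.mul hPA
    have e2 : (1 + (slot i (S.R (u + (1 : F) • y)) - r) * D) * (1 + (slot i (S.R (u + (-1 : F) • y)) - r) * D)
        = 1 + (2 : F) • (slot i (S.R y) * D) := by
      have hW : (S.E u y + S.R y) * (-S.E u y + S.R y) = 0 := by
        simp [Alt.R, Alt.E, add_mul, mul_add, S.ro_mul, hyu, huy, S.om_self]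
      rw [one_smul, neg_one_smul, ← sub_eq_add_neg u y, S.R_add, S.R_sub, hrdef, ← map_sub, ← map_sub,
        show S.R u + S.E u y + S.R y - S.R u = S.E u y + S.R y by abel,
        show S.R u - S.E u y + S.R y - S.R u = -S.E u y + S.R y by abel,
        add_mul 1 (slot i _ * D), one_mul, mul_add, mul_one, mul_assoc (slot i _) D,
        ← mul_assoc D, ← hDc, mul_assoc (slot i (-S.E u y + S.R y)) D D, ← mul_assoc, ← map_mul, hW,
        map_zero, zero_mul, add_zero, map_add, map_add, map_neg, two_smul, add_mul, add_mul, neg_mul]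
      abel
    exact hscal y 2 hy0 S.two (e2 ▸ (hQ 1).mul (hQ (-1)))
  · -- the torus
    have hq : 5 ≤ Fintype.card F := hbig.resolve_right hk4
    obtain ⟨s, hs0, hs1⟩ : ∃ s : F, s ≠ 0 ∧ s * s ≠ 1 := by
      by_contra hcon
      push Not at hcon
      have hsub : (Finset.univ : Finset F) ⊆ {0, 1, -1} := fun x _ => by
        rcases eq_or_ne x 0 with rfl | hx
        · simp
        · have : (x - 1) * (x + 1) = 0 := by linear_combination hcon x hx
          rcases mul_eq_zero.1 this with h | h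
          · simp [sub_eq_zero.1 h]
          · simp [eq_neg_of_add_eq_zero_left h]
      have := (Finset.card_le_card hsub).trans (Finset.card_le_three)
      rw [Finset.card_univ] at this
      omega
    have hv1 : r * slot i V * r = r := by rw [hrdef, ← map_mul, ← map_mul, hRV]
    have hv2 : slot i V * r * slot i V = slot i V := by rw [hrdef, ← map_mul, ← map_mul, hVR]
    have hv0 : slot i V * slot i V = 0 := by rw [← map_mul, hVV', map_zero]
    set T := wy r (slot i V) s * wy r (slot i V) (1 : F) with hT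
    set T' := wy r (slot i V) (-1 : F) * wy r (slot i V) (-s) with hT'
    have hTT : T * T' = 1 := by
      calc T * T' = wy r (slot i V) s * (wy r (slot i V) (1 : F) * wy r (slot i V) (-1 : F)) *
            wy r (slot i V) (-s) := by simp only [hT, hT', mul_assoc]
        _ = 1 := by rw [wy_mul_neg hr hv0 hv1 hv2 one_ne_zero, mul_one, wy_mul_neg hr hv0 hv1 hv2 hs0]
    have hwc : ∀ c : F, (1 + C) * wy r (slot i V) c * (1 - C) = wy r Y c := fun c => by
      have hr' : (1 + C) * (1 + c • r) * (1 - C) = 1 + c • r := by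
        rw [mul_add, add_mul, mul_one, hPQ, mul_smul_comm, smul_mul_assoc, hPr]
      rw [wy, wy, sub_eq_add_neg, ← neg_smul, sub_eq_add_neg (1 : Matrix (Fin t → Fin k) (Fin t → Fin k) F)
        (c⁻¹ • Y), ← neg_smul]
      calc _ = ((1 + C) * (1 + c • r) * (1 - C)) * ((1 + C) * (1 + (-c⁻¹) • slot i V) * (1 - C)) *
            ((1 + C) * (1 + c • r) * (1 - C)) := by
            simp only [mul_assoc]
            rw [← mul_assoc (1 - C) (1 + C), hQP, one_mul, ← mul_assoc (1 - C) (1 + C), hQP, one_mul]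
        _ = _ := by rw [hr', ← hcnj]
    have mPT : MV M ((1 + C) * T * (1 - C)) := by
      rw [show (1 + C) * T * (1 - C) = wy r Y s * wy r Y (1 : F) from ?_]
      · exact (mw s hY).mul (mw 1 hY)
      rw [← hwc, ← hwc, hT]
      simp only [mul_assoc]
      rw [← mul_assoc (1 - C) (1 + C), hQP, one_mul]
    have mT' : MV M T' := (mw (-1) mV).mul (mw (-s) mV)
    have hTD : T' * D = D * T' := by
      obtain ⟨W, hW⟩ : ∃ W, T' = slot i W := ⟨wy (S.R u) V (-1 : F) * wy (S.R u) V (-s), by
        simp only [hT', wy, map_mul, map_add, map_sub, map_smul, map_one, ← hrdef]⟩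
      rw [hW, hDc]
    have e : (1 + C) * T * (1 - C) * T' = 1 + (1 - s * s) • (r * D) := by
      have hTC : T * C * T' = (s * s) • (r * D) := by
        rw [hCD, ← mul_assoc T r D, mul_assoc _ D T', ← hTD, ← mul_assoc,
          show T * r * T' = (s * s) • r from wy_torus hr hv0 hv1 hv2 hs0, smul_mul_assoc]
      calc (1 + C) * T * (1 - C) * T' = (1 + C) * (T * T' - T * C * T') := by
            simp only [mul_sub, sub_mul, mul_one, mul_assoc]
        _ = _ := by
            rw [hTT, hTC, hCD, add_mul, one_mul, mul_sub, mul_one, mul_smul_comm, ← hCD, hCC, smul_zero,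
              sub_zero, sub_smul, one_smul]
            abel
    exact hscal u (1 - s * s) hu (sub_ne_zero.2 (Ne.symm hs1)) (e ▸ mPT.mul mT')

end CfsgLib.ClassicalMax.TWreath
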