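/-
With only scalar root sets every element above the stabiliser of a symplectic tensor power lies in
the stabiliser: an average over cosets shows that the sum of the slots is normalised.
-/
import Cfsg.Agent.Lib.ClassicalMax.TWreath.SpPair
import Cfsg.Agent.Lib.ClassicalMax.TWreath.Trace
set_option autoImplicit false
set_option linter.unusedSectionVars false

namespace CfsgLib.ClassicalMax.TWreath

open Matrix Cfsg.Geo

variable {F : Type*} [Field F] {t k : ℕ} {S : Alt F k} {M : Subgroup (GL (Fin t → Fin k) F)}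

/-- A system of matrices closed under sums and products containing all roots is everything. -/
lemma roots_span (S : Alt F k) (P : Submodule F (Matrix (Fin k) (Fin k) F))
    (hP : ∀ x y, x ∈ P → y ∈ P → x * y ∈ P) (hR : ∀ x, S.R x ∈ P) (X : Matrix (Fin k) (Fin k) F) :
    X ∈ P := by
  have hro : ∀ a b, S.om b a ≠ 0 → S.ro a b ∈ P := fun a b hab => by
    have := P.smul_mem (S.om b a)⁻¹ (hP _ _ (hR a) (hR b))
    rwa [Alt.R, Alt.R, S.ro_mul, inv_smul_smul₀ hab] at this
  have hro' : ∀ a b, S.ro a b ∈ P := fun a b => by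
    rcases eq_or_ne a 0 with rfl | ha
    · rw [Alt.ro, Matrix.zero_vecMulVec]; exact P.zero_mem
    by_cases hab : S.om b a = 0
    · obtain ⟨c, hc⟩ := S.exists_om_one ha
      have e : S.ro a b = S.ro a (b + c) - S.ro a c := by rw [S.ro_add_right, add_sub_cancel_right]
      rw [e]
      exact P.sub_mem (hro _ _ (by rw [S.om_add_left, hab, hc]; simp)) (hro _ _ (by rw [hc]; simp))
    · exact hro _ _ hab
  rw [Matrix.matrix_eq_sum_single X]
  refine P.sum_mem fun p _ => P.sum_mem fun q _ => ?_
  obtain ⟨b, hb⟩ := S.mulVec_J_surj (Pi.single q (1 : F))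
  rw [show Matrix.single p q (X p q) = X p q • S.ro (Pi.single p 1) b by
    rw [Alt.ro, hb, vecMulVec_single_eq, Matrix.smul_single, smul_eq_mul, mul_one]]
  exact P.smul_mem _ (hro' _ _)

lemma exists_three_perp (hk : 4 ≤ k) (φ ψ χ : Fin k → F) :
    ∃ y, y ≠ 0 ∧ φ ⬝ᵥ y = 0 ∧ ψ ⬝ᵥ y = 0 ∧ χ ⬝ᵥ y = 0 := by
  let L : (Fin k → F) →ₗ[F] F × F × F :=
    { toFun := fun x => (φ ⬝ᵥ x, ψ ⬝ᵥ x, χ ⬝ᵥ x)
      map_add' := fun x y => by simp [dotProduct_add]
      map_smul' := fun c x => by simp [dotProduct_smul] }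
  obtain ⟨y, hy, hy0⟩ := Submodule.exists_mem_ne_zero_of_ne_bot
    (LinearMap.ker_ne_bot_of_finrank_lt (f := L) (by
      rw [Module.finrank_prod, Module.finrank_prod, Module.finrank_self, Module.finrank_fin_fun]
      omega))
  have e : L y = 0 := hy
  exact ⟨y, hy0, congrArg Prod.fst e, congrArg (fun p => p.2.1) e, congrArg (fun p => p.2.2) e⟩

variable [Fintype F]

/-- A pair of commuting roots usable for averaging. -/
def Flag (S : Alt F k) (a b : Fin k → F) : Prop :=
  a ≠ 0 ∧ b ≠ 0 ∧ S.om a b = 0 ∧ (5 ≤ Fintype.card F ∨ ∀ c : F, c • b ≠ a)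

/-- Matrices commuting with a pair of roots. -/
def Good (S : Alt F k) : Set (Matrix (Fin k) (Fin k) F) :=
  {X | ∃ a b, Flag S a b ∧ X * S.R a = S.R a * X ∧ X * S.R b = S.R b * X}

lemma good_span (hbig : 5 ≤ Fintype.card F ∨ 4 ≤ k) (hk2 : k = 2 ∨ 4 ≤ k)
    (X : Matrix (Fin k) (Fin k) F) : X ∈ Submodule.span F (Good S) := by
  classical
  set P := Submodule.span F (Good S)
  have hpair : ∀ a : Fin k → F, a ≠ 0 → ∀ (φ : Fin k → F),
      ∃ b, Flag S a b ∧ (4 ≤ k → φ ⬝ᵥ b = 0) ∧ (k = 2 → b = a) := by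
    intro a ha φ
    rcases hk2 with hk | hk
    · exact ⟨a, ⟨ha, ha, S.om_self a, Or.inl (hbig.resolve_right (by omega))⟩, fun h => by omega,
        fun _ => rfl⟩
    · obtain ⟨η, hη⟩ := exists_dual ha
      obtain ⟨b, hb0, hb1, hb2, hb3⟩ := exists_three_perp hk (S.J *ᵥ a) φ η
      refine ⟨b, ⟨ha, hb0, ?_, Or.inr fun c hc => ?_⟩, fun _ => hb2, fun h => by omega⟩
      · rw [S.om_swap]; exact neg_eq_zero.2 hb1
      · have := congrArg (η ⬝ᵥ ·) hc
        simp only [dotProduct_smul, hb3, hη, smul_zero] at this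
        exact zero_ne_one this
  have hR : ∀ x, S.R x ∈ P := fun x => by
    rcases eq_or_ne x 0 with rfl | hx
    · rw [Alt.R, Alt.ro, Matrix.zero_vecMulVec]; exact P.zero_mem
    obtain ⟨b, hb, -, -⟩ := hpair x hx 0
    refine Submodule.subset_span ⟨x, b, hb, rfl, ?_⟩
    rw [Alt.R, Alt.R, S.ro_mul, S.ro_mul, hb.2.2.1, S.om_swap b x, hb.2.2.1, neg_zero, zero_smul,
      zero_smul]
  have hE' : ∀ a b, S.ro a b - S.ro b a ∈ P := fun a b => by
    rcases eq_or_ne a 0 with rfl | ha
    · simp [Alt.ro]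
    obtain ⟨c, hc, hc4, hc2⟩ := hpair a ha (S.J *ᵥ b)
    have e1 : (S.ro a b - S.ro b a) * S.R a = S.R a * (S.ro a b - S.ro b a) := by
      simp only [Alt.R, sub_mul, mul_sub, S.ro_mul, S.om_self, zero_smul, sub_zero, zero_sub,
        S.om_swap b a, neg_smul, neg_neg]
    refine Submodule.subset_span ⟨a, c, hc, e1, ?_⟩
    rcases hk2 with hk | hk
    · rw [hc2 hk, e1]
    · have hcb : S.om c b = 0 := hc4 hk
      have hbc : S.om b c = 0 := by rw [S.om_swap, hcb, neg_zero]
      have hca : S.om c a = 0 := by rw [S.om_swap, hc.2.2.1, neg_zero]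
      simp only [Alt.R, sub_mul, mul_sub, S.ro_mul, hca, hcb, hbc, hc.2.2.1, zero_smul, sub_zero]
  have hro : ∀ a b, S.ro a b ∈ P := fun a b => by
    have e : S.ro a b = (2⁻¹ : F) • ((S.R (a + b) - S.R a - S.R b) + (S.ro a b - S.ro b a)) := by
      rw [S.R_add, show S.R a + S.E a b + S.R b - S.R a - S.R b = S.E a b by abel, Alt.E,
        show S.ro a b + S.ro b a + (S.ro a b - S.ro b a) = (2 : F) • S.ro a b by rw [two_smul]; abel,
        inv_smul_smul₀ S.two]
    rw [e]
    exact P.smul_mem _ (P.add_mem (P.sub_mem (P.sub_mem (hR _) (hR _)) (hR _)) (hE' a b))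
  rw [Matrix.matrix_eq_sum_single X]
  refine P.sum_mem fun p _ => P.sum_mem fun q _ => ?_
  obtain ⟨b, hb⟩ := S.mulVec_J_surj (Pi.single q (1 : F))
  rw [show Matrix.single p q (X p q) = X p q • S.ro (Pi.single p 1) b by
    rw [Alt.ro, hb, vecMulVec_single_eq, Matrix.smul_single, smul_eq_mul, mul_one]]
  exact P.smul_mem _ (hro _ _)

/-- Sums over free orbits of a root group lie in its sandwich. -/
lemma free_sum {α : Type*} {r : Matrix (Fin t → Fin k) (Fin t → Fin k) F} (act : F → α → α)
    (hadd : ∀ c d q, act c (act d q) = act (c + d) q) (hzero : ∀ q, act 0 q = q)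
    (Φ : α → Matrix (Fin t → Fin k) (Fin t → Fin k) F)
    (hΦ : ∀ c q, Φ (act c q) = (1 + c • r) * Φ q * (1 - c • r)) (h2 : (2 : F) ≠ 0) :
    ∀ O : Finset α, (∀ c, ∀ q ∈ O, act c q ∈ O) → (∀ c, c ≠ 0 → ∀ q ∈ O, act c q ≠ q) →
      (∃ X, ∑ q ∈ O, Φ q = r * X * r) ∧ (5 ≤ Fintype.card F → ∑ q ∈ O, Φ q = 0) := by
  classical
  intro O
  induction O using Finset.strongInduction with
  | H O ih =>
    intro hinv hfree
    rcases O.eq_empty_or_nonempty with rfl | ⟨q, hq⟩
    · exact ⟨⟨0, by simp⟩, fun _ => by simp⟩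
    set B := Finset.univ.image (fun c => act c q) with hB
    have hBO : B ⊆ O := fun x hx => by
      obtain ⟨c, -, rfl⟩ := Finset.mem_image.1 hx
      exact hinv c q hq
    have hinj : Function.Injective fun c => act c q := fun c d e => by
      by_contra hne
      refine hfree (c - d) (sub_ne_zero.2 hne) (act d q) (hinv d q hq) ?_
      rw [hadd, sub_add_cancel]; exact e
    have hlt : O \ B ⊂ O := Finset.sdiff_ssubset hBO ⟨q, Finset.mem_image.2 ⟨0, Finset.mem_univ _, hzero q⟩⟩
    obtain ⟨⟨X, hX⟩, h5⟩ := ih (O \ B) hlt (fun c x hx => by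
        obtain ⟨h1, h2⟩ := Finset.mem_sdiff.1 hx
        refine Finset.mem_sdiff.2 ⟨hinv c x h1, fun hm => h2 ?_⟩
        obtain ⟨d, -, hd⟩ := Finset.mem_image.1 hm
        refine Finset.mem_image.2 ⟨-c + d, Finset.mem_univ _, ?_⟩
        rw [← hadd, show act d q = act c x from hd, hadd, neg_add_cancel, hzero])
      fun c hc x hx => hfree c hc x (Finset.mem_sdiff.1 hx).1
    have hBsum : ∑ x ∈ B, Φ x = (-∑ c : F, c * c) • (r * Φ q * r) := by
      rw [hB, Finset.sum_image fun c _ d _ e => hinj e]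
      have e : ∀ c : F, Φ (act c q) = Φ q + c • (r * Φ q - Φ q * r) + (-(c * c)) • (r * Φ q * r) := by
        intro c
        rw [hΦ]
        simp only [add_mul, mul_sub, sub_mul, one_mul, mul_one, smul_mul_assoc, mul_smul_comm,
          smul_sub, smul_smul, neg_smul]
        module
      have hc1 : ∑ c : F, c = 0 := by
        have := FiniteField.sum_pow_lt_card_sub_one F 1 (by
          have h1 := Fintype.one_lt_card (α := F)
          have h3 : Fintype.card F ≠ 2 := fun h => h2 (by
            have := Nat.cast_card_eq_zero F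
            rw [h] at this
            exact_mod_cast this)
          omega)
        simpa using this
      simp only [e, Finset.sum_add_distrib, ← Finset.sum_smul, hc1, zero_smul, add_zero,
        Finset.sum_const, Finset.card_univ, Finset.sum_neg_distrib]
      rw [← Nat.cast_smul_eq_nsmul F, Nat.cast_card_eq_zero, zero_smul, zero_add]
    rw [← Finset.sum_sdiff hBO]
    refine ⟨⟨X + (-∑ c : F, c * c) • Φ q, ?_⟩, fun hq5 => ?_⟩
    · rw [hX, hBsum, mul_add, add_mul, mul_smul_comm, smul_mul_assoc]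
    · rw [h5 hq5, hBsum, zero_add, show ∑ c : F, c * c = 0 from ?_, neg_zero, zero_smul]
      simpa [pow_two] using FiniteField.sum_pow_lt_card_sub_one F 2 (by omega)

variable (H : Over S M) (hno : NoUp S M) (hbig : 5 ≤ Fintype.card F ∨ 4 ≤ k)
include H hno hbig

/-- An element taking a slot matrix to a slot root takes the whole slot into a slot. -/
theorem key {g : GL (Fin t → Fin k) F} (hg : g ∈ M) {i j : Fin t} {u : Fin k → F} (hu : u ≠ 0)
    {N : Matrix (Fin k) (Fin k) F} (hN : slot i (S.R u) * g.val = g.val * slot j N)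
    (X : Matrix (Fin k) (Fin k) F) :
    ∃ X', g.val * slot j X * (g⁻¹ : GL (Fin t → Fin k) F).val = slot i X' := by
  classical
  set r := slot (F := F) i (S.R u) with hrdef
  let c : Matrix (Fin t → Fin k) (Fin t → Fin k) F → Matrix (Fin t → Fin k) (Fin t → Fin k) F :=
    fun x => g.val * x * (g⁻¹ : GL (Fin t → Fin k) F).val
  have cmul : ∀ x y, c (x * y) = c x * c y := fun x y => by
    simp only [c, mul_assoc]
    rw [← mul_assoc (g⁻¹).val g.val, Units.inv_mul, one_mul]
  have cadd : ∀ x y, c (x + y) = c x + c y := fun x y => by simp only [c, mul_add, add_mul]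
  have csmul : ∀ (s : F) x, c (s • x) = s • c x := fun s x => by
    simp only [c, mul_smul_comm, smul_mul_assoc]
  have cinj : Function.Injective c := fun x y e => by
    have := congrArg (fun z => (g⁻¹).val * z * g.val) e
    simpa only [c, mul_assoc, Units.inv_mul, mul_one, ← mul_assoc (g⁻¹).val g.val, one_mul] using this
  have cadj : ∀ x, S.adjB (c x) = c (S.adjB x) := fun x => by
    simp only [c, S.adjB_mul, S.adjB_eq_inv (H.le hg), S.adjB_eq_inv (inv_mem (H.le hg)), inv_inv,
      mul_assoc]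
  have cN : c (slot j N) = r := by
    show g.val * slot j N * (g⁻¹).val = r
    rw [← hN, mul_assoc, Units.mul_inv, mul_one]
  have c0 : c 0 = 0 := by simp only [c, mul_zero, zero_mul]
  have hN0 : N ≠ 0 := fun h => by
    rw [h, map_zero, c0] at cN
    exact R_ne_zero hu (slot_injective i (by rw [map_zero]; exact cN.symm))
  have hNN : N * N = 0 := slot_injective j (cinj (by
    rw [map_mul, cmul, cN, map_zero, c0, hrdef, ← map_mul, S.R_sq, map_zero]))
  have hNskew : S.adj N = -N := slot_injective j (cinj (by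
    rw [← S.adjB_slot, ← cadj, cN, map_neg, ← neg_one_smul F (slot j N), csmul, cN, hrdef,
      S.adjB_slot, S.adj_R, map_neg, neg_one_smul]))
  have hNRN : ∀ w, N * S.R w * N = -S.R (N *ᵥ w) := fun w => by
    rw [Alt.R, Alt.R, Alt.ro, Alt.ro, Matrix.mul_vecMulVec, Matrix.vecMulVec_mul, ← Matrix.vecMulVec_neg]
    congr 1
    refine dotProduct_eq _ _ fun x => ?_
    rw [← Matrix.dotProduct_mulVec, neg_dotProduct]
    show S.om (N *ᵥ x) w = -S.om x (N *ᵥ w)
    rw [S.om_adj, hNskew, Matrix.neg_mulVec, ← neg_one_smul F (N *ᵥ w), S.om_smul_right, neg_one_mul]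
  have cmem : ∀ (w : Fin k → F) (s : F), MV M (1 + s • c (slot j (S.R w))) := fun w s => by
    have e : 1 + s • c (slot j (S.R w)) = g.val * (1 + s • slot j (S.R w)) * (g⁻¹).val := by
      rw [mul_add, add_mul, mul_one, Units.mul_inv, mul_smul_comm, smul_mul_assoc]
    rw [e]
    exact MV.mul (MV.mul ⟨g, hg, rfl⟩ (root_mem H j w s)) ⟨g⁻¹, M.inv_mem hg, rfl⟩
  obtain ⟨w, hw⟩ : ∃ w, N *ᵥ w ≠ 0 := by
    by_contra hcon
    push Not at hcon
    exact hN0 (Matrix.ext_of_mulVec_single fun p => by rw [hcon, Matrix.zero_mulVec])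
  obtain ⟨d, hd⟩ := hno i u (c (slot j (S.R w))) hu (by
    have := cmem (N *ᵥ w) (-1)
    rwa [← csmul, ← map_smul, neg_one_smul, ← hNRN, map_mul, map_mul, cmul, cmul, cN] at this)
  have hNw : -S.R (N *ᵥ w) = d • N := slot_injective j (cinj (by
    rw [← hNRN, map_mul, map_mul, cmul, cmul, cN, map_smul, csmul, cN]; exact hd))
  have hd0 : d ≠ 0 := fun h => R_ne_zero hw (by rw [h, zero_smul, neg_eq_zero] at hNw; exact hNw)
  set w' := N *ᵥ w
  set l := -d⁻¹
  have hl : l ≠ 0 := neg_ne_zero.2 (inv_ne_zero hd0)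
  have hNl : N = l • S.R w' := by
    rw [show l • S.R w' = d⁻¹ • -S.R w' by rw [smul_neg, ← neg_smul], hNw, inv_smul_smul₀ hd0]
  have hz : ∀ z, S.om z w' ≠ 0 → ∃ X', c (slot j (S.R z)) = slot i X' := by
    intro z hz
    set μ := l * (S.om z w' ^ 2 * -1) with hμ
    have hμ0 : μ ≠ 0 := mul_ne_zero hl (mul_ne_zero (pow_ne_zero 2 hz) (by simp))
    have e1 : N * S.R z * N = μ • N := by
      conv_lhs => rw [hNl]
      rw [smul_mul_assoc, smul_mul_smul_comm, S.R_sandwich, hNl, smul_smul, smul_smul, hμ]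
      congr 1
      ring
    have e2 : S.R z * N * S.R z = μ • S.R z := by
      rw [hNl, mul_smul_comm, smul_mul_assoc, S.R_sandwich, smul_smul, S.om_swap w' z, neg_sq]
    obtain ⟨X', hX'⟩ := pair_slot H hno hbig (i := i) hu (Y := μ⁻¹ • c (slot j (S.R z)))
      (by rw [map_smul, cadj, S.adjB_slot, S.adj_R, map_neg, ← neg_one_smul F (slot j (S.R z)), csmul,
        neg_one_smul, smul_neg])
      (by rw [smul_mul_smul_comm, ← cmul, ← map_mul, S.R_sq, map_zero, c0, smul_zero])
      (by
        rw [mul_smul_comm, smul_mul_assoc, ← hrdef, ← cN, ← cmul, ← cmul, ← map_mul, ← map_mul, e1,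
          map_smul, csmul, inv_smul_smul₀ hμ0])
      (by
        rw [smul_mul_assoc, smul_mul_smul_comm, ← hrdef, ← cN, ← cmul, ← cmul, ← map_mul, ← map_mul,
          e2, map_smul, csmul, smul_smul, mul_assoc, inv_mul_cancel₀ hμ0, mul_one])
      fun s => by rw [smul_smul]; exact cmem z _
    exact ⟨μ • X', by rw [map_smul, ← hX', smul_inv_smul₀ hμ0]⟩
  let P : Submodule F (Matrix (Fin k) (Fin k) F) :=
    { carrier := {X | ∃ X', c (slot j X) = slot i X'}
      add_mem' := by
        rintro x y ⟨x', hx⟩ ⟨y', hy⟩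
        exact ⟨x' + y', by rw [map_add, cadd, hx, hy, map_add]⟩
      zero_mem' := ⟨0, by rw [map_zero, c0, map_zero]⟩
      smul_mem' := by
        rintro s x ⟨x', hx⟩
        exact ⟨s • x', by rw [map_smul, csmul, hx, map_smul]⟩ }
  refine roots_span S P (fun x y hx hy => ?_) (fun x => ?_) X
  · obtain ⟨x', hx⟩ := hx
    obtain ⟨y', hy⟩ := hy
    exact ⟨x' * y', by rw [map_mul, cmul, hx, hy, map_mul]⟩
  by_cases hxw : S.om x w' = 0
  · obtain ⟨z, hz1⟩ := S.exists_om_one hw
    have e : S.R x = (2⁻¹ : F) • (S.R (x + z) + S.R (x - z) - (2 : F) • S.R z) := by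
      rw [S.R_add, S.R_sub, show S.R x + S.E x z + S.R z + (S.R x - S.E x z + S.R z) - (2 : F) • S.R z
        = (2 : F) • S.R x by rw [two_smul, two_smul]; abel, inv_smul_smul₀ S.two]
    rw [e]
    exact P.smul_mem _ (P.sub_mem (P.add_mem (hz _ (by rw [S.om_add_left, hxw, hz1]; simp))
      (hz _ (by rw [S.om_sub_left, hxw, hz1]; simp))) (P.smul_mem _ (hz _ (by rw [hz1]; simp))))
  · exact hz x hxw

/-- An element taking every slot into a slot lies in the wreath group. -/
lemma std_of_all (hk : 2 ≤ k) (ht : 0 < t) {g : GL (Fin t → Fin k) F}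
    (h : ∀ i, ∃ j, ∀ X, ∃ X', g.val * slot j X * (g⁻¹ : GL (Fin t → Fin k) F).val = slot i X') :
    g ∈ tensorWreathStandard k t F := by
  choose π hπ using h
  have hinj : Function.Injective π := by
    intro i i' e
    by_contra hne
    let a : Fin k := ⟨0, by omega⟩
    let b : Fin k := ⟨1, by omega⟩
    obtain ⟨A, hA⟩ := hπ i (Matrix.single a b 1)
    obtain ⟨B, hB⟩ := hπ i' (Matrix.single b a 1)
    rw [← e] at hB
    have hc : slot i A * slot i' B = slot i' B * slot i A := slot_comm hne A B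
    rw [← hA, ← hB] at hc
    simp only [mul_assoc] at hc
    rw [← mul_assoc (g⁻¹).val g.val, Units.inv_mul, one_mul, ← mul_assoc (g⁻¹).val g.val,
      Units.inv_mul, one_mul, ← mul_assoc (slot (π i) _) (slot (π i) _), ← map_mul,
      ← mul_assoc (slot (π i) _) (slot (π i) _), ← map_mul] at hc
    have h1 := slot_injective (π i) ((Units.mul_left_inj g⁻¹).1 ((Units.mul_right_inj g).1 hc))
    rw [Matrix.single_mul_single_same, Matrix.single_mul_single_same] at h1
    have h2 := congrFun (congrFun h1 a) a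
    simp [a, b, Matrix.single] at h2
  set σ := Equiv.ofBijective π (Finite.injective_iff_bijective.1 hinj) with hσ
  refine mem_std_of_slots (by omega) ht σ.symm fun l X => ?_
  obtain ⟨X', hX'⟩ := hπ (σ.symm l) X
  rw [show π (σ.symm l) = l from σ.apply_symm_apply l] at hX'
  exact ⟨X', hX'⟩

/-- Every member lies in the wreath group. -/
theorem mem_std_of_noUp (hk2 : k = 2 ∨ 4 ≤ k) (ht : 0 < t) {m₀ : GL (Fin t → Fin k) F}
    (hm₀ : m₀ ∈ M) : m₀ ∈ tensorWreathStandard k t F := by
  classical
  have hk : 2 ≤ k := by omega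
  let K := (tensorWreathStandard k t F).subgroupOf M
  let Φ (ψ : Matrix (Fin t → Fin k) (Fin t → Fin k) F) (g : M) :
      Matrix (Fin t → Fin k) (Fin t → Fin k) F :=
    g.1.val * proj ((g.1⁻¹).val * ψ * g.1.val) * (g.1⁻¹).val
  have hΦK : ∀ ψ (g h : M), h ∈ K → Φ ψ (g * h) = Φ ψ g := by
    intro ψ g h hh
    have hh' : (h.1⁻¹) ∈ tensorWreathStandard k t F := inv_mem hh
    have e : (((g * h : M) : GL (Fin t → Fin k) F)⁻¹).val * ψ * ((g * h : M) : GL (Fin t → Fin k) F).val
        = (h.1⁻¹).val * ((g.1⁻¹).val * ψ * g.1.val) * (h.1⁻¹)⁻¹.val := by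
      rw [Subgroup.coe_mul, _root_.mul_inv_rev, Units.val_mul, Units.val_mul, inv_inv]
      simp only [mul_assoc]
    show _ * proj _ * _ = _
    rw [e, proj_conj hh', Subgroup.coe_mul, _root_.mul_inv_rev, Units.val_mul, Units.val_mul, inv_inv]
    simp only [mul_assoc]
    rw [← mul_assoc h.1.val (h.1⁻¹).val, Units.mul_inv, one_mul,
      ← mul_assoc h.1.val (h.1⁻¹).val ((g.1⁻¹).val), Units.mul_inv, one_mul]
    simp only [Φ, mul_assoc]
  have hrep : ∀ ψ (g : M), Φ ψ (Quotient.out (QuotientGroup.mk g : M ⧸ K)) = Φ ψ g := by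
    intro ψ g
    obtain ⟨h, hh⟩ := QuotientGroup.mk_out_eq_mul K g
    rw [hh, hΦK ψ g h h.2]
  let T (ψ : Matrix (Fin t → Fin k) (Fin t → Fin k) F) := ∑ q : M ⧸ K, Φ ψ q.out
  have hmove : ∀ ψ (a : M) (q : M ⧸ K), Φ ψ (a • q).out =
      a.1.val * Φ ((a.1⁻¹).val * ψ * a.1.val) q.out * (a.1⁻¹).val := by
    intro ψ a q
    induction q using QuotientGroup.induction_on with
    | H g =>
      rw [MulAction.Quotient.smul_mk, smul_eq_mul, hrep, hrep]
      simp only [Φ, Subgroup.coe_mul, _root_.mul_inv_rev, Units.val_mul, mul_assoc]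
  have hTeq : ∀ ψ (m : M), T (m.1.val * ψ * (m.1⁻¹).val) = m.1.val * T ψ * (m.1⁻¹).val := by
    intro ψ m
    simp only [T, Finset.mul_sum, Finset.sum_mul]
    rw [← Equiv.sum_comp (MulAction.toPerm m)]
    refine Finset.sum_congr rfl fun q _ => ?_
    rw [MulAction.toPerm_apply, hmove]
    simp only [mul_assoc, Units.inv_mul, mul_one, ← mul_assoc (m.1⁻¹).val m.1.val, one_mul]
  -- the root elements
  choose el hel hval using fun (l : Fin t) (w : Fin k → F) (c : F) => root_mem H l w c
  let a (l : Fin t) (w : Fin k → F) (c : F) : M := ⟨el l w c, hel l w c⟩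
  have aval : ∀ l w c, (a l w c).1.val = 1 + c • slot l (S.R w) := hval
  have hr0 : ∀ (l : Fin t) (w : Fin k → F), slot l (S.R w) * slot l (S.R w) =
      (0 : Matrix (Fin t → Fin k) (Fin t → Fin k) F) := fun l w => by
    rw [← map_mul, S.R_sq, map_zero]
  have aadd : ∀ l w c d, a l w c * a l w d = a l w (c + d) := fun l w c d => Subtype.ext (Units.ext (by
    rw [Subgroup.coe_mul, Units.val_mul, aval, aval, aval, add_mul, one_mul, mul_add, mul_one,
      smul_mul_smul_comm, hr0, smul_zero, add_zero, add_smul]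
    abel))
  have azero : ∀ l w, a l w 0 = 1 := fun l w => Subtype.ext (Units.ext (by
    rw [aval, zero_smul, add_zero]; rfl))
  have ainv : ∀ l w c, ((a l w c).1⁻¹).val = 1 - c • slot l (S.R w) := fun l w c => by
    have : (a l w c).1 * (a l w (-c)).1 = 1 := by
      rw [← Subgroup.coe_mul, aadd, add_neg_cancel, azero, Subgroup.coe_one]
    rw [inv_eq_of_mul_eq_one_right this, aval, neg_smul, sub_eq_add_neg]
  have hflag : ∀ (A : Fin t → Matrix (Fin k) (Fin k) F), (∀ l, A l ∈ Good S) →
      T (pmat A) = proj (pmat A) := by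
    intro A hA
    choose U V hUV hU hV using hA
    set ψ := pmat A with hψ
    have hcomm : ∀ l w, A l * S.R w = S.R w * A l → ∀ c, ((a l w c).1⁻¹).val * ψ * (a l w c).1.val = ψ := by
      intro l w hw c
      have e : slot l (S.R w) * ψ = ψ * slot l (S.R w) := by
        rw [hψ, slot_mul_pmat, pmat_mul_slot, hw]
      rw [ainv, aval, sub_mul, one_mul, mul_add, mul_one, sub_mul, smul_mul_assoc, mul_smul_comm, e,
        smul_mul_smul_comm, mul_assoc, hr0, mul_zero, smul_zero]
      abel
    let Fr (l : Fin t) (w : Fin k → F) (q : M ⧸ K) : Prop := ∀ c, c ≠ 0 → a l w c • q ≠ q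
    let Bad (q : M ⧸ K) (l : Fin t) : Prop := Fr l (U l) q ∧ Fr l (V l) q
    have hcm : ∀ l w l' w', (l = l' → S.om w w' = 0) → ∀ c d,
        a l w c * a l' w' d = a l' w' d * a l w c := by
      intro l w l' w' h c d
      have e : slot (F := F) l (S.R w) * slot l' (S.R w') = slot l' (S.R w') * slot l (S.R w) := by
        rcases eq_or_ne l l' with rfl | hne
        · rw [← map_mul, ← map_mul]
          congr 1
          rw [Alt.R, Alt.R, S.ro_mul, S.ro_mul, h rfl, S.om_swap w' w, h rfl, neg_zero, zero_smul,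
            zero_smul]
        · exact slot_comm hne _ _
      refine Subtype.ext (Units.ext ?_)
      rw [Subgroup.coe_mul, Subgroup.coe_mul, Units.val_mul, Units.val_mul, aval, aval]
      simp only [add_mul, mul_add, one_mul, mul_one, smul_mul_smul_comm, e, mul_comm c d]
      abel
    have hinvB : ∀ l w, (w = U l ∨ w = V l) → ∀ c q, Bad (a l w c • q) = Bad q := by
      intro l w hw c q
      funext m
      have one : ∀ w', (w' = U m ∨ w' = V m) → (Fr m w' (a l w c • q) ↔ Fr m w' q) := by
        intro w' hw'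
        have hc : ∀ d, a m w' d * a l w c = a l w c * a m w' d := fun d => (hcm l w m w' (by
          rintro rfl
          rcases hw with rfl | rfl <;> rcases hw' with rfl | rfl
          · exact S.om_self _
          · exact (hUV l).2.2.1
          · rw [S.om_swap, (hUV l).2.2.1, neg_zero]
          · exact S.om_self _) c d).symm
        refine forall₂_congr fun d _ => ?_
        rw [ne_eq, ne_eq, ← mul_smul, hc, mul_smul, MulAction.injective _ |>.eq_iff]
      exact propext (and_congr (one _ (Or.inl rfl)) (one _ (Or.inr rfl)))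
    have hbad : ∀ q : M ⧸ K, q ≠ QuotientGroup.mk 1 → ∃ l, Bad q l := by
      intro q hq
      by_contra hcon
      push Not at hcon
      refine hq ?_
      obtain ⟨g, rfl⟩ := QuotientGroup.mk_surjective q
      have hgstd : g.1 ∈ tensorWreathStandard k t F := by
        refine std_of_all H hno hbig hk ht fun l => ?_
        obtain ⟨w, hw0, c, hc, hfix⟩ : ∃ w, w ≠ 0 ∧ ∃ c, c ≠ 0 ∧
            a l w c • (QuotientGroup.mk g : M ⧸ K) = QuotientGroup.mk g := by
          have := hcon l
          simp only [Bad, Fr] at this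
          by_cases h : ∀ c, c ≠ 0 → a l (U l) c • (QuotientGroup.mk g : M ⧸ K) ≠ QuotientGroup.mk g
          · obtain ⟨c, hc, e⟩ : ∃ c, c ≠ 0 ∧
                a l (V l) c • (QuotientGroup.mk g : M ⧸ K) = QuotientGroup.mk g := by
              by_contra hcc
              push Not at hcc
              exact this ⟨h, hcc⟩
            exact ⟨V l, (hUV l).2.1, c, hc, e⟩
          · push Not at h
            obtain ⟨c, hc, e⟩ := h
            exact ⟨U l, (hUV l).1, c, hc, e⟩
        rw [MulAction.Quotient.smul_mk, smul_eq_mul, QuotientGroup.eq] at hfix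
        have hmem : g.1⁻¹ * (a l w c).1 * g.1 ∈ tensorWreathStandard k t F := by
          have := inv_mem hfix
          rw [Subgroup.mem_subgroupOf] at this
          simpa [_root_.mul_inv_rev, mul_assoc] using this
        set n := (g.1⁻¹).val * (c • slot l (S.R w)) * g.1.val with hn
        obtain ⟨j, X, hX⟩ := slot_of_sq_zero S.two hk ht hmem (N := n) (by
            rw [Units.val_mul, Units.val_mul, aval, mul_add, add_mul, mul_one, Units.inv_mul])
          (by
            rw [hn, show (g.1⁻¹).val * (c • slot l (S.R w)) * g.1.val *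
              ((g.1⁻¹).val * (c • slot l (S.R w)) * g.1.val) = (g.1⁻¹).val * ((c • slot l (S.R w)) *
              (g.1.val * (g.1⁻¹).val) * (c • slot l (S.R w))) * g.1.val by simp only [mul_assoc],
              Units.mul_inv, mul_one, smul_mul_smul_comm, hr0, smul_zero, mul_zero, zero_mul])
        refine ⟨j, key H hno hbig g.2 hw0 (N := c⁻¹ • X) ?_⟩
        rw [map_smul, ← hX, hn, mul_smul_comm, ← mul_assoc, ← mul_assoc, Units.mul_inv, one_mul,
          smul_mul_assoc, inv_smul_smul₀ hc]
      rw [QuotientGroup.eq, mul_one]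
      exact inv_mem hgstd
    let cls (q : M ⧸ K) : WithTop (Fin t) := (Finset.univ.filter (Bad q)).min
    show ∑ q : M ⧸ K, Φ ψ q.out = proj ψ
    rw [← Finset.sum_erase_add _ _ (Finset.mem_univ (QuotientGroup.mk 1 : M ⧸ K)), hrep]
    have h1 : Φ ψ (1 : M) = proj ψ := by simp [Φ]
    rw [h1, add_eq_right, ← Finset.sum_fiberwise _ cls]
    refine Finset.sum_eq_zero fun o _ => ?_
    set O := (Finset.univ.erase (QuotientGroup.mk 1 : M ⧸ K)).filter fun q => cls q = o with hO
    rcases O.eq_empty_or_nonempty with h | ⟨q₁, hq₁⟩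
    · rw [h, Finset.sum_empty]
    obtain ⟨l, hl⟩ : ∃ l : Fin t, o = l := by
      obtain ⟨h0, h2⟩ := Finset.mem_filter.1 hq₁
      obtain ⟨l, hl⟩ := hbad q₁ (Finset.ne_of_mem_erase h0)
      obtain ⟨l', hl'⟩ := Finset.min_of_mem (Finset.mem_filter.2 ⟨Finset.mem_univ l, hl⟩)
      exact ⟨l', by rw [← h2]; exact hl'⟩
    have hOl : ∀ q ∈ O, Bad q l := fun q hq =>
      (Finset.mem_filter.1 (Finset.mem_of_min (((Finset.mem_filter.1 hq).2).trans hl))).2
    have horb : ∀ w, (w = U l ∨ w = V l) →
        (∃ X, ∑ q ∈ O, Φ ψ q.out = slot l (S.R w) * X * slot l (S.R w)) ∧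
        (5 ≤ Fintype.card F → ∑ q ∈ O, Φ ψ q.out = 0) := by
      intro w hw
      refine free_sum (fun c q => a l w c • q) (fun c d q => by rw [← mul_smul, aadd])
        (fun q => by rw [azero, one_smul]) _ (fun c q => ?_) S.two O (fun c q hq => ?_)
        fun c hc q hq => ?_
      · rw [hmove, hcomm l w (by rcases hw with rfl | rfl; exacts [hU l, hV l]) c, aval, ainv]
      · obtain ⟨h0, h1⟩ := Finset.mem_filter.1 hq
        refine Finset.mem_filter.2 ⟨Finset.mem_erase.2 ⟨fun e => ?_, Finset.mem_univ _⟩, ?_⟩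
        · have hB := hinvB l w hw c q
          rw [e] at hB
          rcases hw with rfl | rfl
          · exact ((hB ▸ hOl q hq : Bad _ l).1 1 one_ne_zero) (by
              rw [MulAction.Quotient.smul_mk, smul_eq_mul, mul_one, QuotientGroup.eq, mul_one]
              refine inv_mem ?_
              rw [Subgroup.mem_subgroupOf]
              refine exists_units (σ := 1) (A := Function.update 1 l (1 + S.R (U l))) ?_
              rw [aval, one_smul, permMat_one, mul_one, ← slot_eq, map_add, map_one])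
          · exact ((hB ▸ hOl q hq : Bad _ l).2 1 one_ne_zero) (by
              rw [MulAction.Quotient.smul_mk, smul_eq_mul, mul_one, QuotientGroup.eq, mul_one]
              refine inv_mem ?_
              rw [Subgroup.mem_subgroupOf]
              refine exists_units (σ := 1) (A := Function.update 1 l (1 + S.R (V l))) ?_
              rw [aval, one_smul, permMat_one, mul_one, ← slot_eq, map_add, map_one])
        · rw [← h1]
          show (Finset.univ.filter (Bad _)).min = (Finset.univ.filter (Bad q)).min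
          simp only [hinvB l w hw c q]
      · rcases hw with rfl | rfl
        exacts [(hOl q hq).1 c hc, (hOl q hq).2 c hc]
    rcases (hUV l).2.2.2 with hq5 | hind
    · exact (horb (U l) (Or.inl rfl)).2 hq5
    · obtain ⟨⟨X, hX⟩, -⟩ := horb (U l) (Or.inl rfl)
      obtain ⟨⟨Y, hY⟩, -⟩ := horb (V l) (Or.inr rfl)
      obtain ⟨v, hv1, hv2⟩ := exists_sep (v := S.J *ᵥ V l) (w := S.J *ᵥ U l) fun c hc => hind c (by
        have := congrArg (fun z => S.Ji *ᵥ z) hc
        simpa [Matrix.mulVec_smul, Matrix.mulVec_mulVec, S.Ji_mul] using this)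
      have hvU : S.om v (U l) = 1 := by rw [Alt.om, dotProduct_comm]; exact hv2
      have hvV : S.om v (V l) = 0 := by rw [Alt.om, dotProduct_comm]; exact hv1
      have e1 : S.R (U l) * (-S.R v) * S.R (U l) = S.R (U l) := by
        rw [mul_neg, neg_mul, S.R_sandwich, hvU]; simp
      have e2 : S.R (U l) * (-S.R v) * S.R (V l) = 0 := by
        simp [Alt.R, S.ro_mul, S.om_swap (V l) v, hvV]
      calc ∑ q ∈ O, Φ ψ q.out = slot l (S.R (U l)) * slot l (-S.R v) * ∑ q ∈ O, Φ ψ q.out := by
            rw [hX, ← mul_assoc, ← mul_assoc, ← map_mul, ← map_mul, e1]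
        _ = 0 := by rw [hY, ← mul_assoc, ← mul_assoc, ← map_mul, ← map_mul, e2, map_zero, zero_mul, zero_mul]
  have hTlin : ∀ B : Fin t → Matrix (Fin k) (Fin k) F, T (pmat B) = proj (pmat B) := by
    suffices Hs : ∀ (s : Finset (Fin t)) (B : Fin t → Matrix (Fin k) (Fin k) F),
        (∀ l, l ∉ s → B l ∈ Good S) → T (pmat B) = proj (pmat B) from
      fun B => Hs Finset.univ B fun l hl => absurd (Finset.mem_univ l) hl
    intro s
    induction s using Finset.induction with
    | empty => exact fun B hB => hflag B fun l => hB l (Finset.notMem_empty l)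
    | insert i s hi ih =>
      intro B hB
      have hg : ∀ X ∈ Submodule.span F (Good S),
          T (pmat (Function.update B i X)) = proj (pmat (Function.update B i X)) := by
        intro X hX
        induction hX using Submodule.span_induction with
        | mem X hX =>
          refine ih _ fun l hl => ?_
          rcases eq_or_ne l i with rfl | hli
          · rwa [Function.update_self]
          · rw [Function.update_of_ne hli]; exact hB l (by simp [hli, hl])
        | zero =>
          rw [show pmat (Function.update B i (0 : Matrix (Fin k) (Fin k) F)) = 0 from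
            Matrix.ext fun p q => by simp [pmat_update_apply]]
          simp [T, Φ]
        | add X Y _ _ hX hY =>
          rw [pmat_update_add, map_add, ← hX, ← hY]
          simp only [T, Φ, mul_add, add_mul, map_add, Finset.sum_add_distrib]
        | smul c X _ hX =>
          rw [pmat_update_smul, map_smul, ← hX]
          simp only [T, Φ, mul_smul_comm, smul_mul_assoc, map_smul, Finset.smul_sum]
      have := hg (B i) (good_span hbig hk2 _)
      rwa [Function.update_eq_self] at this
  let TL : Matrix (Fin t → Fin k) (Fin t → Fin k) F →ₗ[F] Matrix (Fin t → Fin k) (Fin t → Fin k) F :=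
    { toFun := T
      map_add' := fun X Y => by simp only [T, Φ, mul_add, add_mul, map_add, Finset.sum_add_distrib]
      map_smul' := fun c X => by
        simp only [T, Φ, mul_smul_comm, smul_mul_assoc, map_smul, Finset.smul_sum, RingHom.id_apply] }
  have hall : ∀ X, T X = proj X := fun X =>
    LinearMap.congr_fun (ext_pmat (f := TL) (g := proj) hTlin) X
  rw [← inv_inv m₀]
  refine inv_mem (std_of_all H hno hbig hk ht fun i => ?_)
  have hu : (Pi.single (⟨0, by omega⟩ : Fin k) (1 : F) : Fin k → F) ≠ 0 := by simp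
  set u : Fin k → F := Pi.single (⟨0, by omega⟩ : Fin k) 1
  have htr : (S.R u).trace = 0 := by
    rw [Alt.R, Alt.ro, Matrix.trace_vecMulVec, dotProduct_comm]; exact S.om_self u
  set ψ := pmat (Function.update (fun _ => Matrix.single (⟨0, by omega⟩ : Fin k) ⟨0, by omega⟩ (1 : F)) i
    (S.R u)) with hψ
  have hpi : m₀.val * slot i (S.R u) * (m₀⁻¹).val =
      ∑ l, slot l (ptr l (m₀.val * ψ * (m₀⁻¹).val)) := by
    have := hTeq ψ ⟨m₀, hm₀⟩
    rw [hall, hall, hψ, proj_single_slot _ _ htr] at this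
    rw [← proj_apply, hψ]
    exact this.symm
  obtain ⟨j, Y, hY⟩ := slot_of_sum_sq_zero S.two (by omega) ht
    (X := fun l => ptr l (m₀.val * ψ * (m₀⁻¹).val)) (by
      rw [← hpi, show m₀.val * slot i (S.R u) * (m₀⁻¹).val * (m₀.val * slot i (S.R u) * (m₀⁻¹).val) =
        m₀.val * (slot i (S.R u) * ((m₀⁻¹).val * m₀.val) * slot i (S.R u)) * (m₀⁻¹).val by
          simp only [mul_assoc], Units.inv_mul, mul_one, ← map_mul, S.R_sq, map_zero, mul_zero, zero_mul])
  refine ⟨j, key H hno hbig (M.inv_mem hm₀) hu (N := Y) ?_⟩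
  rw [← hY, ← hpi]
  simp only [← mul_assoc, Units.inv_mul, one_mul]

end CfsgLib.ClassicalMax.TWreath
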