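/-
A non-scalar root set gives a member whose translation part is a product over the factors of roots,
self-adjoint shears and identities.
-/
import Cfsg.Agent.Lib.ClassicalMax.TWreath.SpRoot
set_option autoImplicit false
set_option linter.unusedSectionVars false

namespace CfsgLib.ClassicalMax.TWreath

open Matrix Cfsg.Geo

variable {F : Type*} [Field F] {t k : ℕ}

namespace Alt

variable (S : Alt F k)

/-- The self-adjoint map of two vectors. -/
def A (a b : Fin k → F) : Matrix (Fin k) (Fin k) F := S.ro a b - S.ro b a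

lemma adj_A (a b : Fin k → F) : S.adj (S.A a b) = S.A a b := by
  rw [A, sub_eq_add_neg, adj_add, ← neg_one_smul F, adj_smul, adj_ro, adj_ro]
  simp only [neg_smul, one_smul, neg_neg]
  abel

lemma A_mulVec (a b x : Fin k → F) : S.A a b *ᵥ x = S.om x b • a - S.om x a • b := by
  rw [A, Matrix.sub_mulVec, S.ro_mulVec, S.ro_mulVec]

lemma adj_neg (X : Matrix (Fin k) (Fin k) F) : S.adj (-X) = -S.adj X := by
  rw [← neg_one_smul F X, adj_smul, neg_one_smul]

lemma adjB_pmat_self (B : Fin t → Matrix (Fin k) (Fin k) F) (σ : Fin t → F)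
    (h : ∀ l, S.adj (B l) = σ l • B l) : S.adjB (pmat B) = (∏ l, σ l) • pmat B := by
  rw [adjB_pmat]
  ext a b
  simp only [pmat_apply, h, Matrix.smul_apply, smul_eq_mul, Finset.prod_mul_distrib]

/-- A root matrix. -/
def IsE (X : Matrix (Fin k) (Fin k) F) : Prop := ∃ w, w ≠ 0 ∧ X = S.R w

/-- A shear of an orthogonal independent pair. -/
def IsA (X : Matrix (Fin k) (Fin k) F) : Prop :=
  ∃ a b, a ≠ 0 ∧ S.om a b = 0 ∧ (∀ c : F, c • a ≠ b) ∧ X = S.A a b

lemma IsA.ne_zero {X : Matrix (Fin k) (Fin k) F} (h : S.IsA X) : X ≠ 0 := by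
  obtain ⟨a, b, ha, -, hind, rfl⟩ := h
  obtain ⟨v, hv⟩ := S.exists_om_one ha
  intro h0
  have := congrArg (fun M => M *ᵥ v) h0
  simp only [A_mulVec, Matrix.zero_mulVec, hv, one_smul, sub_eq_zero] at this
  exact hind _ this

end Alt

lemma blk_comm_other {i j : Fin t} (h : i ≠ j) (φ x : Fin k → F) (X : Matrix (Fin k) (Fin k) F)
    {D : Matrix (Fin t → Fin k) (Fin t → Fin k) F} (hD : slot i X * D = D * slot i X) :
    slot i X * blk j φ x D = blk j φ x D * slot i X := by
  simp only [blk_apply, Finset.mul_sum, Finset.sum_mul]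
  refine Finset.sum_congr rfl fun p _ => ?_
  simp only [mul_assoc]
  rw [← slot_comm h, ← mul_assoc D, ← hD, ← mul_assoc (slot i X), slot_comm h]
  simp only [mul_assoc]

/-- A product over a set of factors commutes with the other slots. -/
lemma pmat_comm_slot {A : Fin t → Matrix (Fin k) (Fin k) F} {i : Fin t} (h : A i = 1)
    (X : Matrix (Fin k) (Fin k) F) : slot i X * pmat A = pmat A * slot i X := by
  rw [slot_mul_pmat, pmat_mul_slot, h, mul_one, one_mul]

/-- A matrix commuting with all slots is scalar. -/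
lemma eq_smul_one_of_comm (hk : 0 < k) {D : Matrix (Fin t → Fin k) (Fin t → Fin k) F}
    (h : ∀ l X, slot l X * D = D * slot l X) : ∃ c : F, D = c • 1 := by
  classical
  have hp : ∀ A : Fin t → Matrix (Fin k) (Fin k) F, pmat A * D = D * pmat A := by
    intro A
    suffices H : ∀ s : Finset (Fin t), pmat (fun l => if l ∈ s then A l else 1) * D =
        D * pmat (fun l => if l ∈ s then A l else 1) by simpa using H Finset.univ
    intro s
    induction s using Finset.induction with
    | empty => simp [show (fun _ : Fin t => (1 : Matrix (Fin k) (Fin k) F)) = 1 from rfl]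
    | insert n s hn ih =>
      have e : (fun l => if l ∈ insert n s then A l else 1) =
          Function.update (fun l => if l ∈ s then A l else 1) n
            (A n * (if n ∈ s then A n else 1)) := by
        funext l
        rcases eq_or_ne l n with rfl | hl
        · simp [hn]
        · simp [hl]
      rw [e, ← slot_mul_pmat, mul_assoc, ih, ← mul_assoc, h, mul_assoc]
  have : Nonempty (Fin t → Fin k) := ⟨fun _ => ⟨0, hk⟩⟩
  obtain ⟨c, hc⟩ := Matrix.mem_range_scalar_of_commute_single (M := D) fun a b _ => by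
    have := hp fun l => Matrix.single (a l) (b l) 1
    rw [pmat_single] at this
    exact this
  exact ⟨c, by rw [← hc]; simp [Matrix.smul_one_eq_diagonal]⟩

variable {S : Alt F k} {M : Subgroup (GL (Fin t → Fin k) F)}

variable [Fintype F] (H : Over S M)
include H

/-- A member with pure translation part exists when some root set is not scalar. -/
theorem exists_seed (hk : 0 < k) (hno : ¬ NoUp S M) :
    ∃ (A : Fin t → Matrix (Fin k) (Fin k) F) (c : F) (i j : Fin t),
      c ≠ 0 ∧ i ≠ j ∧ S.IsE (A i) ∧ A j ≠ 1 ∧ (∀ l, A l = 1 ∨ S.IsE (A l) ∨ S.IsA (A l)) ∧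
      MV M (1 + c • pmat A) := by
  classical
  simp only [NoUp, not_forall] at hno
  obtain ⟨i, u, X, hu, hMV, hX⟩ := hno
  push Not at hX
  set r := slot (F := F) i (S.R u) with hrdef
  have hr : r * r = 0 := by rw [hrdef, ← map_mul, S.R_sq, map_zero]
  -- states
  let St : Finset (Fin t) → (Fin t → Matrix (Fin k) (Fin k) F) →
      Matrix (Fin t → Fin k) (Fin t → Fin k) F → Prop := fun s A D =>
    i ∈ s ∧ A i = S.R u ∧ (∀ l, l ∉ s → A l = 1) ∧
      (∀ l, A l = 1 ∨ S.IsE (A l) ∨ S.IsA (A l)) ∧ D ≠ 0 ∧
      (∀ l ∈ s, ∀ Y, slot l Y * D = D * slot l Y) ∧ MV M (1 + pmat A * D)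
  have hshp : ∀ A D, A i = S.R u → (∀ Y, slot i Y * D = D * slot i Y) → Shp r (pmat A * D) := by
    intro A D hA hD
    obtain ⟨v, hv⟩ := S.exists_om_one hu
    have e : pmat A = r * pmat (Function.update A i (-(S.R v) * S.R u)) := by
      rw [hrdef, slot_mul_pmat, Function.update_idem, Function.update_self, ← mul_assoc, mul_neg,
        neg_mul, S.R_sandwich, hv]
      simp [← hA]
    refine ⟨⟨pmat (Function.update A i (-(S.R v) * S.R u)) * D, 0, by
      rw [zero_mul, add_zero, ← mul_assoc, ← e]⟩, ?_, ?_⟩
    · rw [← mul_assoc, hrdef, slot_mul_pmat, hA, S.R_sq,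
        show pmat (Function.update A i (0 : Matrix (Fin k) (Fin k) F)) = 0 from
          Matrix.ext fun p q => by simp [pmat_update_apply], zero_mul]
    · rw [mul_assoc, hrdef, ← hD, ← mul_assoc, pmat_mul_slot, hA, S.R_sq,
        show pmat (Function.update A i (0 : Matrix (Fin k) (Fin k) F)) = 0 from
          Matrix.ext fun p q => by simp [pmat_update_apply], zero_mul]
  have hsq : ∀ A D, A i = S.R u → (∀ Y, slot i Y * D = D * slot i Y) →
      pmat A * D * (pmat A * D) = 0 ∧ ∀ n, Shp r n → n * (pmat A * D) = 0 := by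
    intro A D hA hD
    obtain ⟨⟨-, -⟩, h1, h2⟩ := hshp A D hA hD
    obtain ⟨v, hv⟩ := S.exists_om_one hu
    have e : pmat A = r * pmat (Function.update A i (-(S.R v) * S.R u)) := by
      rw [hrdef, slot_mul_pmat, Function.update_idem, Function.update_self, ← mul_assoc, mul_neg,
        neg_mul, S.R_sandwich, hv]
      simp [← hA]
    have key : ∀ n, Shp r n → n * (pmat A * D) = 0 := fun n hn => by
      rw [e, mul_assoc r, ← mul_assoc n, hn.2.2, zero_mul]
    exact ⟨key _ (hshp A D hA hD), key⟩
  -- the operations at a new factor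
  have step : ∀ s A D j, j ∉ s → St s A D →
      (∃ A' D', (S.IsE (A' j) ∨ S.IsA (A' j)) ∧ (∀ l, l ≠ j → A' l = A l) ∧ St (insert j s) A' D') ∨
        ((∀ Y, slot j Y * D = D * slot j Y) ∧ St (insert j s) A D) := by
    rintro s A D j hj ⟨his, hAi, hA1, hAt, hD0, hDc, hmem⟩
    have hij : i ≠ j := fun e => hj (e ▸ his)
    have hAj : A j = 1 := hA1 j hj
    have hn := hshp A D hAi (hDc i his)
    obtain ⟨hnn, hkill⟩ := hsq A D hAi (hDc i his)
    have hex : MV M (ex F (pmat A * D)) := by rwa [ex_sq_zero hnn]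
    have hblk : ∀ (φ x : Fin k → F), ∀ l ∈ s, ∀ Y,
        slot l Y * blk j φ x D = blk j φ x D * slot l Y := fun φ x l hl Y =>
      blk_comm_other (fun e => hj (by rw [← e]; exact hl)) φ x Y (hDc l hl Y)
    have hnew : ∀ (X : Matrix (Fin k) (Fin k) F) φ x, blk j φ x D ≠ 0 →
        (S.IsE X ∨ S.IsA X) → ∀ c : F, c ≠ 0 →
        MV M (1 + c • (slot j X * (pmat A * blk j φ x D))) →
        ∃ A' D', (S.IsE (A' j) ∨ S.IsA (A' j)) ∧ (∀ l, l ≠ j → A' l = A l) ∧ St (insert j s) A' D' := by
      intro X φ x hne hX c hc hm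
      refine ⟨Function.update A j X, c • blk j φ x D, by rwa [Function.update_self],
        fun l hl => Function.update_of_ne hl _ _, Finset.mem_insert_of_mem his, ?_, ?_, ?_, ?_, ?_, ?_⟩
      · rw [Function.update_of_ne hij, hAi]
      · intro l hl
        rw [Finset.mem_insert, not_or] at hl
        rw [Function.update_of_ne hl.1, hA1 l hl.2]
      · intro l
        rcases eq_or_ne l j with rfl | h
        · rw [Function.update_self]; exact Or.inr hX
        · rw [Function.update_of_ne h]; exact hAt l
      · exact smul_ne_zero hc hne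
      · intro l hl Y
        rw [mul_smul_comm, smul_mul_assoc]
        congr 1
        rcases Finset.mem_insert.1 hl with rfl | hl
        · exact blk_comm l φ x D Y
        · exact hblk φ x l hl Y
      · rw [mul_smul_comm]
        rwa [← mul_assoc, slot_mul_pmat, hAj, mul_one] at hm
    by_cases h1 : ∃ w, blk j (S.J *ᵥ w) w D ≠ 0
    · obtain ⟨w, hw⟩ := h1
      have hw0 : w ≠ 0 := fun h => hw (by
        rw [h, ← zero_smul F (0 : Fin k → F), blk_smul_right, zero_smul])
      refine Or.inl (hnew (S.R w) _ _ hw (Or.inl ⟨w, hw0, rfl⟩) (-2) (neg_ne_zero.2 S.two) ?_)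
      have := sandwich_mem H hij u w hn hex
      have e : slot j (S.R w) * ((-2 : F) • (pmat A * D)) * slot j (S.R w) =
          (-2 : F) • (slot j (S.R w) * (pmat A * blk j (S.J *ᵥ w) w D)) := by
        rw [mul_smul_comm, smul_mul_assoc, ← mul_assoc, pmat_comm_slot hAj, mul_assoc (pmat A),
          mul_assoc (pmat A), show slot j (S.R w) * D * slot j (S.R w) =
            slot j (S.R w) * blk j (S.J *ᵥ w) w D from sandwich_blk j _ _ _ _ _, ← mul_assoc,
          ← pmat_comm_slot hAj, mul_assoc]
      rwa [e] at this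
    push Not at h1
    have hanti : ∀ z x, blk j (S.J *ᵥ z) x D = -blk j (S.J *ᵥ x) z D := fun z x => by
      have := h1 (z + x)
      rw [Matrix.mulVec_add, blk_add_left, blk_add_right, blk_add_right, h1, h1, zero_add,
        add_zero] at this
      exact eq_neg_of_add_eq_zero_left this
    by_cases h2 : ∃ z x, S.om x z = 0 ∧ blk j (S.J *ᵥ z) x D ≠ 0
    · obtain ⟨z, x, hxz, hne⟩ := h2
      have hz0 : z ≠ 0 := fun h => hne (by
        rw [h, Matrix.mulVec_zero, ← zero_smul F (0 : Fin k → F), blk_smul_left, zero_smul])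
      have hind : ∀ c : F, c • z ≠ x := fun c hc => hne (by
        rw [← hc, blk_smul_right, h1, smul_zero])
      have hA : S.IsA (S.A z x) := ⟨z, x, hz0, by rw [S.om_swap, hxz, neg_zero], hind, rfl⟩
      refine Or.inl (hnew _ _ _ hne (Or.inr hA) (-4) (neg_ne_zero.2 (by
        rw [show (4 : F) = 2 * 2 by norm_num]; exact mul_ne_zero S.two S.two)) ?_)
      -- one commutator with a root of the new factor
      have com : ∀ (w : Fin k → F) (n : Matrix (Fin t → Fin k) (Fin t → Fin k) F), Shp r n →
          (∀ n', Shp r n' → n' * n = 0) → MV M (1 + n) →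
          MV M (1 + (2 : F) • (slot j (S.R w) * n - n * slot j (S.R w))) := by
        intro w n hn hk hm
        set q := slot (F := F) j (S.R w) with hq
        have hqq : q * q = 0 := by rw [hq, ← map_mul, S.R_sq, map_zero]
        have hc : r * q = q * r := slot_comm hij _ _
        have hp : MV M (1 + q) := by simpa using root_mem H j w 1
        have huv : (1 + q) * (1 - q) = 1 := by
          rw [add_mul, mul_sub, mul_one, mul_sub, mul_one, hqq, one_mul]; abel
        have hvu : (1 - q) * (1 + q) = 1 := by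
          rw [sub_mul, mul_add, mul_one, mul_add, mul_one, hqq, one_mul]; abel
        have hm' : MV M (1 - q) := hp.inv huv
        have hu1 : r * (1 + q) = (1 + q) * r := by rw [mul_add, add_mul, hc, mul_one, one_mul]
        have hu2 : r * (1 - q) = (1 - q) * r := by rw [mul_sub, sub_mul, hc, mul_one, one_mul]
        set a := (1 + q) * n * (1 - q) with ha
        set b := (1 - q) * n * (1 + q) with hb
        have ma : MV M (1 + a) := by
          have := (hp.mul hm).mul hm'
          rwa [mul_add, add_mul, mul_one, huv] at this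
        have hbb : b * b = 0 := by
          rw [hb, show (1 - q) * n * (1 + q) * ((1 - q) * n * (1 + q)) =
            (1 - q) * (n * ((1 + q) * (1 - q)) * n) * (1 + q) by simp only [mul_assoc], huv, mul_one,
            hk n hn, mul_zero, zero_mul]
        have mb : MV M (1 - b) := by
          have := (hm'.mul hm).mul hp
          have e : (1 - q) * (1 + n) * (1 + q) = 1 + b := by
            rw [hb, mul_add (1 - q) 1 n, mul_one, add_mul, hvu]
          rw [e] at this
          exact this.inv (by rw [add_mul, one_mul, mul_sub, mul_one, hbb, sub_zero, sub_add_cancel])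
        have hab : a * b = 0 := by
          have e : a * (1 - q) * n = 0 := by
            refine hk _ ((hn.conj hu1 hu2).conj (u := 1) (by rw [one_mul, mul_one]) hu2) ▸ ?_
            rw [one_mul]
          rw [hb, ← mul_assoc, ← mul_assoc, e, zero_mul]
        have e : (1 + a) * (1 - b) = 1 + (2 : F) • (q * n - n * q) := by
          rw [add_mul, one_mul, mul_sub, mul_one, hab, sub_zero, ha, hb]
          simp only [add_mul, sub_mul, mul_add, mul_sub, one_mul, mul_one]
          module
        exact e ▸ ma.mul mb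
      have m1 := com x _ hn hkill hmem
      have hcj : ∀ w, slot j (S.R w) * pmat A = pmat A * slot j (S.R w) := fun w => pmat_comm_slot hAj _
      set D1 := (2 : F) • (slot j (S.R x) * D - D * slot j (S.R x)) with hD1
      have e1 : (2 : F) • (slot j (S.R x) * (pmat A * D) - pmat A * D * slot j (S.R x)) = pmat A * D1 := by
        rw [hD1, mul_smul_comm, mul_sub, ← mul_assoc, hcj]
        simp only [mul_assoc]
      have hD1c : ∀ Y, slot i Y * D1 = D1 * slot i Y := fun Y => by
        rw [hD1, mul_smul_comm, smul_mul_assoc, mul_sub, sub_mul]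
        congr 1
        rw [← mul_assoc (slot i Y), slot_comm hij, mul_assoc, hDc i his, ← mul_assoc,
          ← mul_assoc (slot i Y) D, hDc i his, mul_assoc D, slot_comm hij, ← mul_assoc]
      rw [e1] at m1
      have m2 := com z _ (hshp A D1 hAi hD1c) (hsq A D1 hAi hD1c).2 m1
      have e2 : (2 : F) • (slot j (S.R z) * (pmat A * D1) - pmat A * D1 * slot j (S.R z)) =
          (-4 : F) • (slot j (S.A z x) * (pmat A * blk j (S.J *ᵥ z) x D)) := by
        have h0 : slot j (S.R z) * slot j (S.R x) = (0 : Matrix (Fin t → Fin k) (Fin t → Fin k) F) := by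
          rw [← map_mul, Alt.R, Alt.R, S.ro_mul, hxz, zero_smul, map_zero]
        have h0' : slot j (S.R x) * slot j (S.R z) = (0 : Matrix (Fin t → Fin k) (Fin t → Fin k) F) := by
          rw [← map_mul, Alt.R, Alt.R, S.ro_mul, S.om_swap, hxz, neg_zero, zero_smul, map_zero]
        have s1 : slot j (S.R z) * D * slot j (S.R x) = slot j (S.ro z x) * blk j (S.J *ᵥ z) x D :=
          sandwich_blk j _ _ _ _ _
        have s2 : slot j (S.R x) * D * slot j (S.R z) = -(slot j (S.ro x z) * blk j (S.J *ᵥ z) x D) := by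
          rw [← mul_neg, ← hanti x z]; exact sandwich_blk j _ _ _ _ _
        have hd : slot j (S.R z) * D1 - D1 * slot j (S.R z) =
            (-2 : F) • (slot j (S.A z x) * blk j (S.J *ᵥ z) x D) := by
          rw [hD1, mul_smul_comm, smul_mul_assoc, ← smul_sub, mul_sub, sub_mul, ← mul_assoc, h0,
            zero_mul, ← mul_assoc, s1, s2, mul_assoc D, h0', mul_zero, Alt.A, map_sub, sub_mul]
          module
        rw [← mul_assoc, hcj, mul_assoc, mul_assoc (pmat A) D1, ← mul_sub, hd, mul_smul_comm,
          smul_smul, ← mul_assoc, ← pmat_comm_slot hAj, mul_assoc]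
        norm_num
      rwa [e2] at m2
    push Not at h2
    refine Or.inr (Classical.byContradiction fun hcon => hcon ?_)
    -- free of the factor
    suffices hfree : ∀ Y, slot j Y * D = D * slot j Y by
      exact ⟨hfree, Finset.mem_insert_of_mem his, hAi, fun l hl => hA1 l fun h =>
        hl (Finset.mem_insert_of_mem h), hAt, hD0, fun l hl => by
          rcases Finset.mem_insert.1 hl with rfl | hl
          exacts [hfree, hDc l hl], hmem⟩
    have hf : ∀ z x x', S.om x z = 1 → S.om x' z = 1 →
        blk j (S.J *ᵥ z) x D = blk j (S.J *ᵥ z) x' D := by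
      intro z x x' h h'
      have := h2 z (x - x') (by rw [S.om_sub_left, h, h', sub_self])
      rw [sub_eq_add_neg x x', ← neg_one_smul F x', blk_add_right, blk_smul_right, neg_one_smul,
        add_neg_eq_zero] at this
      exact this
    obtain ⟨v, hv⟩ := S.exists_om_one hu
    set P := blk j (S.J *ᵥ u) v D with hP
    have hgen : ∀ z x, S.om x z = 1 → blk j (S.J *ᵥ z) x D = P := by
      -- connect to the fixed pair
      have flip : ∀ z x, S.om x z = 1 → blk j (S.J *ᵥ z) x D = blk j (S.J *ᵥ x) (-z) D := fun z x h => by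
        rw [hanti z x, ← neg_one_smul F z, blk_smul_right, neg_one_smul]
      have mid : ∀ z x z', S.om x z = 1 → S.om x z' = 1 →
          blk j (S.J *ᵥ z) x D = blk j (S.J *ᵥ z') x D := fun z x z' h h' => by
        rw [flip z x h, flip z' x h']
        refine hf x _ _ ?_ ?_ <;>
          rw [← neg_one_smul F, S.om_smul_left, S.om_swap] <;> simp [h, h']
      intro z x h
      have hz : z ≠ 0 := fun e => by rw [e, S.om_swap, Alt.om, dotProduct_zero] at h; simp at h
      by_cases hzu : ∃ w, S.om w z = 1 ∧ S.om w u = 1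
      · obtain ⟨w, hw1, hw2⟩ := hzu
        rw [hf z x w h hw1, mid z w u hw1 hw2, hf u w v hw2 hv]
      · push Not at hzu
        have hdep : ∃ c : F, c • z = u := by
          by_contra hcon
          push Not at hcon
          obtain ⟨φ, hφ1, hφ2⟩ := exists_sep (v := S.J *ᵥ z) (w := S.J *ᵥ u) fun c hc => hcon c (by
            have := congrArg (fun y => S.Ji *ᵥ y) hc
            simpa [Matrix.mulVec_smul, Matrix.mulVec_mulVec, S.Ji_mul] using this)
          obtain ⟨z₁, hz₁⟩ := S.exists_om_one hz
          have e1 : S.om φ z = 0 := by rw [Alt.om, dotProduct_comm]; exact hφ1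
          have e2 : S.om φ u = 1 := by rw [Alt.om, dotProduct_comm]; exact hφ2
          exact hzu (z₁ + (1 - S.om z₁ u) • φ)
            (by rw [S.om_add_left, S.om_smul_left, e1, hz₁, mul_zero, add_zero])
            (by rw [S.om_add_left, S.om_smul_left, e2, mul_one, add_sub_cancel])
        obtain ⟨c, hc⟩ := hdep
        have hc1 : S.om x u = c := by rw [← hc, S.om_smul_right, h, mul_one]
        have hc0 : c ≠ 0 := fun e => hu (by rw [← hc, e, zero_smul])
        have e := hf u (c⁻¹ • x) v (by rw [S.om_smul_left, hc1, inv_mul_cancel₀ hc0]) hv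
        rw [← hP, ← hc, Matrix.mulVec_smul, blk_smul_left, blk_smul_right, smul_smul,
          mul_inv_cancel₀ hc0, one_smul] at e
        exact e
    have hall : ∀ z x, blk j (S.J *ᵥ z) x D = S.om x z • P := by
      intro z x
      by_cases h : S.om x z = 0
      · rw [h, zero_smul, h2 z x h]
      · have := hgen z ((S.om x z)⁻¹ • x) (by rw [S.om_smul_left, inv_mul_cancel₀ h])
        rw [blk_smul_right] at this
        rw [← this, smul_inv_smul₀ h]
    have hPc : ∀ Y, slot j Y * P = P * slot j Y := fun Y => blk_comm j _ _ D Y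
    have hDP : D = P := eq_of_blk j fun φ y => by
      obtain ⟨z, rfl⟩ := S.mulVec_J_surj φ
      rw [hall, blk_of_comm j _ _ hPc]
      rfl
    intro Y
    rw [hDP]
    exact hPc Y
  -- the initial state
  set D₀ := blk i (S.J *ᵥ u) u X with hD₀
  have hXD : r * X * r = r * D₀ := by rw [hrdef, Alt.R, Alt.ro]; exact sandwich_blk i _ _ _ _ _
  have hD0c : ∀ Y, slot i Y * D₀ = D₀ * slot i Y := fun Y => blk_comm i _ _ X Y
  set A₀ : Fin t → Matrix (Fin k) (Fin k) F := Function.update 1 i (S.R u) with hA₀
  have hst : St {i} A₀ D₀ := by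
    refine ⟨Finset.mem_singleton_self i, Function.update_self _ _ _,
      fun l hl => Function.update_of_ne (by simpa using hl) _ _, fun l => ?_, ?_, ?_, ?_⟩
    · rcases eq_or_ne l i with rfl | h
      · exact Or.inr (Or.inl ⟨u, hu, Function.update_self _ _ _⟩)
      · exact Or.inl (Function.update_of_ne h _ _)
    · intro h0
      exact hX 0 (by rw [zero_smul, hXD, h0, mul_zero])
    · intro l hl Y
      rw [Finset.mem_singleton] at hl
      subst hl
      exact hD0c Y
    · rwa [hA₀, ← slot_eq, ← hrdef, ← hXD]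
  obtain ⟨j, hji, hjD⟩ : ∃ j, j ≠ i ∧ ¬ ∀ Y, slot j Y * D₀ = D₀ * slot j Y := by
    by_contra hcon
    push Not at hcon
    obtain ⟨c, hc⟩ := eq_smul_one_of_comm hk (D := D₀) fun l Y => by
      rcases eq_or_ne l i with rfl | h
      exacts [hD0c Y, hcon l h Y]
    exact hX c (by rw [hXD, hc, mul_smul_comm, mul_one])
  obtain ⟨A₁, D₁, hA₁j, -, hst₁⟩ := (step {i} A₀ D₀ j (by simpa using hji) hst).resolve_right
    fun h => hjD h.1
  have hne1 : A₁ j ≠ 1 := by
    rcases hA₁j with ⟨w, hw, e⟩ | ⟨a, b, ha, hab, -, e⟩ <;> intro h1 <;> rw [e] at h1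
    · have := congrArg (fun Y => Y *ᵥ w) h1
      simp only [S.R_mulVec, S.om_self, zero_smul, Matrix.one_mulVec] at this
      exact hw this.symm
    · have := congrArg (fun Y => Y *ᵥ a) h1
      simp only [S.A_mulVec, S.om_self, hab, zero_smul, sub_zero, Matrix.one_mulVec] at this
      exact ha this.symm
  have hfin : ∀ s : Finset (Fin t), ∃ A D, A j ≠ 1 ∧ St (({i, j} : Finset (Fin t)) ∪ s) A D := by
    intro s
    induction s using Finset.induction with
    | empty =>
      refine ⟨A₁, D₁, hne1, ?_⟩
      rwa [Finset.union_empty, show ({i, j} : Finset (Fin t)) = insert j {i} from Finset.pair_comm i j]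
    | insert l s hl ih =>
      obtain ⟨A, D, hAj, hS⟩ := ih
      by_cases hlu : l ∈ ({i, j} : Finset (Fin t)) ∪ s
      · refine ⟨A, D, hAj, ?_⟩
        rwa [Finset.union_insert, Finset.insert_eq_of_mem hlu]
      · rw [Finset.union_insert]
        rcases step _ A D l hlu hS with ⟨A', D', -, hsame, hS'⟩ | ⟨-, hS'⟩
        · refine ⟨A', D', ?_, hS'⟩
          rwa [hsame j (fun e => hlu (Finset.mem_union_left _ (by simp [e])))]
        · exact ⟨A, D, hAj, hS'⟩
  obtain ⟨A, D, hAj, hall⟩ := hfin Finset.univ
  rw [Finset.union_eq_right.2 (Finset.subset_univ _)] at hall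
  obtain ⟨-, hAi, -, hAt, hD, hDc, hm⟩ := hall
  obtain ⟨c, hc⟩ := eq_smul_one_of_comm hk fun l Y => hDc l (Finset.mem_univ l) Y
  refine ⟨A, c, i, j, fun e => hD (by rw [hc, e, zero_smul]), hji.symm, ⟨u, hu, hAi⟩, hAj, hAt, ?_⟩
  rwa [hc, mul_smul_comm, mul_one] at hm

end CfsgLib.ClassicalMax.TWreath
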