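/-
Commutators of pure translation parts grow to transvections with pure centres.
-/
import Cfsg.Agent.Lib.ClassicalMax.TWreath.SpSeed
import Cfsg.Agent.Lib.ClassicalMax.TWreath.SpPair
set_option autoImplicit false
set_option linter.unusedSectionVars false

namespace CfsgLib.ClassicalMax.TWreath

open Matrix Cfsg.Geo

variable {F : Type*} [Field F] {t k : ℕ} {S : Alt F k} {M : Subgroup (GL (Fin t → Fin k) F)}

namespace Alt

lemma R_iso (S : Alt F k) (w : Fin k → F) (c : F) :
    S.adj (1 + c • S.R w) * (1 + c • S.R w) = 1 := by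
  rw [adj_add, adj_one, adj_smul, adj_R]
  simp only [add_mul, mul_add, one_mul, mul_one, smul_neg, neg_mul, smul_mul_smul_comm, R_sq,
    smul_zero, neg_zero, add_zero]
  abel

lemma iso_mul (S : Alt F k) {G G' : Matrix (Fin k) (Fin k) F} (hG : S.adj G * G = 1)
    (hG' : S.adj G' * G' = 1) : S.adj (G * G') * (G * G') = 1 := by
  rw [adj_mul, mul_assoc, ← mul_assoc (S.adj G), hG, one_mul, hG']

lemma om_iso (S : Alt F k) {G : Matrix (Fin k) (Fin k) F} (hG : S.adj G * G = 1) (x y : Fin k → F) :
    S.om (G *ᵥ x) (G *ᵥ y) = S.om x y := by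
  rw [om_adj, Matrix.mulVec_mulVec, hG, Matrix.one_mulVec]

/-- Transvections move a vector to a non-orthogonal one. -/
lemma move_one (S : Alt F k) {a b x : Fin k → F} (h : S.om a b ≠ 0) (hxa : S.om x a = 0)
    (hxb : S.om x b = 0) : ∃ G, S.adj G * G = 1 ∧ G *ᵥ a = b ∧ G *ᵥ x = x := by
  refine ⟨1 + (S.om a b)⁻¹ • S.R (b - a), S.R_iso _ _, ?_, ?_⟩
  · rw [Matrix.add_mulVec, Matrix.one_mulVec, Matrix.smul_mulVec, R_mulVec, S.om_sub_right, S.om_self,
      sub_zero, inv_smul_smul₀ h, add_sub_cancel]
  · rw [Matrix.add_mulVec, Matrix.one_mulVec, Matrix.smul_mulVec, R_mulVec, S.om_sub_right, hxa, hxb,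
      sub_zero, zero_smul, smul_zero, add_zero]

/-- A vector of the orthogonal of `x` not orthogonal to two given ones. -/
lemma exists_mid (S : Alt F k) {a b x : Fin k → F} (ha : ∀ c : F, c • x ≠ a) (hb : ∀ c : F, c • x ≠ b) :
    ∃ m, S.om x m = 0 ∧ S.om a m ≠ 0 ∧ S.om m b ≠ 0 := by
  have h : ∀ a, (∀ c : F, c • x ≠ a) → ∃ m, S.om x m = 0 ∧ S.om a m = 1 := by
    intro a ha
    obtain ⟨φ, hφ1, hφ2⟩ := exists_sep (v := S.J *ᵥ x) (w := S.J *ᵥ a) fun c hc => ha c (by
      have := congrArg (fun y => S.Ji *ᵥ y) hc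
      simpa [Matrix.mulVec_smul, Matrix.mulVec_mulVec, S.Ji_mul] using this)
    refine ⟨-φ, ?_, ?_⟩ <;> rw [← neg_one_smul F φ, S.om_smul_right, S.om_swap]
    · rw [show S.om φ x = 0 by rw [om, dotProduct_comm]; exact hφ1]; simp
    · rw [show S.om φ a = 1 by rw [om, dotProduct_comm]; exact hφ2]; simp
  obtain ⟨p, hp0, hp1⟩ := h a ha
  obtain ⟨q, hq0, hq1⟩ := h b hb
  by_cases h1 : S.om p b = 0
  · by_cases h2 : S.om a q = 0
    · exact ⟨p + q, by rw [S.om_add_right, hp0, hq0, add_zero],
        by rw [S.om_add_right, hp1, h2, add_zero]; exact one_ne_zero,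
        by rw [S.om_add_left, h1, zero_add, S.om_swap, hq1]; simp⟩
    · exact ⟨q, hq0, h2, by rw [S.om_swap, hq1]; simp⟩
  · exact ⟨p, hp0, by rw [hp1]; exact one_ne_zero, h1⟩

/-- Isometries are transitive on orthogonal independent pairs fixing the first. -/
lemma move_two (S : Alt F k) {a b x : Fin k → F} (hxa : S.om x a = 0) (hxb : S.om x b = 0)
    (ha : ∀ c : F, c • x ≠ a) (hb : ∀ c : F, c • x ≠ b) :
    ∃ G, S.adj G * G = 1 ∧ G *ᵥ a = b ∧ G *ᵥ x = x := by
  by_cases h : S.om a b = 0
  · obtain ⟨m, hm0, hm1, hm2⟩ := S.exists_mid ha hb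
    obtain ⟨G, hG, hGa, hGx⟩ := S.move_one hm1 hxa hm0
    obtain ⟨G', hG', hGa', hGx'⟩ := S.move_one hm2 hm0 hxb
    exact ⟨G' * G, S.iso_mul hG' hG, by rw [← Matrix.mulVec_mulVec, hGa, hGa'],
      by rw [← Matrix.mulVec_mulVec, hGx, hGx']⟩
  · exact S.move_one h hxa hxb

lemma move_vec (S : Alt F k) {a b : Fin k → F} (ha : a ≠ 0) (hb : b ≠ 0) :
    ∃ G, S.adj G * G = 1 ∧ G *ᵥ a = b := by
  have h0 : ∀ y, S.om (0 : Fin k → F) y = 0 := fun y => by rw [om, dotProduct_zero]
  obtain ⟨G, h1, h2, -⟩ := S.move_two (a := a) (b := b) (x := 0) (h0 a) (h0 b)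
    (fun c hc => ha (by rw [← hc, smul_zero])) (fun c hc => hb (by rw [← hc, smul_zero]))
  exact ⟨G, h1, h2⟩

lemma conj_A (S : Alt F k) {G : Matrix (Fin k) (Fin k) F} (hG : S.adj G * G = 1) (a b : Fin k → F) :
    G * S.A a b * S.adj G = S.A (G *ᵥ a) (G *ᵥ b) := by
  have h : ∀ a b, G * S.ro a b * S.adj G = S.ro (G *ᵥ a) (G *ᵥ b) := fun a b => by
    rw [ro, ro, Matrix.mul_vecMulVec, Matrix.vecMulVec_mul]
    congr 1
    refine dotProduct_eq _ _ fun x => ?_
    rw [← Matrix.dotProduct_mulVec]
    show S.om (S.adj G *ᵥ x) b = S.om x (G *ᵥ b)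
    rw [S.om_adj, S.adj_adj]
  rw [A, A, mul_sub, sub_mul, h, h]

/-- The quadratic value of a matrix. -/
def qv (S : Alt F k) (X : Matrix (Fin k) (Fin k) F) (w : Fin k → F) : F := S.om (X *ᵥ w) w

lemma R_X_R (S : Alt F k) (X : Matrix (Fin k) (Fin k) F) (w : Fin k → F) :
    S.R w * X * S.R w = S.qv X w • S.R w := by
  rw [R, ro, Matrix.vecMulVec_mul, Matrix.vecMulVec_mul_vecMulVec, Matrix.vecMulVec_smul]
  congr 1
  rw [qv, om, Matrix.dotProduct_mulVec]

lemma qv_adj (S : Alt F k) (X : Matrix (Fin k) (Fin k) F) (w : Fin k → F) :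
    S.qv (S.adj X) w = -S.qv X w := by
  rw [qv, qv, S.om_adj, S.adj_adj, S.om_swap]

lemma qv_ro (S : Alt F k) (a b w : Fin k → F) : S.qv (S.ro a b) w = S.om w b * S.om a w := by
  rw [qv, ro_mulVec, om_smul_left]

end Alt

/-- Signed products of pure parts. -/
lemma pmat_update_zero (A : Fin t → Matrix (Fin k) (Fin k) F) (i : Fin t) :
    pmat (Function.update A i (0 : Matrix (Fin k) (Fin k) F)) = 0 :=
  Matrix.ext fun p q => by simp [pmat_update_apply]

lemma pmat_mul_eq_zero {A B : Fin t → Matrix (Fin k) (Fin k) F} (i : Fin t) (h : A i * B i = 0) :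
    pmat A * pmat B = 0 := by
  rw [pmat_mul, ← Function.update_eq_self i (fun l => A l * B l)]
  simp only [h]
  exact pmat_update_zero _ _

lemma pmat_sandwich_root (l : Fin t) (w : Fin k → F) (P : Fin t → Matrix (Fin k) (Fin k) F) :
    slot l (S.R w) * pmat P * slot l (S.R w) =
      S.qv (P l) w • pmat (Function.update P l (S.R w)) := by
  rw [slot_mul_pmat, pmat_mul_slot, Function.update_idem, Function.update_self, S.R_X_R,
    pmat_update_smul]

/-- Same type of factor. -/
def SameType (S : Alt F k) (X Y : Matrix (Fin k) (Fin k) F) : Prop :=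
  (X = 1 ∧ Y = 1) ∨ (S.IsE X ∧ S.IsE Y) ∨ (S.IsA X ∧ S.IsA Y)

variable (H : Full S M)
include H

lemma pmat_mem {G : Fin t → Matrix (Fin k) (Fin k) F} (hG : ∀ l, S.adj (G l) * G l = 1) :
    MV M (pmat G) := H.pm G hG

/-- Members with pure translation part move to any pattern of the same types. -/
lemma retarget {c : F} {A B : Fin t → Matrix (Fin k) (Fin k) F} (h : MV M (1 + c • pmat A))
    (σ : Equiv.Perm (Fin t)) (hAB : ∀ l, SameType S (A (σ⁻¹ l)) (B l)) :
    MV M (1 + c • pmat B) := by
  classical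
  have hex : ∀ l, ∃ G, S.adj G * G = 1 ∧ G * A (σ⁻¹ l) * S.adj G = B l := by
    intro l
    rcases hAB l with ⟨hX, hY⟩ | ⟨⟨w, hw, hX⟩, ⟨w', hw', hY⟩⟩ |
      ⟨⟨a, b, ha, hab, hind, hX⟩, ⟨a', b', ha', hab', hind', hY⟩⟩
    · exact ⟨1, by rw [S.adj_one, one_mul], by rw [hX, hY, S.adj_one, mul_one, one_mul]⟩
    · obtain ⟨G, hG, hGw⟩ := S.move_vec hw hw'
      exact ⟨G, hG, by rw [hX, hY, R_conj hG, hGw]⟩
    · obtain ⟨G₁, hG₁, hG₁a⟩ := S.move_vec ha ha'
      obtain ⟨G₂, hG₂, hG₂b, hG₂a⟩ := S.move_two (x := a') (a := G₁ *ᵥ b) (b := b')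
        (by rw [← hG₁a, S.om_iso hG₁, hab]) hab' (fun c hc => hind c (by
          rw [← hG₁a, ← Matrix.mulVec_smul] at hc
          have := congrArg (fun y => S.adj G₁ *ᵥ y) hc
          simpa [Matrix.mulVec_mulVec, hG₁] using this)) hind'
      refine ⟨G₂ * G₁, S.iso_mul hG₂ hG₁, ?_⟩
      rw [hX, hY, S.conj_A (S.iso_mul hG₂ hG₁), ← Matrix.mulVec_mulVec, ← Matrix.mulVec_mulVec, hG₁a,
        hG₂a, hG₂b]
  choose G hG hGe using hex
  have hp : MV M (permMat σ) := H.perm σ
  have hp' : MV M (permMat σ⁻¹) := H.perm σ⁻¹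
  have e : pmat G * permMat σ * (1 + c • pmat A) * (permMat σ⁻¹ * pmat fun l => S.adj (G l)) =
      1 + c • pmat B := by
    have h1 : pmat G * (pmat fun l => S.adj (G l)) = 1 := by
      rw [pmat_mul]
      simp only [fun l => mul_eq_one_comm.1 (hG l)]
      exact pmat_one
    have h2 : permMat σ * pmat A * permMat σ⁻¹ = pmat (A ∘ ⇑σ⁻¹) := by
      rw [permMat_mul_pmat, mul_assoc, permMat_mul, mul_inv_cancel, permMat_one, mul_one]
    calc _ = pmat G * (permMat σ * permMat σ⁻¹ + c • (permMat σ * pmat A * permMat σ⁻¹)) *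
          pmat fun l => S.adj (G l) := by
            simp only [mul_add, add_mul, mul_one, mul_smul_comm, smul_mul_assoc, mul_assoc]
      _ = _ := by
        rw [permMat_mul, mul_inv_cancel, permMat_one, h2, mul_add, mul_one, add_mul, h1, mul_smul_comm,
          smul_mul_assoc, pmat_mul, pmat_mul]
        simp only [Function.comp_apply, hGe]
  rw [← e]
  exact ((pmat_mem H hG).mul hp).mul h |>.mul (hp'.mul (pmat_mem H fun l => by
    rw [S.adj_adj]; exact mul_eq_one_comm.1 (hG l)))

variable [Fintype F]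

/-- A commutator of two pure parts, sandwiched at the factors of `O`. -/
theorem grow_step_gen {A B : Fin t → Matrix (Fin k) (Fin k) F} {c d : F} (hc : c ≠ 0) (hd : d ≠ 0)
    (hA : MV M (1 + c • pmat A)) (hB : MV M (1 + d • pmat B)) {i b l₀ : Fin t} {z : Fin k → F}
    (hA2 : A i * A i = 0) (hABA : A i * B i * A i = 0)
    (hB2 : B b * B b = 0) (hBAB : B b * A b * B b = 0)
    (hP : ∃ P, A i * B i = S.R z * P) (hQ : ∃ Q, B i * A i = Q * S.R z)
    (hR1 : S.R z * (B i * A i) = 0) (hR2 : A i * B i * S.R z = 0)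
    (O : Finset (Fin t)) (hl₀ : l₀ ∈ O) (hne : l₀ ≠ i) (w : Fin t → Fin k → F) :
    ∃ e : F, e ≠ 0 ∧ MV M (1 + e •
      ((∏ l ∈ O, S.qv (A l * B l) (w l)) • pmat (fun l => if l ∈ O then S.R (w l) else A l * B l) -
        (∏ l ∈ O, S.qv (B l * A l) (w l)) •
          pmat (fun l => if l ∈ O then S.R (w l) else B l * A l))) := by
  classical
  set X := pmat A
  set Y := pmat B
  have xx : X * X = 0 := pmat_mul_eq_zero i hA2
  have yy : Y * Y = 0 := pmat_mul_eq_zero b hB2
  have xyx : X * Y * X = 0 := by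
    show pmat A * pmat B * pmat A = 0
    rw [pmat_mul]
    exact pmat_mul_eq_zero i hABA
  have yxy : Y * X * Y = 0 := by
    show pmat B * pmat A * pmat B = 0
    rw [pmat_mul]
    exact pmat_mul_eq_zero b hBAB
  set Z := (c * d) • (pmat (fun l => A l * B l) - pmat fun l => B l * A l) with hZ
  have hZ' : Z = (c • X) * (d • Y) - (d • Y) * (c • X) := by
    rw [hZ, smul_mul_smul_comm, smul_mul_smul_comm, pmat_mul, pmat_mul, mul_comm d c, smul_sub]
  have mA' : MV M (1 - c • X) := hA.inv (by
    rw [add_mul, one_mul, mul_sub, mul_one, smul_mul_smul_comm, xx, smul_zero, sub_zero, sub_add_cancel])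
  have mB' : MV M (1 - d • Y) := hB.inv (by
    rw [add_mul, one_mul, mul_sub, mul_one, smul_mul_smul_comm, yy, smul_zero, sub_zero, sub_add_cancel])
  have e1 : (1 + c • X) * (1 + d • Y) * (1 - c • X) * (1 - d • Y) = 1 + Z := by
    rw [hZ']
    generalize hx : c • X = x
    generalize hy : d • Y = y
    have a1 : x * x = 0 := by rw [← hx, smul_mul_smul_comm, xx, smul_zero]
    have a2 : y * y = 0 := by rw [← hy, smul_mul_smul_comm, yy, smul_zero]
    have a3 : x * y * x = 0 := by
      rw [← hx, ← hy, smul_mul_smul_comm, smul_mul_smul_comm, xyx, smul_zero]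
    have a4 : y * x * y = 0 := by
      rw [← hx, ← hy, smul_mul_smul_comm, smul_mul_smul_comm, yxy, smul_zero]
    have a3' : ∀ p, x * (y * (x * p)) = 0 := fun p => by
      rw [← mul_assoc y, ← mul_assoc, ← mul_assoc x, a3, zero_mul]
    simp only [mul_add, add_mul, mul_sub, sub_mul, one_mul, mul_one, mul_assoc, a1, a2, a3',
      mul_zero, sub_zero, zero_sub, add_zero, zero_add]
    simp only [← mul_assoc, a1, a2, a3, a4, zero_mul, sub_zero, zero_sub, add_zero, zero_add]
    abel
  have mZ : MV M (1 + Z) := e1 ▸ ((hA.mul hB).mul mA').mul mB'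
  set r := slot (F := F) i (S.R z) with hr
  have hrr : r * r = 0 := by rw [hr, ← map_mul, S.R_sq, map_zero]
  have hshp : Shp r Z := by
    obtain ⟨P, hP⟩ := hP
    obtain ⟨Q, hQ⟩ := hQ
    have p1 : pmat (fun l => A l * B l) = r * pmat (Function.update (fun l => A l * B l) i P) := by
      rw [hr, slot_mul_pmat, Function.update_idem, Function.update_self, ← hP]
      conv_lhs => rw [← Function.update_eq_self i (fun l => A l * B l)]
    have p2 : pmat (fun l => B l * A l) = pmat (Function.update (fun l => B l * A l) i Q) * r := by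
      rw [hr, pmat_mul_slot, Function.update_idem, Function.update_self, ← hQ]
      conv_lhs => rw [← Function.update_eq_self i (fun l => B l * A l)]
    refine Shp.smul ⟨⟨pmat (Function.update (fun l => A l * B l) i P),
      -pmat (Function.update (fun l => B l * A l) i Q), by rw [neg_mul, ← p1, ← p2, sub_eq_add_neg]⟩,
      ?_, ?_⟩ _
    · rw [mul_sub, p1, ← mul_assoc, hrr, zero_mul, zero_sub, neg_eq_zero, hr, slot_mul_pmat, hR1,
        pmat_update_zero]
    · rw [sub_mul, p2, mul_assoc, hrr, mul_zero, sub_zero, hr, pmat_mul_slot, hR2, pmat_update_zero]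
  have hZZ : Z * Z = 0 := by
    rw [hZ', smul_mul_smul_comm, smul_mul_smul_comm, mul_comm d c, ← smul_sub, smul_mul_smul_comm,
      sub_mul, mul_sub, mul_sub]
    simp only [← mul_assoc, xyx, yxy, mul_assoc X Y Y, mul_assoc Y X X, xx, yy, zero_mul, mul_zero,
      sub_zero, smul_zero]
  have mexZ : MV M (ex F Z) := by rwa [ex_sq_zero hZZ]
  let Q (s : Finset (Fin t)) (P : Fin t → Matrix (Fin k) (Fin k) F) : Fin t → Matrix (Fin k) (Fin k) F :=
    fun l => if l ∈ s then S.R (w l) else P l
  let AB : Fin t → Matrix (Fin k) (Fin k) F := fun l => A l * B l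
  let BA : Fin t → Matrix (Fin k) (Fin k) F := fun l => B l * A l
  let Z' (s : Finset (Fin t)) := (∏ l ∈ s, S.qv (AB l) (w l)) • pmat (Q s AB) -
    (∏ l ∈ s, S.qv (BA l) (w l)) • pmat (Q s BA)
  have hQ' : ∀ (s : Finset (Fin t)) P l, l ∉ s →
      slot l (S.R (w l)) * pmat (Q s P) * slot l (S.R (w l)) =
        S.qv (P l) (w l) • pmat (Q (insert l s) P) := by
    intro s P l hl
    rw [pmat_sandwich_root, show Q s P l = P l from if_neg hl]
    congr 2
    funext n
    rcases eq_or_ne n l with rfl | h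
    · simp [Q]
    · simp [Q, h]
  have hall : ∀ s : Finset (Fin t), s ⊆ O → ∃ e : F, e ≠ 0 ∧ MV M (1 + e • Z' (insert l₀ s)) := by
    intro s hsO
    induction s using Finset.induction with
    | empty =>
      have := sandwich_mem H.toOver hne.symm z (w l₀) hshp mexZ
      refine ⟨(-2) * (c * d), mul_ne_zero (neg_ne_zero.2 S.two) (mul_ne_zero hc hd), ?_⟩
      have e : slot l₀ (S.R (w l₀)) * ((-2 : F) • Z) * slot l₀ (S.R (w l₀)) =
          ((-2) * (c * d)) • Z' (insert l₀ ∅) := by
        have e0 : ∀ P : Fin t → Matrix (Fin k) (Fin k) F, pmat P = pmat (Q ∅ P) := fun P => by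
          congr 1
        rw [hZ, smul_smul, mul_smul_comm, smul_mul_assoc, mul_sub, sub_mul, e0 (fun l => A l * B l),
          e0 (fun l => B l * A l), hQ' _ _ _ (Finset.notMem_empty _),
          hQ' _ _ _ (Finset.notMem_empty _)]
        simp [Z', AB, BA]
      rwa [e] at this
    | insert l s hl ih =>
      obtain ⟨e, he, hm⟩ := ih ((Finset.subset_insert l s).trans hsO)
      by_cases hll : l ∈ insert l₀ s
      · exact ⟨e, he, by rwa [Finset.insert_comm, Finset.insert_eq_of_mem hll]⟩
      set s₁ := insert l₀ s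
      obtain ⟨v, hv⟩ : ∃ v, S.R (w l₀) * (-S.R v) * S.R (w l₀) = S.R (w l₀) := by
        rcases eq_or_ne (w l₀) 0 with h | h
        · exact ⟨0, by rw [h]; simp [Alt.R, Alt.ro]⟩
        · obtain ⟨v, hv⟩ := S.exists_om_one h
          exact ⟨v, by rw [mul_neg, neg_mul, S.R_sandwich, hv]; simp⟩
      have hr0 : slot l₀ (S.R (w l₀)) * slot l₀ (S.R (w l₀)) =
          (0 : Matrix (Fin t → Fin k) (Fin t → Fin k) F) := by rw [← map_mul, S.R_sq, map_zero]
      have hfix : ∀ P, slot l₀ (S.R (w l₀)) * (slot l₀ (-S.R v) * pmat (Q s₁ P) * slot l₀ (-S.R v)) *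
          slot l₀ (S.R (w l₀)) = pmat (Q s₁ P) := fun P => by
        have h0 : Q s₁ P l₀ = S.R (w l₀) := if_pos (Finset.mem_insert_self _ _)
        rw [← mul_assoc, ← mul_assoc, ← map_mul, mul_assoc, ← map_mul, slot_mul_pmat, pmat_mul_slot,
          Function.update_idem, Function.update_self, h0, hv, ← mul_assoc, hv, ← h0,
          Function.update_eq_self]
      have hsh : Shp (slot l₀ (S.R (w l₀))) (e • Z' s₁) := by
        refine Shp.smul ?_ _
        have hterm : ∀ (a : F) P, Shp (slot l₀ (S.R (w l₀))) (a • pmat (Q s₁ P)) := fun a P => by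
          rw [← hfix P]; exact (shp_sandwich hr0 _).smul a
        exact (hterm _ _).sub (hterm _ _)
      have hsq : e • Z' s₁ * (e • Z' s₁) = 0 := by
        have h0 : ∀ P P', pmat (Q s₁ P) * pmat (Q s₁ P') = 0 := fun P P' =>
          pmat_mul_eq_zero l₀ (by simp [Q, s₁, S.R_sq])
        simp only [Z', smul_sub, smul_smul, sub_mul, mul_sub, smul_mul_smul_comm, h0, smul_zero,
          sub_zero]
      have hnl : l₀ ≠ l := fun h => hll (by rw [← h]; exact Finset.mem_insert_self _ _)
      have := sandwich_mem H.toOver hnl (w l₀) (w l) hsh (by rwa [ex_sq_zero hsq])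
      refine ⟨(-2) * e, mul_ne_zero (neg_ne_zero.2 S.two) he, ?_⟩
      have e2 : slot l (S.R (w l)) * ((-2 : F) • (e • Z' s₁)) * slot l (S.R (w l)) =
          ((-2) * e) • Z' (insert l s₁) := by
        simp only [Z', smul_smul, mul_smul_comm, smul_mul_assoc, mul_sub, sub_mul, hQ' _ _ _ hll,
          Finset.prod_insert hll]
        module
      rw [e2] at this
      rwa [Finset.insert_comm]
  obtain ⟨e, he, hm⟩ := hall O subset_rfl
  rw [Finset.insert_eq_of_mem hl₀] at hm
  exact ⟨e, he, hm⟩

/-- A commutator of two pure parts, reduced at the factors of `O`. -/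
theorem grow_step {A B T : Fin t → Matrix (Fin k) (Fin k) F} {c d : F} (hc : c ≠ 0) (hd : d ≠ 0)
    (hA : MV M (1 + c • pmat A)) (hB : MV M (1 + d • pmat B)) {i b l₀ : Fin t} {z : Fin k → F}
    (hA2 : A i * A i = 0) (hABA : A i * B i * A i = 0)
    (hB2 : B b * B b = 0) (hBAB : B b * A b * B b = 0)
    (hP : ∃ P, A i * B i = S.R z * P) (hQ : ∃ Q, B i * A i = Q * S.R z)
    (hR1 : S.R z * (B i * A i) = 0) (hR2 : A i * B i * S.R z = 0)
    (O : Finset (Fin t)) (hl₀ : l₀ ∈ O) (hne : l₀ ≠ i) (w : Fin t → Fin k → F) (sg : Fin t → F)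
    (hq : ∀ l ∈ O, S.qv (A l * B l) (w l) ≠ 0)
    (hs : ∀ l ∈ O, S.qv (B l * A l) (w l) = sg l * S.qv (A l * B l) (w l))
    (hprod : ∏ l ∈ O, sg l ≠ 1) (hT : ∀ l, l ∉ O → A l * B l = T l ∧ B l * A l = T l) :
    ∃ e : F, e ≠ 0 ∧ MV M (1 + e • pmat fun l => if l ∈ O then S.R (w l) else T l) := by
  classical
  obtain ⟨e, he, hm⟩ := grow_step_gen H hc hd hA hB hA2 hABA hB2 hBAB hP hQ hR1 hR2 O hl₀ hne w
  have hQT : pmat (fun l => if l ∈ O then S.R (w l) else A l * B l) =
        pmat (fun l => if l ∈ O then S.R (w l) else T l) ∧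
      pmat (fun l => if l ∈ O then S.R (w l) else B l * A l) =
        pmat (fun l => if l ∈ O then S.R (w l) else T l) := by
    constructor <;> congr 1 <;> funext l <;> split_ifs with h
    exacts [rfl, (hT l h).1, rfl, (hT l h).2]
  refine ⟨e * ((∏ l ∈ O, S.qv (A l * B l) (w l)) * (1 - ∏ l ∈ O, sg l)), mul_ne_zero he (mul_ne_zero
    (Finset.prod_ne_zero_iff.2 hq) (sub_ne_zero.2 (Ne.symm hprod))), ?_⟩
  rw [hQT.1, hQT.2, Finset.prod_congr rfl (fun l hl => hs l hl : ∀ l ∈ O, S.qv (B l * A l) (w l) = _),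
    Finset.prod_mul_distrib, ← sub_smul, smul_smul] at hm
  rw [show e * ((∏ l ∈ O, S.qv (A l * B l) (w l)) * (1 - ∏ l ∈ O, sg l)) =
    e * ((∏ l ∈ O, S.qv (A l * B l) (w l)) -
      (∏ l ∈ O, sg l) * ∏ l ∈ O, S.qv (A l * B l) (w l)) by ring]
  exact hm

/-- A member whose translation part has roots on `J`, shears on `K` and identities elsewhere. -/
def Pat (S : Alt F k) (M : Subgroup (GL (Fin t → Fin k) F)) (J K : Finset (Fin t)) : Prop :=
  ∃ (A : Fin t → Matrix (Fin k) (Fin k) F) (c : F),
    c ≠ 0 ∧ MV M (1 + c • pmat A) ∧ (∀ l ∈ J, S.IsE (A l)) ∧ (∀ l ∈ K, S.IsA (A l)) ∧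
      ∀ l, l ∉ J → l ∉ K → A l = 1

/-- The patterns which do not grow. -/
def Stuck (J K : Finset (Fin t)) : Prop :=
  J = Finset.univ ∨ J.card + 1 = t ∨ (Odd K.card ∧ J ∪ K = Finset.univ)

/-- A non-scalar root set gives a pattern which does not grow. -/
theorem grow_max (hk : 0 < k) (hno : ¬ NoUp S M) :
    ∃ J K : Finset (Fin t), Disjoint J K ∧ Odd J.card ∧ Pat S M J K ∧ Stuck J K := by
  classical
  obtain ⟨A₀, c₀, i₀, j₀, hc₀, hij₀, hi₀, hj₀, hty, hm₀⟩ := exists_seed H.toOver hk hno
  obtain ⟨u, hu, -⟩ := id hi₀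
  have hoddJ : ∀ J K, Disjoint J K → J.Nonempty → Pat S M J K → Odd J.card := by
    rintro J K hJK ⟨i, hi⟩ ⟨A, c, hc, hm, hJ, hK, h1⟩
    have hsgn : ∀ l, S.adj (A l) = (if l ∈ J then (-1 : F) else 1) • A l := by
      intro l
      by_cases hlJ : l ∈ J
      · obtain ⟨a, -, e⟩ := hJ l hlJ
        rw [if_pos hlJ, e, S.adj_R, neg_one_smul]
      · rw [if_neg hlJ, one_smul]
        by_cases hlK : l ∈ K
        · obtain ⟨a, b, -, -, -, e⟩ := hK l hlK
          rw [e, S.adj_A]
        · rw [h1 l hlJ hlK, S.adj_one]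
    have hprod : (∏ l, if l ∈ J then (-1 : F) else 1) = (-1) ^ J.card := by
      rw [Finset.prod_ite, Finset.prod_const, Finset.prod_const_one, mul_one]
      congr 1
      exact congrArg Finset.card (by ext; simp)
    have hne : pmat A ≠ 0 := pmat_ne_zero fun l => by
      by_cases hlJ : l ∈ J
      · obtain ⟨a, ha, e⟩ := hJ l hlJ
        rw [e]; exact R_ne_zero ha
      · by_cases hlK : l ∈ K
        · exact (hK l hlK).ne_zero
        · rw [h1 l hlJ hlK]
          have : Nonempty (Fin k) := ⟨⟨0, hk⟩⟩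
          exact one_ne_zero
    have hsq : pmat A * pmat A = 0 := pmat_mul_eq_zero i (by
      obtain ⟨a, -, e⟩ := hJ i hi
      rw [e, S.R_sq])
    have h2 := iso_of_MV H.toOver hm
    rw [map_add, S.adjB_one, map_smul, S.adjB_pmat_self A _ hsgn, hprod] at h2
    simp only [add_mul, mul_add, one_mul, mul_one, smul_mul_smul_comm, smul_mul_assoc, mul_smul_comm,
      hsq, smul_zero, add_zero, smul_smul] at h2
    rw [add_assoc, add_eq_left, ← add_smul, smul_eq_zero, or_iff_left hne] at h2
    rw [← Nat.not_even_iff_odd]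
    intro he
    rw [he.neg_one_pow, mul_one, ← two_mul, mul_eq_zero, or_iff_left hc] at h2
    exact S.two h2
  obtain ⟨v, hv⟩ := S.exists_om_one hu
  have hv0 : v ≠ 0 := fun h => by rw [h, Alt.om, dotProduct_zero] at hv; exact zero_ne_one hv
  have huv : S.om u v = -1 := by rw [S.om_swap, hv]
  have quv : S.qv (S.R u * S.R v) (u + v) ≠ 0 := by
    rw [Alt.R, Alt.R, S.ro_mul, hv, one_smul, S.qv_ro, S.om_add_left, S.om_self, huv, S.om_add_right,
      S.om_self, huv]
    simp
  have quv' : S.qv (S.R v * S.R u) (u + v) = (-1) * S.qv (S.R u * S.R v) (u + v) := by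
    rw [show S.R v * S.R u = S.adj (S.R u * S.R v) by rw [S.adj_mul, S.adj_R, S.adj_R, neg_mul_neg],
      S.qv_adj, neg_one_mul]
  have hRR : ∀ z : Fin k → F, z ≠ 0 → ∃ P, S.R z = S.R z * P ∧ ∃ Q, S.R z = Q * S.R z := fun z hz =>
    ⟨1, (mul_one _).symm, 1, (one_mul _).symm⟩
  have main : ∀ n (J K : Finset (Fin t)), t - J.card = n → Disjoint J K → J.Nonempty →
      2 ≤ J.card + K.card → Pat S M J K →
        ∃ J K : Finset (Fin t), Disjoint J K ∧ Odd J.card ∧ Pat S M J K ∧ Stuck J K := by
    intro n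
    induction n using Nat.strong_induction_on with
    | _ n ih =>
      intro J K hn hJK hJne h2 hP
      have hodd := hoddJ J K hJK hJne hP
      by_cases hst : Stuck J K
      · exact ⟨J, K, hJK, hodd, hP, hst⟩
      simp only [Stuck, not_or, not_and] at hst
      obtain ⟨hJu, hJ1, hst⟩ := hst
      obtain ⟨A₁, c, hc, hm, hJ, hK, h1⟩ := hP
      have hJt : J.card < t := by
        have := Finset.card_lt_card (Finset.ssubset_univ_iff.2 hJu)
        simpa using this
      have next' : ∀ J' : Finset (Fin t), J.card < J'.card → Pat S M J' ∅ →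
          ∃ J K : Finset (Fin t), Disjoint J K ∧ Odd J.card ∧ Pat S M J K ∧ Stuck J K := by
        intro J' hlt hP'
        refine ih (t - J'.card) (by omega) J' ∅ rfl (Finset.disjoint_empty_right _)
          (Finset.card_pos.1 (by omega)) ?_ hP'
        have := hJne.card_pos
        omega
      rcases K.eq_empty_or_nonempty with rfl | hKne
      · -- two new factors
        rw [Finset.card_empty, add_zero] at h2
        obtain ⟨m, hm'⟩ := hodd
        have hout : 1 < Jᶜ.card := by rw [Finset.card_compl, Fintype.card_fin]; omega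
        obtain ⟨a, ha, b, hb, hab⟩ := Finset.one_lt_card.1 hout
        rw [Finset.mem_compl] at ha hb
        obtain ⟨i, hi, j, hj, hij⟩ := Finset.one_lt_card.1 (show 1 < J.card by omega)
        have hai : a ≠ i := fun e => ha (e ▸ hi)
        have haj : a ≠ j := fun e => ha (e ▸ hj)
        have hbi : b ≠ i := fun e => hb (e ▸ hi)
        have hbj : b ≠ j := fun e => hb (e ▸ hj)
        let O := (J.erase i).erase j
        let A : Fin t → Matrix (Fin k) (Fin k) F := fun l => if l ∈ J then S.R u else 1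
        let B : Fin t → Matrix (Fin k) (Fin k) F := fun l =>
          if l = a ∨ l = b then S.R u else if l ∈ O then S.R v else 1
        have hA : MV M (1 + c • pmat A) := retarget H hm 1 fun l => by
          simp only [inv_one, Equiv.Perm.one_apply, A]
          by_cases h : l ∈ J
          · rw [if_pos h]; exact Or.inr (Or.inl ⟨hJ l h, u, hu, rfl⟩)
          · rw [if_neg h]; exact Or.inl ⟨h1 l h (Finset.notMem_empty l), rfl⟩
        have hB : MV M (1 + c • pmat B) := retarget H hA (Equiv.swap i a * Equiv.swap j b) fun l => by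
          have hσ : (Equiv.swap i a * Equiv.swap j b)⁻¹ l =
              if l = a then i else if l = i then a else if l = b then j else if l = j then b else l := by
            rw [_root_.mul_inv_rev, Equiv.swap_inv, Equiv.swap_inv, Equiv.Perm.mul_apply]
            by_cases e1 : l = a
            · subst e1
              rw [Equiv.swap_apply_right, Equiv.swap_apply_of_ne_of_ne hij hbi.symm, if_pos rfl]
            by_cases e2 : l = i
            · subst e2
              rw [Equiv.swap_apply_left, Equiv.swap_apply_of_ne_of_ne haj hab, if_neg e1, if_pos rfl]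
            rw [Equiv.swap_apply_of_ne_of_ne e2 e1, if_neg e1, if_neg e2]
            by_cases e3 : l = b
            · subst e3; rw [Equiv.swap_apply_right, if_pos rfl]
            by_cases e4 : l = j
            · subst e4; rw [Equiv.swap_apply_left, if_neg e3, if_pos rfl]
            rw [Equiv.swap_apply_of_ne_of_ne e4 e3, if_neg e3, if_neg e4]
          rw [hσ]
          simp only [A, B, O, Finset.mem_erase]
          by_cases e1 : l = a
          · subst e1; simp [hi, SameType]; exact Or.inr (Or.inl ⟨u, hu, rfl⟩)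
          by_cases e2 : l = i
          · subst e2; simp [ha, e1, hbi.symm, SameType]
          by_cases e3 : l = b
          · subst e3; simp [hj, e1, e2, SameType]; exact Or.inr (Or.inl ⟨u, hu, rfl⟩)
          by_cases e4 : l = j
          · subst e4; simp [hb, e1, e2, e3, SameType]
          by_cases h : l ∈ J
          · simp [h, e1, e2, e3, e4, SameType]
            exact Or.inr (Or.inl ⟨⟨u, hu, rfl⟩, ⟨v, hv0, rfl⟩⟩)
          · simp [h, e1, e2, e3, e4, SameType]
        have hAi : A i = S.R u ∧ B i = 1 := ⟨if_pos hi, by simp [B, O, hai.symm, hbi.symm]⟩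
        have hAa : A a = 1 ∧ B a = S.R u := ⟨if_neg ha, by simp [B]⟩
        have hOn : 0 < O.card := by
          rw [Finset.card_erase_of_mem (Finset.mem_erase.2 ⟨hij.symm, hj⟩),
            Finset.card_erase_of_mem hi]
          omega
        obtain ⟨l₀, hl₀⟩ := Finset.card_pos.1 hOn
        obtain ⟨e, he, hme⟩ := grow_step H hc hc hA hB (i := i) (b := a) (z := u)
          (T := fun l => if l ∈ J ∨ l = a ∨ l = b then S.R u else 1)
          (by rw [hAi.1, S.R_sq]) (by rw [hAi.1, hAi.2, mul_one, S.R_sq])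
          (by rw [hAa.2, S.R_sq]) (by rw [hAa.1, hAa.2, mul_one, S.R_sq])
          ⟨1, by rw [hAi.1, hAi.2]⟩ ⟨1, by rw [hAi.1, hAi.2]⟩
          (by rw [hAi.1, hAi.2, one_mul, S.R_sq]) (by rw [hAi.1, hAi.2, mul_one, S.R_sq])
          O hl₀ (Finset.ne_of_mem_erase (Finset.mem_of_mem_erase hl₀)) (fun _ => u + v) (fun _ => -1)
          (fun l hl => by
            have hlJ : l ∈ J := Finset.mem_of_mem_erase (Finset.mem_of_mem_erase hl)
            simp only [A, B, if_pos hlJ, if_pos hl,
              if_neg (show ¬ (l = a ∨ l = b) from fun h => by rcases h with rfl | rfl; exacts [ha hlJ, hb hlJ])]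
            exact quv)
          (fun l hl => by
            have hlJ : l ∈ J := Finset.mem_of_mem_erase (Finset.mem_of_mem_erase hl)
            simp only [A, B, if_pos hlJ, if_pos hl,
              if_neg (show ¬ (l = a ∨ l = b) from fun h => by rcases h with rfl | rfl; exacts [ha hlJ, hb hlJ])]
            exact quv')
          (by
            rw [Finset.prod_const, Finset.card_erase_of_mem (Finset.mem_erase.2 ⟨hij.symm, hj⟩),
              Finset.card_erase_of_mem hi, Odd.neg_one_pow ⟨m - 1, by omega⟩]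
            exact fun h => S.two (by linear_combination -h))
          (fun l hl => by
            simp only [A, B, if_neg hl]
            by_cases h : l = a ∨ l = b
            · have hlJ : l ∉ J := by rcases h with rfl | rfl; exacts [ha, hb]
              simp [h, hlJ]
            · by_cases hlJ : l ∈ J <;> simp [h, hlJ])
        refine next' (insert a (insert b J)) ?_ ⟨_, e, he, hme, fun l hl => ?_, fun l hl => absurd hl
          (Finset.notMem_empty l), fun l hl _ => ?_⟩
        · rw [Finset.card_insert_of_notMem (by simp [hab, ha]), Finset.card_insert_of_notMem hb]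
          omega
        · by_cases hlO : l ∈ O
          · simp only [if_pos hlO]
            exact ⟨u + v, fun h => by
              have := S.om_add_left u v u
              rw [h, S.om_self, hv, Alt.om, dotProduct_zero] at this
              simp at this, rfl⟩
          · simp only [if_neg hlO]
            rw [Finset.mem_insert, Finset.mem_insert] at hl
            rw [if_pos (by tauto)]
            exact ⟨u, hu, rfl⟩
        · have hlJ : l ∉ J := fun h => hl (Finset.mem_insert_of_mem (Finset.mem_insert_of_mem h))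
          have hla : l ≠ a := fun h => hl (by rw [h]; exact Finset.mem_insert_self _ _)
          have hlb : l ≠ b := fun h => hl (by rw [h]; simp)
          simp [O, hlJ, hla, hlb]
      -- a shear is present
      obtain ⟨j, hj⟩ := hKne
      obtain ⟨x₁, y₁, hx₁, hxy, hind, -⟩ := hK j hj
      obtain ⟨G, hG, hGu⟩ := S.move_vec hx₁ hu
      set y := G *ᵥ y₁
      have huy : S.om u y = 0 := by rw [← hGu, S.om_iso hG, hxy]
      have hyu : S.om y u = 0 := by rw [S.om_swap, huy, neg_zero]
      have hiy : ∀ d : F, d • u ≠ y := fun d hd => hind d (by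
        rw [← hGu, ← Matrix.mulVec_smul] at hd
        have := congrArg (fun z => S.adj G *ᵥ z) hd
        simpa [y, Matrix.mulVec_mulVec, hG] using this)
      obtain ⟨v₁, hv₁u, hv₁y⟩ : ∃ v₁, S.om v₁ u = 1 ∧ S.om v₁ y = 0 := by
        obtain ⟨φ, hφ1, hφ2⟩ := exists_sep (v := S.J *ᵥ y) (w := S.J *ᵥ u) fun d hd => by
          have := congrArg (fun z => S.Ji *ᵥ z) hd
          simp only [Matrix.mulVec_smul, Matrix.mulVec_mulVec, S.Ji_mul, Matrix.one_mulVec] at this
          rcases eq_or_ne d 0 with rfl | hd0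
          · exact hu (by rw [← this, zero_smul])
          · exact hiy d⁻¹ (by rw [← this, inv_smul_smul₀ hd0])
        exact ⟨φ, by rw [Alt.om, dotProduct_comm]; exact hφ2, by rw [Alt.om, dotProduct_comm]; exact hφ1⟩
      obtain ⟨y', hy'y, hy'u, hy'v⟩ : ∃ y', S.om y' y = 1 ∧ S.om y' u = 0 ∧ S.om v₁ y' = 0 := by
        obtain ⟨φ, hφ1, hφ2⟩ := exists_sep (v := S.J *ᵥ u) (w := S.J *ᵥ y) fun d hd => hiy d (by
          have := congrArg (fun z => S.Ji *ᵥ z) hd
          simpa [Matrix.mulVec_smul, Matrix.mulVec_mulVec, S.Ji_mul] using this)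
        have e1 : S.om φ u = 0 := by rw [Alt.om, dotProduct_comm]; exact hφ1
        have e2 : S.om φ y = 1 := by rw [Alt.om, dotProduct_comm]; exact hφ2
        refine ⟨φ + (-S.om v₁ φ) • u, by rw [S.om_add_left, S.om_smul_left, e2, huy, mul_zero, add_zero],
          by rw [S.om_add_left, S.om_smul_left, e1, S.om_self, mul_zero, add_zero],
          by rw [S.om_add_right, S.om_smul_right, hv₁u, mul_one, add_neg_cancel]⟩
      have huv₁ : S.om u v₁ = -1 := by rw [S.om_swap, hv₁u]
      have hyv₁ : S.om y v₁ = 0 := by rw [S.om_swap, hv₁y, neg_zero]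
      have huy' : S.om u y' = 0 := by rw [S.om_swap, hy'u, neg_zero]
      have hyy' : S.om y y' = -1 := by rw [S.om_swap, hy'y]
      have hy'v' : S.om y' v₁ = 0 := by rw [S.om_swap, hy'v, neg_zero]
      have hv₁0 : v₁ ≠ 0 := fun h => by rw [h, Alt.om, dotProduct_zero] at hv₁u; exact zero_ne_one hv₁u
      have hA1 : S.IsA (S.A u y) := ⟨u, y, hu, huy, hiy, rfl⟩
      have hA2 : S.IsA (S.A v₁ y') := ⟨v₁, y', hv₁0, hy'v, fun d hd => by
        have h2 := congrArg (fun z => S.om z u) hd
        simp only [S.om_smul_left, hv₁u, hy'u, mul_one] at h2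
        rw [h2, zero_smul] at hd
        rw [← hd, Alt.om, dotProduct_zero] at hy'y
        exact zero_ne_one hy'y, rfl⟩
      have q1 : S.qv (S.R u * S.R v₁) (u + v₁) ≠ 0 := by
        rw [Alt.R, Alt.R, S.ro_mul, hv₁u, one_smul, S.qv_ro, S.om_add_left, S.om_self, huv₁,
          S.om_add_right, S.om_self, huv₁]
        simp
      have q1' : S.qv (S.R v₁ * S.R u) (u + v₁) = (-1) * S.qv (S.R u * S.R v₁) (u + v₁) := by
        rw [show S.R v₁ * S.R u = S.adj (S.R u * S.R v₁) by rw [S.adj_mul, S.adj_R, S.adj_R, neg_mul_neg],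
          S.qv_adj, neg_one_mul]
      have hAA : S.A u y * S.A v₁ y' = -S.ro u v₁ - S.ro y y' := by
        simp only [Alt.A, sub_mul, mul_sub, S.ro_mul, hv₁y, hy'y, hv₁u, hy'u, zero_smul, one_smul]
        abel
      have q2 : S.qv (S.A u y * S.A v₁ y') (u + v₁) ≠ 0 := by
        rw [hAA, Alt.qv, Matrix.sub_mulVec, Matrix.neg_mulVec, S.ro_mulVec, S.ro_mulVec, S.om_sub_left,
          ← neg_one_smul F, S.om_smul_left, S.om_smul_left, S.om_smul_left]
        simp [S.om_add_left, S.om_add_right, S.om_self, huv₁, huy', hy'v, hyu, hyv₁]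
      have q2' : S.qv (S.A v₁ y' * S.A u y) (u + v₁) = (-1) * S.qv (S.A u y * S.A v₁ y') (u + v₁) := by
        rw [show S.A v₁ y' * S.A u y = S.adj (S.A u y * S.A v₁ y') by rw [S.adj_mul, S.adj_A, S.adj_A],
          S.qv_adj, neg_one_mul]
      have hw1 : u + v₁ ≠ 0 := fun h => by
        have := S.om_add_left u v₁ u
        rw [h, S.om_self, hv₁u, Alt.om, dotProduct_zero] at this
        simp at this
      let A : Fin t → Matrix (Fin k) (Fin k) F := fun l =>
        if l ∈ J then S.R u else if l ∈ K then S.A u y else 1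
      have hA : MV M (1 + c • pmat A) := retarget H hm 1 fun l => by
        simp only [inv_one, Equiv.Perm.one_apply, A]
        by_cases hlJ : l ∈ J
        · rw [if_pos hlJ]; exact Or.inr (Or.inl ⟨hJ l hlJ, u, hu, rfl⟩)
        rw [if_neg hlJ]
        by_cases hlK : l ∈ K
        · rw [if_pos hlK]; exact Or.inr (Or.inr ⟨hK l hlK, hA1⟩)
        · rw [if_neg hlK]; exact Or.inl ⟨h1 l hlJ hlK, rfl⟩
      have hKJ : ∀ l ∈ K, l ∉ J := fun l hlK hlJ => Finset.disjoint_left.1 hJK hlJ hlK
      obtain ⟨i, hi⟩ := hJne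
      obtain ⟨m, hm'⟩ := hodd
      rcases Nat.even_or_odd K.card with hKe | hKo
      · -- exchanging a root with a shear
        have hij : i ≠ j := fun e => hKJ j hj (by first | (rw [e]; exact hi) | (rw [← e]; exact hi))
        let B : Fin t → Matrix (Fin k) (Fin k) F := fun l =>
          if l = i then S.A v₁ y' else if l = j then S.R v₁ else
            if l ∈ J then S.R v₁ else if l ∈ K then S.A v₁ y' else 1
        have hB : MV M (1 + c • pmat B) := retarget H hA (Equiv.swap i j) fun l => by
          rw [Equiv.swap_inv]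
          simp only [A, B]
          by_cases e1 : l = i
          · subst e1
            rw [Equiv.swap_apply_left, if_neg (hKJ j hj), if_pos hj, if_pos rfl]
            exact Or.inr (Or.inr ⟨hA1, hA2⟩)
          by_cases e2 : l = j
          · subst e2
            rw [Equiv.swap_apply_right, if_pos hi, if_neg e1, if_pos rfl]
            exact Or.inr (Or.inl ⟨⟨u, hu, rfl⟩, ⟨v₁, hv₁0, rfl⟩⟩)
          rw [Equiv.swap_apply_of_ne_of_ne e1 e2, if_neg e1, if_neg e2]
          by_cases hlJ : l ∈ J
          · rw [if_pos hlJ, if_pos hlJ]; exact Or.inr (Or.inl ⟨⟨u, hu, rfl⟩, ⟨v₁, hv₁0, rfl⟩⟩)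
          rw [if_neg hlJ, if_neg hlJ]
          by_cases hlK : l ∈ K
          · rw [if_pos hlK, if_pos hlK]; exact Or.inr (Or.inr ⟨hA1, hA2⟩)
          · rw [if_neg hlK, if_neg hlK]; exact Or.inl ⟨rfl, rfl⟩
        have hAi : A i = S.R u ∧ B i = S.A v₁ y' := ⟨if_pos hi, if_pos rfl⟩
        have hAj : A j = S.A u y ∧ B j = S.R v₁ :=
          ⟨by simp [A, hKJ j hj, hj], by simp [B, hij.symm]⟩
        have e1 : S.R u * S.A v₁ y' = S.ro u y' := by
          simp [Alt.R, Alt.A, mul_sub, S.ro_mul, hv₁u, hy'u]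
        have e2 : S.A u y * S.R v₁ = -S.ro y v₁ := by
          simp [Alt.R, Alt.A, sub_mul, S.ro_mul, hv₁y, hv₁u]
        let ws : Fin t → Fin k → F := fun l =>
          if l = i then v₁ + y else if l = j then u + y' else u + v₁
        have qi : S.qv (S.R u * S.A v₁ y') (v₁ + y) = 1 := by
          rw [e1, S.qv_ro, S.om_add_left, S.om_add_right, hy'v, hyy', huv₁, huy]; ring
        have qj : S.qv (S.A u y * S.R v₁) (u + y') = -1 := by
          rw [e2, Alt.qv, Matrix.neg_mulVec, S.ro_mulVec, ← neg_one_smul F, S.om_smul_left,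
            S.om_smul_left, S.om_add_left, S.om_add_right, huv₁, hy'v', hyu, hyy']
          ring
        have qi' : S.qv (S.A v₁ y' * S.R u) (v₁ + y) = 1 * S.qv (S.R u * S.A v₁ y') (v₁ + y) := by
          rw [show S.A v₁ y' * S.R u = -S.adj (S.R u * S.A v₁ y') by
            rw [S.adj_mul, S.adj_A, S.adj_R, mul_neg, neg_neg], one_mul, Alt.qv, Matrix.neg_mulVec,
            ← neg_one_smul F, S.om_smul_left]
          show (-1 : F) * S.qv _ _ = _
          rw [S.qv_adj]; ring
        have qj' : S.qv (S.R v₁ * S.A u y) (u + y') = 1 * S.qv (S.A u y * S.R v₁) (u + y') := by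
          rw [show S.R v₁ * S.A u y = -S.adj (S.A u y * S.R v₁) by
            rw [S.adj_mul, S.adj_A, S.adj_R, neg_mul, neg_neg], one_mul, Alt.qv, Matrix.neg_mulVec,
            ← neg_one_smul F, S.om_smul_left]
          show (-1 : F) * S.qv _ _ = _
          rw [S.qv_adj]; ring
        obtain ⟨e, he, hme⟩ := grow_step H hc hc hA hB (i := i) (b := j) (z := u) (T := 1)
          (by rw [hAi.1, S.R_sq])
          (by rw [hAi.1, hAi.2, e1, Alt.R, S.ro_mul, huy', zero_smul])
          (by rw [hAj.2, S.R_sq])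
          (by rw [hAj.1, hAj.2, mul_assoc, e2, mul_neg, Alt.R, S.ro_mul, hyv₁, zero_smul, neg_zero])
          ⟨S.A v₁ y', by rw [hAi.1, hAi.2]⟩ ⟨S.A v₁ y', by rw [hAi.1, hAi.2]⟩
          (by rw [hAi.1, hAi.2, ← mul_assoc, e1, Alt.R, S.ro_mul, huy', zero_smul])
          (by rw [hAi.1, hAi.2, e1, Alt.R, S.ro_mul, huy', zero_smul])
          (J ∪ K) (Finset.mem_union_right _ hj) hij.symm ws
          (fun l => if l = i ∨ l = j then 1 else -1)
          (fun l hl => by
            by_cases e1' : l = i
            · subst e1'; rw [hAi.1, hAi.2, show ws l = v₁ + y from if_pos rfl, qi]; exact one_ne_zero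
            by_cases e2' : l = j
            · subst e2'
              rw [hAj.1, hAj.2, show ws l = u + y' by simp [ws, e1'], qj]
              exact neg_ne_zero.2 one_ne_zero
            simp only [A, B, ws, if_neg e1', if_neg e2']
            by_cases hlJ : l ∈ J
            · rw [if_pos hlJ, if_pos hlJ]; exact q1
            · have hlK : l ∈ K := (Finset.mem_union.1 hl).resolve_left hlJ
              rw [if_neg hlJ, if_pos hlK, if_neg hlJ, if_pos hlK]; exact q2)
          (fun l hl => by
            by_cases e1' : l = i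
            · subst e1'; rw [hAi.1, hAi.2, show ws l = v₁ + y from if_pos rfl, if_pos (Or.inl rfl)]
              exact qi'
            by_cases e2' : l = j
            · subst e2'
              rw [hAj.1, hAj.2, show ws l = u + y' by simp [ws, e1'], if_pos (Or.inr rfl)]
              exact qj'
            simp only [A, B, ws, if_neg e1', if_neg e2', e1', e2', or_self, if_false]
            by_cases hlJ : l ∈ J
            · rw [if_pos hlJ, if_pos hlJ]; exact q1'
            · have hlK : l ∈ K := (Finset.mem_union.1 hl).resolve_left hlJ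
              rw [if_neg hlJ, if_pos hlK, if_neg hlJ, if_pos hlK]; exact q2')
          (by
            rw [Finset.prod_ite, Finset.prod_const_one, one_mul, Finset.prod_const]
            have h3 : ((J ∪ K).filter fun l => ¬ (l = i ∨ l = j)) = ((J ∪ K).erase i).erase j := by
              ext l; simp only [Finset.mem_filter, Finset.mem_erase]; tauto
            obtain ⟨s', hs'⟩ := hKe
            rw [h3, Finset.card_erase_of_mem (Finset.mem_erase.2 ⟨hij.symm, Finset.mem_union_right _ hj⟩),
              Finset.card_erase_of_mem (Finset.mem_union_left _ hi), Finset.card_union_of_disjoint hJK,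
              Odd.neg_one_pow ⟨m + s' - 1, by have := Finset.card_pos.2 ⟨j, hj⟩; omega⟩]
            exact fun h => S.two (by linear_combination -h))
          (fun l hl => by
            rw [Finset.mem_union, not_or] at hl
            have e1' : l ≠ i := fun h => hl.1 (h ▸ hi)
            have e2' : l ≠ j := fun h => hl.2 (h ▸ hj)
            simp [A, B, hl.1, hl.2, e1', e2'])
        refine next' (J ∪ K) ?_ ⟨_, e, he, hme, fun l hl => ?_,
          fun l hl => absurd hl (Finset.notMem_empty l), fun l hl _ => by simp [hl]⟩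
        · rw [Finset.card_union_of_disjoint hJK]
          have := Finset.card_pos.2 ⟨j, hj⟩
          omega
        · simp only [if_pos hl]
          refine ⟨ws l, ?_, rfl⟩
          have key : ∀ (x y z : Fin k → F), S.om (x + y) z ≠ 0 → x + y ≠ 0 := fun x y z h h0 => h (by
            rw [h0, Alt.om, dotProduct_zero])
          simp only [ws]
          split_ifs
          · exact key v₁ y u (by rw [S.om_add_left, hv₁u, hyu]; simp)
          · exact key u y' y (by rw [S.om_add_left, huy, hy'y]; simp)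
          · exact hw1
      · -- a free factor
        obtain ⟨s', hs'⟩ := hKo
        have hout : 0 < (J ∪ K)ᶜ.card := Finset.card_pos.2 (Finset.nonempty_iff_ne_empty.2
          fun h => hst ⟨s', hs'⟩ ((Finset.compl_eq_empty_iff _).1 h))
        obtain ⟨a, ha⟩ := Finset.card_pos.1 hout
        rw [Finset.mem_compl, Finset.mem_union, not_or] at ha
        have hai : a ≠ i := fun e => ha.1 (e ▸ hi)
        let O := (J ∪ K).erase i
        let B : Fin t → Matrix (Fin k) (Fin k) F := fun l =>
          if l = a then S.R u else if l = i then 1 else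
            if l ∈ J then S.R v₁ else if l ∈ K then S.A v₁ y' else 1
        have hB : MV M (1 + c • pmat B) := retarget H hA (Equiv.swap i a) fun l => by
          rw [Equiv.swap_inv]
          simp only [A, B]
          by_cases e1 : l = a
          · subst e1
            rw [Equiv.swap_apply_right, if_pos hi, if_pos rfl]
            exact Or.inr (Or.inl ⟨⟨u, hu, rfl⟩, ⟨u, hu, rfl⟩⟩)
          by_cases e2 : l = i
          · subst e2
            rw [Equiv.swap_apply_left, if_neg ha.1, if_neg ha.2, if_neg e1, if_pos rfl]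
            exact Or.inl ⟨rfl, rfl⟩
          rw [Equiv.swap_apply_of_ne_of_ne e2 e1, if_neg e1, if_neg e2]
          by_cases hlJ : l ∈ J
          · rw [if_pos hlJ, if_pos hlJ]; exact Or.inr (Or.inl ⟨⟨u, hu, rfl⟩, ⟨v₁, hv₁0, rfl⟩⟩)
          rw [if_neg hlJ, if_neg hlJ]
          by_cases hlK : l ∈ K
          · rw [if_pos hlK, if_pos hlK]; exact Or.inr (Or.inr ⟨hA1, hA2⟩)
          · rw [if_neg hlK, if_neg hlK]; exact Or.inl ⟨rfl, rfl⟩
        have hAi : A i = S.R u ∧ B i = 1 := ⟨if_pos hi, by simp [B, hai.symm]⟩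
        have hAa : A a = 1 ∧ B a = S.R u := ⟨by simp [A, ha.1, ha.2], if_pos rfl⟩
        obtain ⟨e, he, hme⟩ := grow_step H hc hc hA hB (i := i) (b := a) (z := u)
          (T := fun l => if l = i ∨ l = a then S.R u else 1)
          (by rw [hAi.1, S.R_sq]) (by rw [hAi.1, hAi.2, mul_one, S.R_sq])
          (by rw [hAa.2, S.R_sq]) (by rw [hAa.1, hAa.2, mul_one, S.R_sq])
          ⟨1, by rw [hAi.1, hAi.2]⟩ ⟨1, by rw [hAi.1, hAi.2]⟩
          (by rw [hAi.1, hAi.2, one_mul, S.R_sq]) (by rw [hAi.1, hAi.2, mul_one, S.R_sq])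
          O (Finset.mem_erase.2 ⟨fun e => hKJ j hj (by first | (rw [e]; exact hi) | (rw [← e]; exact hi)), Finset.mem_union_right _ hj⟩)
          (fun e => hKJ j hj (by first | (rw [e]; exact hi) | (rw [← e]; exact hi))) (fun _ => u + v₁) (fun _ => -1)
          (fun l hl => by
            obtain ⟨hli, hl'⟩ := Finset.mem_erase.1 hl
            have hla : l ≠ a := fun h => by subst h; simp [ha.1, ha.2] at hl'
            simp only [A, B, if_neg hla, if_neg hli]
            by_cases hlJ : l ∈ J
            · rw [if_pos hlJ, if_pos hlJ]; exact q1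
            · have hlK : l ∈ K := (Finset.mem_union.1 hl').resolve_left hlJ
              rw [if_neg hlJ, if_pos hlK, if_neg hlJ, if_pos hlK]; exact q2)
          (fun l hl => by
            obtain ⟨hli, hl'⟩ := Finset.mem_erase.1 hl
            have hla : l ≠ a := fun h => by subst h; simp [ha.1, ha.2] at hl'
            simp only [A, B, if_neg hla, if_neg hli]
            by_cases hlJ : l ∈ J
            · rw [if_pos hlJ, if_pos hlJ]; exact q1'
            · have hlK : l ∈ K := (Finset.mem_union.1 hl').resolve_left hlJ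
              rw [if_neg hlJ, if_pos hlK, if_neg hlJ, if_pos hlK]; exact q2')
          (by
            rw [Finset.prod_const, Finset.card_erase_of_mem (Finset.mem_union_left _ hi),
              Finset.card_union_of_disjoint hJK, Odd.neg_one_pow ⟨m + s', by omega⟩]
            exact fun h => S.two (by linear_combination -h))
          (fun l hl => by
            by_cases e1 : l = a
            · subst e1; simp [hAa.1, hAa.2]
            by_cases e2 : l = i
            · subst e2; simp [hAi.1, hAi.2]
            rw [Finset.mem_erase, not_and] at hl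
            have := hl e2
            rw [Finset.mem_union, not_or] at this
            simp [A, B, e1, e2, this.1, this.2])
        refine next' (insert a (J ∪ K)) ?_ ⟨_, e, he, hme, fun l hl => ?_,
          fun l hl => absurd hl (Finset.notMem_empty l), fun l hl _ => ?_⟩
        · rw [Finset.card_insert_of_notMem (by simp [ha.1, ha.2]), Finset.card_union_of_disjoint hJK]
          omega
        · by_cases hlO : l ∈ O
          · simp only [if_pos hlO]; exact ⟨u + v₁, hw1, rfl⟩
          · simp only [if_neg hlO]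
            rcases Finset.mem_insert.1 hl with rfl | hl'
            · rw [if_pos (Or.inr rfl)]; exact ⟨u, hu, rfl⟩
            · rw [if_pos (Or.inl (by
                by_contra hne
                exact hlO (Finset.mem_erase.2 ⟨hne, hl'⟩)))]
              exact ⟨u, hu, rfl⟩
        · rw [Finset.mem_insert, not_or] at hl
          have e2 : l ≠ i := fun h => hl.2 (h ▸ Finset.mem_union_left _ hi)
          have hlO : l ∉ O := fun h => hl.2 (Finset.mem_of_mem_erase h)
          simp [hlO, hl.1, e2]
  -- the initial pattern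
  set J₀ := Finset.univ.filter fun l => S.IsE (A₀ l)
  set K₀ := Finset.univ.filter fun l => ¬ S.IsE (A₀ l) ∧ A₀ l ≠ 1
  exact main (t - J₀.card) J₀ K₀ rfl
    (Finset.disjoint_left.2 fun l hl hl' => (Finset.mem_filter.1 hl').2.1 (Finset.mem_filter.1 hl).2)
    ⟨i₀, by simp [J₀]; assumption⟩ (by
      have h2 : 1 < (J₀ ∪ K₀).card := Finset.one_lt_card.2 ⟨i₀, Finset.mem_union_left _ (by
          simp [J₀]; assumption), j₀, by
          by_cases h : S.IsE (A₀ j₀)
          · exact Finset.mem_union_left _ (by simp [J₀, h])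
          · exact Finset.mem_union_right _ (by simp [K₀, h, hj₀]), hij₀⟩
      have := Finset.card_union_le J₀ K₀
      omega)
    ⟨A₀, c₀, hc₀, hm₀, fun l hl => (Finset.mem_filter.1 hl).2, fun l hl => by
      obtain ⟨-, h1, h2⟩ := Finset.mem_filter.1 hl
      exact ((hty l).resolve_left h2).resolve_left h1, fun l hl1 hl2 => by
      by_contra hne
      exact hl2 (Finset.mem_filter.2 ⟨Finset.mem_univ _,
        fun h => hl1 (Finset.mem_filter.2 ⟨Finset.mem_univ _, h⟩), hne⟩)⟩
/-- A non-scalar root set gives all transvections with pure centres. -/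
theorem transvections_of_not_noUp (ht : Odd t) (hk : 0 < k) (hno : ¬ NoUp S M)
    (w : Fin t → Fin k → F) (hw : ∀ l, w l ≠ 0) (c : F) :
    MV M (1 + c • pmat fun l => S.R (w l)) := by
  classical
  obtain ⟨J, K, hJK, hJo, ⟨A, e, he, hme, hE, -, -⟩, hst⟩ := grow_max H hk hno
  have hJu : J = Finset.univ := by
    rcases hst with h | h | ⟨hKo, h⟩
    · exact h
    · exfalso
      obtain ⟨a, ha⟩ := hJo
      obtain ⟨b, hb⟩ := ht
      omega
    · exfalso
      have := congrArg Finset.card h
      rw [Finset.card_union_of_disjoint hJK, Finset.card_univ, Fintype.card_fin] at this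
      obtain ⟨a, ha⟩ := hJo
      obtain ⟨b, hb⟩ := ht
      obtain ⟨d, hd⟩ := hKo
      omega
  subst hJu
  have i₀ : Fin t := ⟨0, ht.pos⟩
  -- all pure centres and all scalars
  have hsq : ∀ (w : Fin t → Fin k → F) (s : F), (∀ l, w l ≠ 0) → s ≠ 0 →
      MV M (1 + (e * (s * s)) • pmat fun l => S.R (w l)) := by
    intro w s hw hs
    set w' := Function.update w i₀ (s • w i₀) with hw'def
    have hw' : ∀ l, w' l ≠ 0 := fun l => by
      rcases eq_or_ne l i₀ with rfl | h
      · simpa [w', hs] using hw l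
      · simpa [w', Function.update_of_ne h] using hw l
    have := retarget H hme 1 (B := fun l => S.R (w' l)) fun l => by
      simp only [inv_one, Equiv.Perm.one_apply]
      exact Or.inr (Or.inl ⟨hE l (Finset.mem_univ l), w' l, hw' l, rfl⟩)
    rwa [show (fun l => S.R (w' l)) =
      Function.update (fun l => S.R (w l)) i₀ ((s * s) • S.R (w i₀)) from funext fun l => by
        rcases eq_or_ne l i₀ with rfl | h
        · simp [w', S.R_smul]
        · simp [w', Function.update_of_ne h], pmat_update_smul, Function.update_eq_self,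
      smul_smul] at this
  set P' := pmat fun l => S.R (w l)
  have hP2 : P' * P' = 0 := pmat_mul_eq_zero i₀ (S.R_sq _)
  have hadd : ∀ a b : F, MV M (1 + a • P') → MV M (1 + b • P') → MV M (1 + (a + b) • P') :=
    fun a b ha hb => by
      have := ha.mul hb
      rwa [add_mul, one_mul, mul_add, mul_one, smul_mul_smul_comm, hP2, smul_zero, add_zero, add_assoc,
        ← add_smul, add_comm b a] at this
  have hzero : MV M (1 + (0 : F) • P') := by rw [zero_smul, add_zero]; exact MV.one
  have hneg : ∀ a : F, MV M (1 + a • P') → MV M (1 + (-a) • P') := fun a ha => ha.inv (by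
    rw [add_mul, one_mul, mul_add, mul_one, smul_mul_smul_comm, hP2, smul_zero, add_zero, add_assoc,
      ← add_smul, neg_add_cancel, zero_smul, add_zero])
  have hsq' : ∀ s : F, MV M (1 + (e * (s * s)) • P') := fun s => by
    rcases eq_or_ne s 0 with rfl | hs
    · rwa [mul_zero, mul_zero]
    · exact hsq w s hw hs
  have := hadd _ _ (hsq' ((c / e + 1) / 2)) (hneg _ (hsq' ((c / e - 1) / 2)))
  rwa [show e * ((c / e + 1) / 2 * ((c / e + 1) / 2)) + -(e * ((c / e - 1) / 2 * ((c / e - 1) / 2))) = c by
    field_simp [S.two]; ring] at this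

end CfsgLib.ClassicalMax.TWreath
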