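/-
Stabilisers of symplectic tensor powers are maximal in the symplectic group.
-/
import Cfsg.Agent.Lib.ClassicalMax.TWreath.SpAvg
import Cfsg.Agent.Lib.ClassicalMax.TWreath.SpGrow
import Cfsg.Agent.Lib.ClassicalMax.SympTools
set_option autoImplicit false
set_option linter.unusedSectionVars false

namespace CfsgLib.ClassicalMax.TWreath

open Matrix Cfsg.Geo

section closure

variable {ι : Type} [Fintype ι] [DecidableEq ι] {F : Type*} [Field F] [DecidableEq F]
  {f : (ι → F) → (ι → F) → F}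

/-- A connected spanning set of vectors with all transvections gives all transvections. -/
lemma tvSet_all_of_connected (hf : IsSymplecticForm f) (h2 : (2 : F) ≠ 0)
    {M : Subgroup (GL ι F)} {P : Set (ι → F)} (hP : P ⊆ tvSet f M)
    (hsp : Submodule.span F P = ⊤)
    (hpp : ∀ p ∈ P, ∀ q ∈ P, ∃ r ∈ P, f p r ≠ 0 ∧ f q r ≠ 0) (v : ι → F) :
    v ∈ tvSet f M := by
  set C := tvSet f M with hC
  have hB := hf.bilinear
  have hsym : ∀ {x y : ι → F}, f x y ≠ 0 → f y x ≠ 0 := fun h => isoOf_comm_zero hf h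
  have hsym0 : ∀ {x y : ι → F}, f x y = 0 → f y x = 0 :=
    fun h => (form_symplectic_eq_zero_comm hf).1 h
  have hadd : ∀ {x y : ι → F}, x ∈ C → y ∈ C → f x y ≠ 0 → x + y ∈ C := fun hx hy h => by
    simpa using tvSet_add_smul hf hx hy h 1
  have hnb : ∀ x : ι → F, x ≠ 0 → ∃ p ∈ P, f x p ≠ 0 := by
    intro x hx
    by_contra hcon
    push Not at hcon
    obtain ⟨y, hy⟩ := (hf.nondegenerate x hx).2
    have hle : Submodule.span F P ≤ LinearMap.ker (bilinOf hB x) :=
      Submodule.span_le.2 fun p hp => hcon p hp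
    rw [hsp] at hle
    exact hy (hle (Submodule.mem_top (x := y)))
  have three : ∀ a b c d : ι → F, b ∈ C → c ∈ C → f a b ≠ 0 → f b c ≠ 0 → f c d ≠ 0 →
      ∃ w ∈ C, f a w ≠ 0 ∧ f d w ≠ 0 := by
    intro a b c d hb hc hab hbc hcd
    by_cases hac : f a c = 0
    · by_cases hdb : f d b = 0
      · refine ⟨b + c, hadd hb hc hbc, ?_, ?_⟩
        · rwa [hB.add_right, hac, add_zero]
        · rw [hB.add_right, hdb, zero_add]; exact hsym hcd
      · exact ⟨b, hb, hab, hdb⟩
    · exact ⟨c, hc, hac, hsym hcd⟩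
  have common : ∀ x y : ι → F, x ≠ 0 → y ≠ 0 → ∃ w ∈ C, f x w ≠ 0 ∧ f y w ≠ 0 := by
    intro x y hx hy
    obtain ⟨p, hp, hxp⟩ := hnb x hx
    obtain ⟨q, hq, hyq⟩ := hnb y hy
    obtain ⟨r, hr, hpr, hqr⟩ := hpp p hp q hq
    obtain ⟨w, hw, hxw, hqw⟩ := three x p r q (hP hp) (hP hr) hxp hpr (hsym hqr)
    exact three x w q y hw (hP hq) hxw (hsym hqw) (hsym hyq)
  have half : ∀ x y w z : ι → F, x ∈ C → y ∈ C → w ∈ C → z ∈ C → f x y = 0 → f y w ≠ 0 →
      f x w + f y w = 0 → f x z ≠ 0 → f (x + y) z ≠ 0 → f z w ≠ 0 → x + y ∈ C := by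
    intro x y w z hx hy hw hz hxy hyw hs hxz hxyz hzw
    have hxw : f x w ≠ 0 := fun h => hyw (by rwa [h, zero_add] at hs)
    obtain ⟨a, ha, hne⟩ : ∃ a : F, a ≠ 0 ∧ f x w + a * f z (y + w) ≠ 0 := by
      by_cases h : f x w + 1 * f z (y + w) = 0
      · refine ⟨-1, neg_ne_zero.2 one_ne_zero, fun h' => ?_⟩
        have : (2 : F) * f x w = 0 := by linear_combination h + h'
        exact hxw ((mul_eq_zero.1 this).resolve_left h2)
      · exact ⟨1, one_ne_zero, h⟩
    have h1 : x + a • z ∈ C := tvSet_add_smul hf hx hz hxz a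
    have h3 : y + w ∈ C := hadd hy hw hyw
    have hu : x + a • z + (y + w) ∈ C := hadd h1 h3 (by
      rw [hB.add_left, hB.smul_left, hB.add_right x, hxy, zero_add]; exact hne)
    have hv : a • z + w ∈ C := by
      rw [add_comm]; exact tvSet_add_smul hf hw hz (hsym hzw) a
    have e : x + y = x + a • z + (y + w) + (-1 : F) • (a • z + w) := by
      rw [neg_one_smul]; abel
    rw [e]
    refine tvSet_add_smul hf hu hv ?_ (-1)
    rw [show x + a • z + (y + w) = (x + y) + (a • z + w) by abel, hB.add_left, hf.alternating,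
      add_zero, hB.add_right, hB.smul_right, hB.add_left x y w, hs, add_zero]
    exact mul_ne_zero ha hxyz
  have hsum : ∀ x y : ι → F, x ∈ C → y ∈ C → x + y ∈ C := by
    intro x y hx hy
    by_cases hx0 : x = 0
    · rwa [hx0, zero_add]
    by_cases hy0 : y = 0
    · rwa [hy0, add_zero]
    by_cases hxy : f x y = 0
    swap
    · exact hadd hx hy hxy
    obtain ⟨w, hw, hxw, hyw⟩ := common x y hx0 hy0
    by_cases hs : f x w + f y w = 0
    swap
    · have h1 : x + w ∈ C := hadd hx hw hxw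
      have h3 : y + (-1 : F) • w ∈ C := tvSet_add_smul hf hy hw hyw (-1)
      rw [show x + y = x + w + (y + (-1 : F) • w) by rw [neg_one_smul]; abel]
      refine hadd h1 h3 fun h => hs ?_
      rw [hB.add_left, hB.add_right, hB.add_right, hxy, hB.smul_right, hB.smul_right,
        hf.alternating, hf.skew w y] at h
      linear_combination -h
    by_cases he : x + y = 0
    · have := tvSet_smul hf (0 : F) hx
      rw [zero_smul] at this
      rwa [he]
    obtain ⟨z, hz, hxyz⟩ := hnb _ he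
    rcases em (f x z = 0) with hxz | hxz
    · have hyz : f y z ≠ 0 := by rwa [hB.add_left, hxz, zero_add] at hxyz
      by_cases hzw : f z w = 0
      · rw [add_comm x y]
        refine half y x w (z + y) hy hx hw (hadd (hP hz) hy (hsym hyz)) (hsym0 hxy) hxw
          (by rw [add_comm]; exact hs) ?_ ?_ ?_
        · rwa [hB.add_right, hf.alternating, add_zero]
        · rw [add_comm y x, hB.add_right, hB.add_left x y y, hxy, hf.alternating, add_zero, add_zero]
          exact hxyz
        · rwa [hB.add_left, hzw, zero_add]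
      · rw [add_comm x y]
        exact half y x w z hy hx hw (hP hz) (hsym0 hxy) hxw (by rw [add_comm]; exact hs) hyz
          (by rwa [add_comm y x]) hzw
    · by_cases hzw : f z w = 0
      · refine half x y w (z + x) hx hy hw (hadd (hP hz) hx (hsym hxz)) hxy hyw hs ?_ ?_ ?_
        · rwa [hB.add_right, hf.alternating, add_zero]
        · rw [hB.add_right, hB.add_left x y x, hf.alternating, hsym0 hxy, add_zero, add_zero]
          exact hxyz
        · rwa [hB.add_left, hzw, zero_add]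
      · exact half x y w z hx hy hw (hP hz) hxy hyw hs hxz hxyz hzw
  have hall : v ∈ Submodule.span F P := hsp ▸ Submodule.mem_top
  induction hall using Submodule.span_induction with
  | mem p hp => exact hP hp
  | zero =>
    intro c
    rw [show sTv f (0 : ι → F) c = 1 from gl_ext_mulVec fun x => by
      rw [sTv_mulVec hf, smul_zero, add_zero, Units.val_one, Matrix.one_mulVec]]
    exact M.one_mem
  | add a b _ _ ha hb => exact hsum a b ha hb
  | smul c a _ ha => exact tvSet_smul hf c ha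

end closure

variable {F : Type*} [Field F] {t k : ℕ} (S : Alt F k)

/-- The form of the tensor power. -/
def tForm (t : ℕ) (x y : (Fin t → Fin k) → F) : F := x ⬝ᵥ (pmat (fun _ : Fin t => S.J) *ᵥ y)

lemma tForm_symplectic (ht : Odd t) : IsSymplecticForm (tForm S t) := by
  have hT : (pmat fun _ : Fin t => S.J)ᵀ = -pmat fun _ : Fin t => S.J := by
    ext a b
    have e : ∀ l, S.J (b l) (a l) = (-1 : F) * S.J (a l) (b l) := fun l => by
      have := congrFun (congrFun S.skew (a l)) (b l)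
      simpa using this
    simp only [Matrix.transpose_apply, Matrix.neg_apply, pmat_apply]
    rw [Finset.prod_congr rfl fun l _ => e l, Finset.prod_mul_distrib, Finset.prod_const,
      Finset.card_univ, Fintype.card_fin, ht.neg_one_pow, neg_one_mul]
  have hskew : ∀ v w, tForm S t v w = -tForm S t w v := fun v w => by
    rw [tForm, tForm, Matrix.dotProduct_mulVec, dotProduct_comm, ← Matrix.mulVec_transpose, hT,
      Matrix.neg_mulVec, dotProduct_neg]
  have hnd : ∀ v : (Fin t → Fin k) → F, v ≠ 0 → ∃ y, tForm S t y v ≠ 0 := by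
    intro v hv
    by_contra hcon
    push Not at hcon
    refine hv ?_
    have h0 : pmat (fun _ : Fin t => S.J) *ᵥ v = 0 := funext fun a => by
      simpa [tForm] using hcon (Pi.single a 1)
    have := congrArg (fun x => pmat (fun _ : Fin t => S.Ji) *ᵥ x) h0
    simpa [Matrix.mulVec_mulVec, S.pmat_Ji_mul_J] using this
  refine ⟨⟨fun x y v => add_dotProduct _ _ _, fun c x v => ?_, fun v x y => ?_, fun c v x => ?_⟩,
    hskew, fun v => ?_, fun v hv => ?_⟩
  · simp [tForm, smul_dotProduct]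
  · simp [tForm, Matrix.mulVec_add, dotProduct_add]
  · simp [tForm, Matrix.mulVec_smul, dotProduct_smul]
  · have h := hskew v v
    exact (mul_eq_zero.1 (show (2 : F) * tForm S t v v = 0 by linear_combination h)).resolve_left S.two
  · obtain ⟨y, hy⟩ := hnd v hv
    exact ⟨⟨y, hy⟩, ⟨y, by rw [hskew]; exact neg_ne_zero.2 hy⟩⟩

lemma mem_Iso_iff {g : GL (Fin t → Fin k) F} : g ∈ S.Iso t ↔ g ∈ isoOf (tForm S t) := by
  have e : ∀ x y, tForm S t (g.val *ᵥ x) (g.val *ᵥ y) =
      x ⬝ᵥ ((g.valᵀ * pmat (fun _ : Fin t => S.J) * g.val) *ᵥ y) := fun x y => by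
    rw [tForm, Matrix.mulVec_mulVec, mul_assoc, ← Matrix.mulVec_mulVec _ g.valᵀ,
      Matrix.dotProduct_mulVec x, Matrix.vecMul_transpose]
  constructor
  · intro h x y
    show tForm S t (g.val *ᵥ x) (g.val *ᵥ y) = tForm S t x y
    have h' : pmat (fun _ : Fin t => S.Ji) * g.valᵀ * pmat (fun _ => S.J) * g.val = 1 := h
    have h1 := congrArg (pmat (fun _ : Fin t => S.J) * ·) h'
    simp only [← mul_assoc, S.pmat_J_mul_Ji, one_mul, mul_one] at h1
    rw [e, h1, tForm]
  · intro h
    show pmat (fun _ : Fin t => S.Ji) * g.valᵀ * pmat (fun _ => S.J) * g.val = 1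
    have h1 : g.valᵀ * pmat (fun _ : Fin t => S.J) * g.val = pmat (fun _ : Fin t => S.J) :=
      Matrix.ext fun a b => by
        have h2 : tForm S t (g.val *ᵥ Pi.single a 1) (g.val *ᵥ Pi.single b 1) =
            tForm S t (Pi.single a 1) (Pi.single b 1) := h _ _
        rw [e] at h2
        simpa [tForm] using h2
    rw [mul_assoc _ (g.valᵀ), mul_assoc, h1, S.pmat_Ji_mul_J]

lemma pmat_R (w : Fin t → Fin k → F) :
    pmat (fun l => S.R (w l)) =
      Matrix.vecMulVec (pvec w) (pmat (fun _ : Fin t => S.J) *ᵥ pvec w) := by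
  rw [pmat_mulVec_pvec, ← pmat_vecMulVec]
  rfl

lemma tForm_pvec (x y : Fin t → Fin k → F) :
    tForm S t (pvec x) (pvec y) = ∏ l, S.om (x l) (y l) := by
  rw [tForm, pmat_mulVec_pvec, pvec_dot]
  exact Finset.prod_congr rfl fun l _ => dotProduct_comm _ _

/-- The stabiliser of the decomposition contains the products and the permutations. -/
lemma full_of_std {S : Alt F k} {M : Subgroup (GL (Fin t → Fin k) F)} (le : M ≤ S.Iso t)
    (std : ∀ g ∈ tensorWreathStandard k t F, g ∈ S.Iso t → g ∈ M) : Full S M := by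
  refine ⟨⟨le, fun i X hX => ?_⟩, fun G hG => ?_,
    fun σ => ⟨permGL σ, std _ (permGL_mem_std σ) (S.permGL_mem_Iso σ), rfl⟩⟩
  · have hI : slot i X * slot i (S.adj X) = 1 := by rw [← map_mul, mul_eq_one_comm.1 hX, map_one]
    have hI' : slot i (S.adj X) * slot i X = 1 := by rw [← map_mul, hX, map_one]
    refine ⟨⟨slot i X, slot i (S.adj X), hI, hI'⟩, std _ (exists_units (σ := 1)
      (A := Function.update 1 i X) (by rw [permMat_one, mul_one]; rfl)) ?_, rfl⟩
    rw [S.mem_Iso]
    show S.adjB (slot i X) * slot i X = 1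
    rw [S.adjB_slot, ← map_mul, hX, map_one]
  · let u : Fin t → GL (Fin k) F := fun l => ⟨G l, S.adj (G l), mul_eq_one_comm.1 (hG l), hG l⟩
    refine ⟨pmatGL u, std _ (pmatGL_mem_std u) ?_, rfl⟩
    rw [S.mem_Iso, coe_pmatGL, S.adjB_pmat, pmat_mul]
    simp only [u, hG]
    exact pmat_one

/-- Stabilisers of symplectic tensor powers are maximal. -/
theorem iso_wreath_maximal [Fintype F] (ht : Odd t) (ht2 : 2 ≤ t) (hk2 : k = 2 ∨ 4 ≤ k)
    (hbig : 5 ≤ Fintype.card F ∨ 4 ≤ k) :
    IsMaximalIn (S.Iso t) (tensorWreathStandard k t F ⊓ S.Iso t) := by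
  classical
  have hk : 2 ≤ k := by omega
  set u : Fin k → F := Pi.single (⟨0, by omega⟩ : Fin k) 1 with hudef
  have hu : u ≠ 0 := by simp [hudef]
  refine isMaximalIn_of inf_le_right ?_ ?_
  · set N := pmat fun _ : Fin t => S.R u with hN
    have hNN : N * N = 0 := by
      rw [hN, pmat_mul]
      exact Matrix.ext fun a b => by
        rw [pmat_apply, Matrix.zero_apply]
        exact Finset.prod_eq_zero (Finset.mem_univ (⟨0, by omega⟩ : Fin t)) (by rw [S.R_sq]; rfl)
    let g : GL (Fin t → Fin k) F := ⟨1 + N, 1 - N,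
      by rw [add_mul, one_mul, mul_sub, mul_one, hNN, sub_zero, sub_add_cancel],
      by rw [sub_mul, one_mul, mul_add, mul_one, hNN, add_zero, add_sub_cancel_right]⟩
    refine ⟨g, ?_, fun hg => ?_⟩
    · show S.adjB (1 + N) * (1 + N) = 1
      have e : S.adjB N = -N := by
        rw [hN, S.adjB_pmat_self _ (fun _ => (-1 : F)) fun l => by rw [S.adj_R, neg_one_smul],
          Finset.prod_const, Finset.card_univ, Fintype.card_fin, ht.neg_one_pow, neg_one_smul]
      rw [map_add, S.adjB_one, e, ← sub_eq_add_neg, sub_mul, one_mul, mul_add, mul_one, hNN,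
        add_zero, add_sub_cancel_right]
    · obtain ⟨j, X, hX⟩ := slot_of_sq_zero S.two hk (by omega) hg.1 (N := N) rfl hNN
      obtain ⟨i, hi⟩ : ∃ i : Fin t, i ≠ j := by
        have : Nontrivial (Fin t) := Fin.nontrivial_iff_two_le.2 ht2
        exact exists_ne j
      have hN0 : N ≠ 0 := pmat_ne_zero fun _ => R_ne_zero hu
      have hX0 : X ≠ 0 := fun h => hN0 (by rw [hX, h, map_zero])
      have hz : slot i (S.R u) * N = 0 := by
        rw [hN, slot_mul_pmat]
        refine Matrix.ext fun a b => ?_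
        rw [pmat_update_apply, S.R_sq, Matrix.zero_apply, zero_mul, Matrix.zero_apply]
      rw [hX, slot_eq j, slot_mul_pmat] at hz
      refine pmat_ne_zero (fun l => ?_) hz
      have : Nonempty (Fin k) := ⟨⟨0, by omega⟩⟩
      rcases eq_or_ne l i with rfl | hli
      · rw [Function.update_self, Function.update_of_ne hi, Pi.one_apply, mul_one]
        exact R_ne_zero hu
      · rw [Function.update_of_ne hli]
        rcases eq_or_ne l j with rfl | hlj
        · rwa [Function.update_self]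
        · rw [Function.update_of_ne hlj]; exact one_ne_zero
  intro M hHM hMK g hgM hgH
  have H : Full S M := full_of_std hMK fun x hx hx' => hHM ⟨hx, hx'⟩
  have hno : ¬ NoUp S M := fun hno =>
    hgH ⟨mem_std_of_noUp H.toOver hno hbig hk2 (by omega) hgM, hMK hgM⟩
  have hB := tForm_symplectic S ht
  intro y hy
  refine isoOf_le_of_tvSet hB (fun v => tvSet_all_of_connected hB S.two
    (P := {x | ∃ w : Fin t → Fin k → F, (∀ l, w l ≠ 0) ∧ x = pvec w}) ?_ ?_ ?_ v)
    ((mem_Iso_iff S).1 hy)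
  · rintro _ ⟨w, hw, rfl⟩ c
    obtain ⟨x, hx, hxv⟩ := transvections_of_not_noUp H ht (by omega) hno w hw c
    have : x = sTv (tForm S t) (pvec w) c := gl_ext_mulVec fun z => by
      rw [sTv_mulVec hB, hxv, Matrix.add_mulVec, Matrix.one_mulVec, pmat_R, Matrix.smul_mulVec,
        Matrix.vecMulVec_mulVec, op_smul_eq_smul, smul_smul, dotProduct_comm]
      rfl
    rwa [← this]
  · rw [eq_top_iff]
    intro x _
    rw [pi_eq_sum_univ' x]
    refine Submodule.sum_mem _ fun a _ => Submodule.smul_mem _ _ (Submodule.subset_span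
      ⟨fun l => Pi.single (a l) 1, fun l => by simp, ?_⟩)
    rw [pvec_single]
  · rintro _ ⟨x, hx, rfl⟩ _ ⟨z, hz, rfl⟩
    have hw : ∀ l, ∃ w, S.om (x l) w ≠ 0 ∧ S.om (z l) w ≠ 0 := fun l => by
      obtain ⟨p, hp⟩ := S.exists_om_one (hx l)
      obtain ⟨q, hq⟩ := S.exists_om_one (hz l)
      have hp' : S.om (x l) p ≠ 0 := by rw [S.om_swap, hp]; simp
      have hq' : S.om (z l) q ≠ 0 := by rw [S.om_swap, hq]; simp
      by_cases h1 : S.om (z l) p = 0
      · by_cases h3 : S.om (x l) q = 0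
        · exact ⟨p + q, by rwa [S.om_add_right, h3, add_zero], by rwa [S.om_add_right, h1, zero_add]⟩
        · exact ⟨q, h3, hq'⟩
      · exact ⟨p, hp', h1⟩
    choose w hw1 hw2 using hw
    refine ⟨pvec w, ⟨w, fun l h => hw1 l ?_, rfl⟩, ?_, ?_⟩
    · rw [h, S.om_swap, Alt.om, dotProduct_zero, neg_zero]
    · rw [tForm_pvec]; exact Finset.prod_ne_zero_iff.2 fun l _ => hw1 l
    · rw [tForm_pvec]; exact Finset.prod_ne_zero_iff.2 fun l _ => hw2 l

/-- Maximality in the coordinates of a decomposition. -/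
theorem symp_tensor_wreath_maximal [Fintype F] {ι : Type} [Fintype ι] [DecidableEq ι]
    (f : (ι → F) → (ι → F) → F) {f₁ : (Fin k → F) → (Fin k → F) → F} (hf₁ : IsSymplecticForm f₁)
    (e : ι ≃ (Fin t → Fin k)) (P : GL ι F) (hT : IsTensorPowerFormStructure id f f₁ e P)
    (h2 : (2 : F) ≠ 0) (ht : Odd t) (ht2 : 2 ≤ t) (hk2 : k = 2 ∨ 4 ≤ k)
    (hbig : 5 ≤ Fintype.card F ∨ 4 ≤ k) :
    IsMaximalIn (isoOf f) (tensorWreathSubgroup k t e P ⊓ isoOf f) := by
  have hG : ∀ w, gramMatrix f₁ *ᵥ w = formDual f₁ w := fun w => funext fun j => by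
    rw [formDual]
    conv_rhs => rw [pi_eq_sum_univ' w, ← bilinOf_apply hf₁.bilinear, map_sum]
    simp only [Matrix.mulVec, dotProduct, gramMatrix, map_smul, bilinOf_apply, smul_eq_mul]
    exact Finset.sum_congr rfl fun i _ => mul_comm _ _
  have hinj : Function.Injective (gramMatrix f₁).mulVec := by
    intro v w h
    by_contra hne
    obtain ⟨⟨x, hx⟩, -⟩ := hf₁.nondegenerate (v - w) (sub_ne_zero.2 hne)
    refine hx ?_
    rw [← formDual_dot hf₁.bilinear, ← hG, Matrix.mulVec_sub, h, sub_self, zero_dotProduct]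
  have hdet : IsUnit (gramMatrix f₁).det :=
    (Matrix.isUnit_iff_isUnit_det _).1 (Matrix.mulVec_injective_iff_isUnit.1 hinj)
  let S : Alt F k := ⟨gramMatrix f₁, (gramMatrix f₁)⁻¹, Matrix.ext fun a b => hf₁.skew _ _,
    Matrix.nonsing_inv_mul _ hdet, h2⟩
  obtain ⟨c, hc, hT⟩ := hT
  set Φ : GL (Fin t → Fin k) F ≃* GL ι F := (glReindex e.symm).trans (MulAut.conj P) with hΦ
  let L : ((Fin t → Fin k) → F) → (ι → F) := fun z => (P : Matrix ι ι F) *ᵥ (z ∘ e)
  have hL : ∀ z : ι → F, ∃ x, L x = z := fun z =>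
    ⟨(((P⁻¹ : GL ι F) : Matrix ι ι F) *ᵥ z) ∘ e.symm, by
      simp only [L, Function.comp_assoc, Equiv.symm_comp_self, Function.comp_id]
      exact gl_mulVec_inv_mulVec P z⟩
  have hΦL : ∀ g z, (Φ g : Matrix ι ι F) *ᵥ L z = L ((g : Matrix _ _ F) *ᵥ z) := fun g z => by
    simp only [L]
    change ((P * glReindex e.symm g * P⁻¹ : GL ι F) : Matrix ι ι F) *ᵥ _ = _
    rw [gl_mulVec_mul, gl_mulVec_mul, gl_inv_mulVec_mulVec]
    congr 1
    show (g.val.submatrix e.symm.symm e.symm.symm) *ᵥ (z ∘ e) = _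
    rw [Matrix.submatrix_mulVec_equiv]
    simp [Function.comp_assoc]
  have hform : ∀ x y, f (L x) (L y) = c * tForm S t x y := fun x y => by
    rw [hT]
    congr 1
    simp only [tForm, dotProduct, Matrix.mulVec, pmat_apply, Finset.mul_sum, id, S, mul_assoc]
  have hmem : ∀ g, Φ g ∈ isoOf f ↔ g ∈ S.Iso t := fun g => by
    rw [mem_Iso_iff, mem_isoOf, mem_isoOf]
    constructor
    · intro h x y
      have h1 := h (L x) (L y)
      rw [hΦL, hΦL, hform, hform] at h1
      exact mul_left_cancel₀ hc h1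
    · intro h x y
      obtain ⟨x', rfl⟩ := hL x
      obtain ⟨y', rfl⟩ := hL y
      rw [hΦL, hΦL, hform, hform, h]
  have hstd : ∀ g, Φ g ∈ tensorWreathSubgroup k t e P ↔ g ∈ tensorWreathStandard k t F := fun g => by
    rw [hΦ, tensorWreathSubgroup, MulEquiv.trans_apply]
    exact (Subgroup.mem_map_iff_mem (MulAut.conj P).injective).trans
      (Subgroup.mem_map_iff_mem (glReindex e.symm).injective)
  obtain ⟨hlt, hmax⟩ := iso_wreath_maximal S ht ht2 hk2 hbig
  obtain ⟨y, hy, hy'⟩ := SetLike.exists_of_lt hlt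
  refine isMaximalIn_of inf_le_right
    ⟨Φ y, (hmem y).2 hy, fun h => hy' ⟨(hstd y).1 h.1, hy⟩⟩ ?_
  intro M hHM hMK g hgM hgH
  rcases hmax (M.comap Φ.toMonoidHom) (fun x hx => hHM ⟨(hstd x).2 hx.1, (hmem x).2 hx.2⟩)
    (fun x hx => (hmem x).1 (hMK hx)) with h | h
  · refine absurd ?_ hgH
    obtain ⟨x, rfl⟩ := Φ.surjective g
    have hx : x ∈ M.comap Φ.toMonoidHom := hgM
    rw [h] at hx
    exact ⟨(hstd x).2 hx.1, (hmem x).2 hx.2⟩
  · intro z hz
    obtain ⟨x, rfl⟩ := Φ.surjective z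
    have hx : x ∈ S.Iso t := (hmem x).1 hz
    rw [← h] at hx
    exact hx

end CfsgLib.ClassicalMax.TWreath
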