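/-
Short root elements of pure vectors give the whole root groups of pure singular points of an
orthogonal tensor power of symplectic spaces.
-/
import Cfsg.Agent.Lib.ClassicalMax.TWreath.SpMax
import Cfsg.Agent.Lib.ClassicalMax.OrthRoot
set_option autoImplicit false
set_option linter.unusedSectionVars false

namespace CfsgLib.ClassicalMax.TWreath

open Matrix Cfsg.Geo

variable {F : Type*} [Field F] {t k : ℕ} (S : Alt F k)

lemma tForm_add_left (x y z : (Fin t → Fin k) → F) :
    tForm S t (x + y) z = tForm S t x z + tForm S t y z := add_dotProduct _ _ _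

lemma tForm_smul_left (c : F) (x z : (Fin t → Fin k) → F) :
    tForm S t (c • x) z = c * tForm S t x z := smul_dotProduct _ _ _

lemma tForm_sub_left (x y z : (Fin t → Fin k) → F) :
    tForm S t (x - y) z = tForm S t x z - tForm S t y z := sub_dotProduct _ _ _

lemma tForm_add_right (z x y : (Fin t → Fin k) → F) :
    tForm S t z (x + y) = tForm S t z x + tForm S t z y := by
  rw [tForm, Matrix.mulVec_add, dotProduct_add]; rfl

lemma tForm_smul_right (c : F) (z x : (Fin t → Fin k) → F) :
    tForm S t z (c • x) = c * tForm S t z x := by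
  rw [tForm, Matrix.mulVec_smul, dotProduct_smul]; rfl

lemma tForm_sub_right (z x y : (Fin t → Fin k) → F) :
    tForm S t z (x - y) = tForm S t z x - tForm S t z y := by
  rw [tForm, Matrix.mulVec_sub, dotProduct_sub]; rfl

lemma tForm_symm (ht : Even t) (x y : (Fin t → Fin k) → F) : tForm S t x y = tForm S t y x := by
  have hT : (pmat fun _ : Fin t => S.J)ᵀ = pmat fun _ : Fin t => S.J := by
    ext a b
    have e : ∀ l, S.J (b l) (a l) = (-1 : F) * S.J (a l) (b l) := fun l => by
      have := congrFun (congrFun S.skew (a l)) (b l)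
      simpa using this
    simp only [Matrix.transpose_apply, pmat_apply]
    rw [Finset.prod_congr rfl fun l _ => e l, Finset.prod_mul_distrib, Finset.prod_const,
      Finset.card_univ, Fintype.card_fin, ht.neg_one_pow, one_mul]
  rw [tForm, tForm, Matrix.dotProduct_mulVec, dotProduct_comm, ← Matrix.mulVec_transpose, hT]

/-- The skew map of two vectors. -/
def rn (p q : (Fin t → Fin k) → F) : Matrix (Fin t → Fin k) (Fin t → Fin k) F :=
  Matrix.vecMulVec q (pmat (fun _ : Fin t => S.J) *ᵥ p) -
    Matrix.vecMulVec p (pmat (fun _ : Fin t => S.J) *ᵥ q)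

lemma rn_mulVec (p q z : (Fin t → Fin k) → F) :
    rn S p q *ᵥ z = tForm S t z p • q - tForm S t z q • p := by
  rw [rn, Matrix.sub_mulVec, Matrix.vecMulVec_mulVec, Matrix.vecMulVec_mulVec, op_smul_eq_smul,
    op_smul_eq_smul, dotProduct_comm, dotProduct_comm _ z]
  rfl

lemma rn_add (p q q' : (Fin t → Fin k) → F) : rn S p (q + q') = rn S p q + rn S p q' := by
  refine Matrix.toLin'.injective (LinearMap.ext fun z => ?_)
  simp only [Matrix.toLin'_apply, Matrix.add_mulVec, rn_mulVec, tForm_add_right, smul_add, add_smul]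
  abel

lemma rn_smul (c : F) (p q : (Fin t → Fin k) → F) : rn S p (c • q) = c • rn S p q := by
  refine Matrix.toLin'.injective (LinearMap.ext fun z => ?_)
  simp only [Matrix.toLin'_apply, Matrix.smul_mulVec, rn_mulVec, tForm_smul_right, smul_sub, smul_smul]
  module

/-- The product of two pure skew maps. -/
lemma rn_mul (ht : Even t) {u : (Fin t → Fin k) → F} (hu : tForm S t u u = 0)
    {w w' : (Fin t → Fin k) → F} (hw : tForm S t u w = 0) (hw' : tForm S t u w' = 0) :
    rn S u w * rn S u w' =
      (-tForm S t w w') • Matrix.vecMulVec u (pmat (fun _ : Fin t => S.J) *ᵥ u) := by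
  refine Matrix.toLin'.injective (LinearMap.ext fun z => ?_)
  simp only [Matrix.toLin'_apply, ← Matrix.mulVec_mulVec, rn_mulVec, tForm_sub_left, tForm_smul_left,
    Matrix.smul_mulVec, Matrix.vecMulVec_mulVec, op_smul_eq_smul]
  rw [dotProduct_comm (pmat _ *ᵥ u) z,
    show z ⬝ᵥ (pmat (fun _ : Fin t => S.J) *ᵥ u) = tForm S t z u from rfl, hu, hw,
    tForm_symm S ht w' u, hw', tForm_symm S ht w' w]
  module

variable {S} {M : Subgroup (GL (Fin t → Fin k) F)}

variable (S M) in
/-- The vectors orthogonal to `u` whose root elements at `u` lie in `M`. -/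
def Rad (u : (Fin t → Fin k) → F) (w : (Fin t → Fin k) → F) : Prop :=
  tForm S t u w = 0 ∧ ∀ c : F, MV M (ex F (rn S u (c • w)))

/-- The root groups of pairs of pure vectors differing in one factor lie in `M`. -/
def Roots (S : Alt F k) (M : Subgroup (GL (Fin t → Fin k) F)) (a : Fin t) : Prop :=
  ∀ (w : Fin t → Fin k → F) (x y : Fin k → F), (∀ l, l ≠ a → w l ≠ 0) →
    (k < 6 ∨ S.om x y = 0) →
    MV M (1 + rn S (pvec (Function.update w a x)) (pvec (Function.update w a y)))

lemma pvec_update_smul (w : Fin t → Fin k → F) (a : Fin t) (c : F) (x : Fin k → F) :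
    pvec (Function.update w a (c • x)) = c • pvec (Function.update w a x) := by
  funext p
  simp only [pvec, Pi.smul_apply, smul_eq_mul]
  rw [← Finset.mul_prod_erase _ _ (Finset.mem_univ a), ← Finset.mul_prod_erase _ _ (Finset.mem_univ a),
    Function.update_self, Function.update_self, Pi.smul_apply, smul_eq_mul, mul_assoc]
  congr 2
  exact Finset.prod_congr rfl fun l hl => by
    rw [Function.update_of_ne (Finset.ne_of_mem_erase hl), Function.update_of_ne (Finset.ne_of_mem_erase hl)]

lemma pvec_update_add (w : Fin t → Fin k → F) (a : Fin t) (x y : Fin k → F) :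
    pvec (Function.update w a (x + y)) =
      pvec (Function.update w a x) + pvec (Function.update w a y) := by
  funext p
  simp only [pvec, Pi.add_apply]
  rw [← Finset.mul_prod_erase _ _ (Finset.mem_univ a), ← Finset.mul_prod_erase _ _ (Finset.mem_univ a),
    ← Finset.mul_prod_erase _ _ (Finset.mem_univ a), Function.update_self, Function.update_self,
    Function.update_self, Pi.add_apply, add_mul]
  congr 1
  all_goals
    congr 1
    exact Finset.prod_congr rfl fun l hl => by
      rw [Function.update_of_ne (Finset.ne_of_mem_erase hl),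
        Function.update_of_ne (Finset.ne_of_mem_erase hl)]

lemma tForm_pvec_self (ht0 : 0 < t) (x : Fin t → Fin k → F) : tForm S t (pvec x) (pvec x) = 0 := by
  rw [tForm_pvec]
  exact Finset.prod_eq_zero (Finset.mem_univ (⟨0, ht0⟩ : Fin t)) (S.om_self _)

lemma exists_two_off {x z : Fin k → F} (hx : x ≠ 0) (hz : z ≠ 0) :
    ∃ w, S.om w x ≠ 0 ∧ S.om w z ≠ 0 := by
  obtain ⟨p, hp⟩ := S.exists_om_one hx
  obtain ⟨q, hq⟩ := S.exists_om_one hz
  by_cases h1 : S.om p z = 0
  · by_cases h3 : S.om q x = 0
    · exact ⟨p + q, by rw [S.om_add_left, h3, hp]; simp, by rw [S.om_add_left, h1, hq]; simp⟩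
    · exact ⟨q, h3, by rw [hq]; simp⟩
  · exact ⟨p, by rw [hp]; simp, h1⟩

variable (hle : M ≤ S.Iso t) (ht : Even t)
include hle ht

lemma Rad.add {u w w' : (Fin t → Fin k) → F} (hu : tForm S t u u = 0) (h : Rad S M u w)
    (h' : Rad S M u w') : Rad S M u (w + w') := by
  refine ⟨by rw [tForm_add_right, h.1, h'.1, add_zero], fun c => ?_⟩
  have h1 : tForm S t u (c • w) = 0 := by rw [tForm_smul_right, h.1, mul_zero]
  have h2 : tForm S t u (c • w') = 0 := by rw [tForm_smul_right, h'.1, mul_zero]
  have := (h.2 c).mul (h'.2 c)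
  rw [smul_add, rn_add]
  convert this using 1
  have hsym := tForm_symm S ht (c • w') (c • w)
  have hU : ∀ a b : (Fin t → Fin k) → F, tForm S t u a = 0 → tForm S t u b = 0 →
      rn S u a * Matrix.vecMulVec u (pmat (fun _ : Fin t => S.J) *ᵥ u) = 0 := by
    intro a b ha _
    refine Matrix.toLin'.injective (LinearMap.ext fun z => ?_)
    rw [Matrix.toLin'_apply, ← Matrix.mulVec_mulVec, Matrix.vecMulVec_mulVec, op_smul_eq_smul,
      Matrix.mulVec_smul, rn_mulVec, hu, ha, zero_smul, zero_smul, sub_zero, smul_zero, map_zero,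
      LinearMap.zero_apply]
  have hU' : ∀ a : (Fin t → Fin k) → F, tForm S t u a = 0 →
      Matrix.vecMulVec u (pmat (fun _ : Fin t => S.J) *ᵥ u) * rn S u a = 0 := by
    intro a ha
    refine Matrix.toLin'.injective (LinearMap.ext fun z => ?_)
    rw [Matrix.toLin'_apply, ← Matrix.mulVec_mulVec, rn_mulVec, Matrix.mulVec_sub, Matrix.mulVec_smul,
      Matrix.mulVec_smul, Matrix.vecMulVec_mulVec, Matrix.vecMulVec_mulVec, op_smul_eq_smul,
      op_smul_eq_smul, dotProduct_comm, dotProduct_comm _ u]
    change tForm S t z u • tForm S t a u • u - tForm S t z a • tForm S t u u • u = _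
    rw [hu, tForm_symm S ht a u, ha, zero_smul, smul_zero, smul_zero, sub_zero, map_zero,
      LinearMap.zero_apply]
  have hUU : Matrix.vecMulVec u (pmat (fun _ : Fin t => S.J) *ᵥ u) *
      Matrix.vecMulVec u (pmat (fun _ : Fin t => S.J) *ᵥ u) = 0 := by
    rw [Matrix.vecMulVec_mul_vecMulVec, dotProduct_comm]
    change Matrix.vecMulVec u (tForm S t u u • _) = 0
    rw [hu, zero_smul, Matrix.vecMulVec_zero]
  simp only [ex, mul_add, add_mul, rn_mul S ht hu h1 h1, rn_mul S ht hu h2 h2, rn_mul S ht hu h1 h2,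
    rn_mul S ht hu h2 h1, hsym, one_mul, mul_one, smul_mul_assoc, mul_smul_comm, smul_smul, hUU,
    hU _ _ h1 h1, hU _ _ h2 h2, hU' _ h1, hU' _ h2, smul_zero, add_zero, smul_add]
  have htwo := S.two
  match_scalars <;> field_simp <;> ring

lemma Rad.smul {u w : (Fin t → Fin k) → F} (c : F) (h : Rad S M u w) : Rad S M u (c • w) :=
  ⟨by rw [tForm_smul_right, h.1, mul_zero], fun d => by rw [smul_smul]; exact h.2 _⟩

/-- Root elements fixing `u` move the root vectors of `u`. -/
lemma Rad.conj {u w : (Fin t → Fin k) → F} {g : GL (Fin t → Fin k) F} (hg : g ∈ M)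
    (hgu : g.val *ᵥ u = u) (h : Rad S M u w) : Rad S M u (g.val *ᵥ w) := by
  have hiso : ∀ x y, tForm S t (g.val *ᵥ x) (g.val *ᵥ y) = tForm S t x y :=
    (mem_Iso_iff S).1 (hle hg)
  refine ⟨by rw [← hgu, hiso, h.1], fun c => ?_⟩
  obtain ⟨x, hx, hxv⟩ := h.2 c
  refine ⟨g * x * g⁻¹, M.mul_mem (M.mul_mem hg hx) (M.inv_mem hg), ?_⟩
  have e : g.val * rn S u (c • w) = rn S u (c • g.val *ᵥ w) * g.val := by
    refine Matrix.toLin'.injective (LinearMap.ext fun z => ?_)
    simp only [Matrix.toLin'_apply, ← Matrix.mulVec_mulVec, rn_mulVec, Matrix.mulVec_sub,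
      Matrix.mulVec_smul, hgu]
    have h1 : tForm S t (g.val *ᵥ z) u = tForm S t z u := by
      conv_lhs => rw [← hgu, hiso]
    have h2 : tForm S t (g.val *ᵥ z) (c • g.val *ᵥ w) = tForm S t z (c • w) := by
      rw [← Matrix.mulVec_smul, hiso]
    rw [h1, h2]
  rw [Units.val_mul, Units.val_mul, hxv]
  set N := rn S u (c • w)
  set N' := rn S u (c • g.val *ᵥ w)
  have e2 : g.val * (N * N) = N' * N' * g.val := by rw [← mul_assoc, e, mul_assoc, e, ← mul_assoc]
  have e3 : g.val * ex F N = ex F N' * g.val := by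
    simp only [ex, mul_add, add_mul, mul_one, one_mul, mul_smul_comm, smul_mul_assoc, e, e2]
  rw [e3, mul_assoc, Units.mul_inv, mul_one]

/-- A root element moving one root vector gives a new root vector. -/
lemma Rad.step {u x p q : (Fin t → Fin k) → F} (hu : tForm S t u u = 0) (hx : Rad S M u x)
    (hg : MV M (1 + rn S p q)) (hup : tForm S t u p = 0) (huq : tForm S t u q = 0)
    (hxp : tForm S t x p = 0) (hxq : tForm S t x q ≠ 0) : Rad S M u p := by
  obtain ⟨g, hgM, hgv⟩ := hg
  have hgz : ∀ z, g.val *ᵥ z = z + (tForm S t z p • q - tForm S t z q • p) := fun z => by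
    rw [hgv, Matrix.add_mulVec, Matrix.one_mulVec, rn_mulVec]
  have h1 := Rad.conj hle ht hgM (by rw [hgz, hup, huq, zero_smul, zero_smul, sub_zero, add_zero]) hx
  rw [hgz, hxp, zero_smul, zero_sub] at h1
  have h2 := Rad.smul hle ht (-(tForm S t x q)⁻¹)
    (Rad.add hle ht hu h1 (Rad.smul hle ht (-1) hx))
  convert h2 using 1
  rw [neg_one_smul, add_neg_cancel_comm, smul_neg, neg_smul, neg_neg, smul_smul, inv_mul_cancel₀ hxq,
    one_smul]

/-- Neighbours of a pure point. -/
lemma rad_neighbour (ht0 : 0 < t) {a : Fin t} (hR : Roots S M a) (w : Fin t → Fin k → F)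
    (hw : ∀ l, w l ≠ 0) (v : Fin k → F) (hv : k < 6 ∨ S.om (w a) v = 0) (h2 : 2 ≤ t) :
    Rad S M (pvec w) (pvec (Function.update w a v)) := by
  obtain ⟨l, hl⟩ : ∃ l : Fin t, l ≠ a := by
    have : Nontrivial (Fin t) := Fin.nontrivial_iff_two_le.2 h2
    exact exists_ne a
  have h0 : ∀ x, tForm S t (pvec w) (pvec (Function.update w a x)) = 0 := fun x => by
    rw [tForm_pvec]
    exact Finset.prod_eq_zero (Finset.mem_univ l) (by rw [Function.update_of_ne hl, S.om_self])
  refine ⟨h0 v, fun c => ?_⟩
  rw [← pvec_update_smul]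
  have hm := hR w (w a) (c • v) (fun l _ => hw l)
    (hv.imp id fun h => by rw [S.om_smul_right, h, mul_zero])
  rw [Function.update_eq_self] at hm
  have hsq : rn S (pvec w) (pvec (Function.update w a (c • v))) *
      rn S (pvec w) (pvec (Function.update w a (c • v))) = 0 := by
    rw [rn_mul S ht (tForm_pvec_self ht0 w) (h0 _) (h0 _), tForm_pvec_self ht0, neg_zero, zero_smul]
  rwa [ex_sq_zero hsq]

omit hle ht in
lemma off_ne_zero {x y : Fin k → F} (h : S.om x y ≠ 0) : y ≠ 0 := fun e => h (by
  rw [e, Alt.om, Matrix.mulVec_zero, zero_dotProduct])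

omit hle ht in
lemma om_ne_swap {x y : Fin k → F} (h : S.om x y ≠ 0) : S.om y x ≠ 0 := fun e => h (by
  rw [S.om_swap, e, neg_zero])

omit hle ht in
lemma exists_om_sep {x z : Fin k → F} (h : ∀ c : F, c • x ≠ z) :
    ∃ q, S.om q x = 0 ∧ S.om q z = 1 := by
  obtain ⟨φ, hφ1, hφ2⟩ := exists_sep (v := S.J *ᵥ x) (w := S.J *ᵥ z) fun e he => h e (by
    have := congrArg (fun y => S.Ji *ᵥ y) he
    simpa [Matrix.mulVec_smul, Matrix.mulVec_mulVec, S.Ji_mul] using this)
  exact ⟨φ, by rw [Alt.om, dotProduct_comm]; exact hφ1, by rw [Alt.om, dotProduct_comm]; exact hφ2⟩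

omit hle ht in
lemma exists_om_sep_two {x y z : Fin k → F} (h : ∀ c d : F, c • x + d • y ≠ z) :
    ∃ q, S.om q x = 0 ∧ S.om q y = 0 ∧ S.om q z ≠ 0 := by
  classical
  obtain ⟨f, hf, hfm⟩ := Submodule.exists_dual_map_eq_bot_of_notMem
    (fun hz => (Submodule.mem_span_pair.1 hz).elim fun c hc => hc.elim fun d hd => h c d hd)
    (inferInstance : Module.Projective F ((Fin k → F) ⧸ Submodule.span F {x, y}))
  obtain ⟨g, hg⟩ : ∃ g, ∀ v, g ⬝ᵥ v = f v := ⟨fun j => f (Pi.single j 1), fun v => by
    conv_rhs => rw [pi_eq_sum_univ' v, map_sum]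
    refine Finset.sum_congr rfl fun j _ => ?_
    rw [map_smul, smul_eq_mul]
    ring⟩
  have key : ∀ v, S.om (S.Jiᵀ *ᵥ g) v = f v := fun v => by
    rw [← hg, Alt.om, dotProduct_comm, Matrix.mulVec_transpose, ← Matrix.dotProduct_mulVec,
      Matrix.mulVec_mulVec, S.Ji_mul, Matrix.one_mulVec]
  have hz : ∀ v ∈ ({x, y} : Set (Fin k → F)), f v = 0 := fun v hv => (Submodule.mem_bot F).1
    (hfm ▸ Submodule.mem_map_of_mem (Submodule.subset_span hv) : f v ∈ (⊥ : Submodule F F))
  exact ⟨_, by rw [key, hz x (by simp)], by rw [key, hz y (by simp)], by rwa [key]⟩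

/-- Root vectors at a pure point for factors of dimension at least four. -/
lemma rad_pure_of_four (hk : 4 ≤ k) (h2 : 2 ≤ t) {a : Fin t} (hR : Roots S M a)
    (w : Fin t → Fin k → F) (hw : ∀ l, w l ≠ 0) (p : Fin t → Fin k → F) (hp : ∀ l, p l ≠ 0)
    (hwp : ∃ b, S.om (w b) (p b) = 0) : Rad S M (pvec w) (pvec p) := by
  classical
  have ht0 : 0 < t := by omega
  have hu := tForm_pvec_self (S := S) ht0 w
  have hperp : ∀ (p : Fin t → Fin k → F) b, S.om (w b) (p b) = 0 →
      tForm S t (pvec w) (pvec p) = 0 := fun p b hb => by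
    rw [tForm_pvec]; exact Finset.prod_eq_zero (Finset.mem_univ b) hb
  -- the vectors orthogonal only in the factor `a`
  have first : ∀ p : Fin t → Fin k → F, (∀ l, l ≠ a → S.om (w l) (p l) ≠ 0) →
      S.om (w a) (p a) = 0 → Rad S M (pvec w) (pvec p) := by
    intro p hpl hpa
    obtain ⟨v, q, hv1, hv2, hq1, hvq, hpq⟩ : ∃ v q, S.om (w a) v = 0 ∧ S.om v (p a) = 0 ∧
        S.om (w a) q = 0 ∧ S.om v q ≠ 0 ∧ (k < 6 ∨ S.om (p a) q = 0) := by
      obtain ⟨η, hη⟩ := exists_dual (hw a)
      by_cases hdep : ∃ c : F, c • w a = p a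
      · obtain ⟨c, hc⟩ := hdep
        obtain ⟨x, hx0, hx1, hx2, -⟩ := exists_three_perp hk (S.J *ᵥ w a) η η
        have hxw : S.om x (w a) = 0 := hx1
        obtain ⟨q, hq1, hq2⟩ := exists_om_sep (S := S) (x := w a) (z := x) fun e he => hx0 (by
          rw [← he, dotProduct_smul, hη, smul_eq_mul, mul_one] at hx2
          rw [← he, hx2, zero_smul])
        have e1 : S.om (w a) x = 0 := by rw [S.om_swap, hxw, neg_zero]
        have e2 : S.om (w a) q = 0 := by rw [S.om_swap, hq1, neg_zero]
        exact ⟨x, q, e1, by rw [← hc, S.om_smul_right, hxw, mul_zero], e2,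
          om_ne_swap (by rw [hq2]; exact one_ne_zero),
          Or.inr (by rw [← hc, S.om_smul_left, e2, mul_zero])⟩
      push Not at hdep
      by_cases hk6 : k < 6
      · obtain ⟨q, hq1, hq2⟩ := exists_om_sep (S := S) (x := w a) (z := p a) hdep
        exact ⟨p a, q, hpa, S.om_self _, by rw [S.om_swap, hq1, neg_zero],
          om_ne_swap (by rw [hq2]; exact one_ne_zero), Or.inl hk6⟩
      obtain ⟨η₁, hη₁, hη₁'⟩ := exists_sep (v := w a) (w := p a) hdep
      let L : (Fin k → F) →ₗ[F] F × F × F × F :=
        { toFun := fun x => ((S.J *ᵥ w a) ⬝ᵥ x, (S.J *ᵥ p a) ⬝ᵥ x, η ⬝ᵥ x, η₁ ⬝ᵥ x)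
          map_add' := fun x y => by simp [dotProduct_add]
          map_smul' := fun c x => by simp [dotProduct_smul] }
      obtain ⟨x, hxL, hx0⟩ := Submodule.exists_mem_ne_zero_of_ne_bot
        (LinearMap.ker_ne_bot_of_finrank_lt (f := L) (by
          rw [Module.finrank_prod, Module.finrank_prod, Module.finrank_prod, Module.finrank_self,
            Module.finrank_fin_fun]
          omega))
      have hxL' : L x = 0 := hxL
      have hxw : S.om x (w a) = 0 := congrArg Prod.fst hxL'
      have hxp : S.om x (p a) = 0 := congrArg (fun z => z.2.1) hxL'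
      have hxη : η ⬝ᵥ x = 0 := congrArg (fun z => z.2.2.1) hxL'
      have hxη₁ : η₁ ⬝ᵥ x = 0 := congrArg (fun z => z.2.2.2) hxL'
      obtain ⟨q, hq1, hq2, hq3⟩ := exists_om_sep_two (S := S) (x := w a) (y := p a) (z := x)
        fun c d he => hx0 (by
          rw [← he, dotProduct_add, dotProduct_smul, dotProduct_smul, hη₁, hη₁'] at hxη₁
          simp only [smul_eq_mul, mul_zero, zero_add, mul_one] at hxη₁
          rw [hxη₁, zero_smul, add_zero] at he
          rw [← he, dotProduct_smul, hη, smul_eq_mul, mul_one] at hxη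
          rw [← he, hxη, zero_smul])
      exact ⟨x, q, by rw [S.om_swap, hxw, neg_zero], hxp, by rw [S.om_swap, hq1, neg_zero],
        om_ne_swap hq3, Or.inr (by rw [S.om_swap, hq2, neg_zero])⟩
    refine Rad.step hle ht hu (rad_neighbour hle ht ht0 hR w hw v (Or.inr hv1) h2)
      (p := pvec p) (q := pvec (Function.update p a q)) ?_ (hperp p a hpa)
      (hperp _ a (by rwa [Function.update_self])) ?_ ?_
    · have := hR p (p a) q (fun l hl => off_ne_zero (hpl l hl)) hpq
      rwa [Function.update_eq_self] at this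
    · rw [tForm_pvec]
      exact Finset.prod_eq_zero (Finset.mem_univ a) (by rw [Function.update_self]; exact hv2)
    · rw [tForm_pvec]
      refine Finset.prod_ne_zero_iff.2 fun l _ => ?_
      rcases eq_or_ne l a with rfl | hla
      · rwa [Function.update_self, Function.update_self]
      · rw [Function.update_of_ne hla, Function.update_of_ne hla]; exact hpl l hla
  by_cases hz : ∀ l, l ≠ a → S.om (w l) (p l) ≠ 0
  · obtain ⟨b, hb⟩ := hwp
    rcases eq_or_ne b a with rfl | hba
    exacts [first p hz hb, absurd hb (hz b hba)]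
  push Not at hz
  obtain ⟨b, hba, hb⟩ := hz
  obtain ⟨η, hη⟩ := exists_dual (hp a)
  obtain ⟨x, hx0, hx1, hx2, hx3⟩ := exists_three_perp hk (S.J *ᵥ w a) (S.J *ᵥ p a) η
  have hxw : S.om x (w a) = 0 := hx1
  have hxp : S.om x (p a) = 0 := hx2
  obtain ⟨q, hq1, hq2⟩ := exists_om_sep (S := S) (x := p a) (z := x) fun e he => hx0 (by
    rw [← he, dotProduct_smul, hη, smul_eq_mul, mul_one] at hx3
    rw [← he, hx3, zero_smul])
  choose r hr1 hr2 using fun l => exists_two_off (S := S) (hw l) (hp l)
  set X := Function.update r a x with hX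
  refine Rad.step hle ht hu (x := pvec X)
    (first X (fun l hl => by rw [hX, Function.update_of_ne hl]; exact om_ne_swap (hr1 l))
      (by rw [hX, Function.update_self, S.om_swap, hxw, neg_zero]))
    (p := pvec p) (q := pvec (Function.update p a q)) ?_ (hperp p b hb)
    (hperp _ b (by rwa [Function.update_of_ne hba])) ?_ ?_
  · have := hR p (p a) q (fun l _ => hp l) (Or.inr (by rw [S.om_swap, hq1, neg_zero]))
    rwa [Function.update_eq_self] at this
  · rw [tForm_pvec]
    exact Finset.prod_eq_zero (Finset.mem_univ a) (by rw [hX, Function.update_self]; exact hxp)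
  · rw [tForm_pvec]
    refine Finset.prod_ne_zero_iff.2 fun l _ => ?_
    rcases eq_or_ne l a with rfl | hla
    · rw [hX, Function.update_self, Function.update_self]
      exact om_ne_swap (by rw [hq2]; exact one_ne_zero)
    · rw [hX, Function.update_of_ne hla, Function.update_of_ne hla]; exact hr2 l

omit hle ht in
lemma two_dim_A (hk : k = 2) (S : Alt F k) (x y z : Fin k → F) :
    S.om z y • x - S.om z x • y = S.om x y • z := by
  subst hk
  have h00 : S.J 0 0 = 0 := by
    have := congrFun (congrFun S.skew 0) 0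
    simp only [Matrix.transpose_apply, Matrix.neg_apply] at this
    exact (mul_eq_zero.1 (show (2 : F) * S.J 0 0 = 0 by linear_combination this)).resolve_left S.two
  have h11 : S.J 1 1 = 0 := by
    have := congrFun (congrFun S.skew 1) 1
    simp only [Matrix.transpose_apply, Matrix.neg_apply] at this
    exact (mul_eq_zero.1 (show (2 : F) * S.J 1 1 = 0 by linear_combination this)).resolve_left S.two
  have h10 : S.J 1 0 = -S.J 0 1 := by
    have := congrFun (congrFun S.skew 0) 1
    simpa [Matrix.transpose_apply] using this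
  funext j
  fin_cases j <;>
    simp [Alt.om, Matrix.mulVec, dotProduct, Fin.sum_univ_two, h00, h11, h10] <;> ring

omit hle ht in
lemma two_dim_dep (hk : k = 2) (S : Alt F k) {u x : Fin k → F} (hu : u ≠ 0) (h : S.om u x = 0) :
    ∃ c : F, x = c • u := by
  obtain ⟨v, hv⟩ := S.exists_om_one hu
  have := two_dim_A hk S u x v
  rw [h, hv, zero_smul, one_smul, sub_eq_zero] at this
  exact ⟨_, this.symm⟩

/-- Root vectors at a pure point for factors of dimension two. -/
lemma rad_pure_of_two (hk : k = 2) (h4 : 4 ≤ t) (hR : ∀ a, Roots S M a)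
    (w : Fin t → Fin k → F) (hw : ∀ l, w l ≠ 0) (p : Fin t → Fin k → F) (hp : ∀ l, p l ≠ 0)
    (hwp : ∃ b, S.om (w b) (p b) = 0) : Rad S M (pvec w) (pvec p) := by
  classical
  have ht0 : 0 < t := by omega
  have hu := tForm_pvec_self (S := S) ht0 w
  have h6 : k < 6 := by omega
  have hperp : ∀ (p : Fin t → Fin k → F) b, S.om (w b) (p b) = 0 →
      tForm S t (pvec w) (pvec p) = 0 := fun p b hb => by
    rw [tForm_pvec]; exact Finset.prod_eq_zero (Finset.mem_univ b) hb
  have hpair : ∀ (p : Fin t → Fin k → F) (b : Fin t) (q : Fin k → F), (∀ l, l ≠ b → p l ≠ 0) →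
      MV M (1 + rn S (pvec p) (pvec (Function.update p b q))) := fun p b q hl => by
    have := hR b p (p b) q hl (Or.inl h6)
    rwa [Function.update_eq_self] at this
  -- two coinciding factors
  have stepA : ∀ (q : Fin t → Fin k → F) (a b : Fin t), a ≠ b → q a = w a → q b = w b →
      (∀ l, l ≠ a → l ≠ b → S.om (w l) (q l) ≠ 0) → Rad S M (pvec w) (pvec q) := by
    intro q a b hab hqa hqb hql
    obtain ⟨v, hv⟩ := S.exists_om_one (hw a)
    obtain ⟨z, hz⟩ := S.exists_om_one (hw b)
    have hqn : ∀ l, l ≠ b → q l ≠ 0 := fun l hl => by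
      rcases eq_or_ne l a with rfl | hla
      exacts [hqa ▸ hw l, off_ne_zero (hql l hla hl)]
    refine Rad.step hle ht hu (rad_neighbour hle ht ht0 (hR a) w hw v (Or.inl h6) (by omega))
      (p := pvec q) (q := pvec (Function.update q b z)) (hpair q b z hqn)
      (hperp q a (by rw [hqa, S.om_self])) (hperp _ a (by rw [Function.update_of_ne hab, hqa, S.om_self]))
      ?_ ?_
    · rw [tForm_pvec]
      exact Finset.prod_eq_zero (Finset.mem_univ b)
        (by rw [Function.update_of_ne hab.symm, hqb, S.om_self])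
    · rw [tForm_pvec]
      refine Finset.prod_ne_zero_iff.2 fun l _ => ?_
      rcases eq_or_ne l a with rfl | hla
      · rw [Function.update_self, Function.update_of_ne hab, hqa, hv]; exact one_ne_zero
      rw [Function.update_of_ne hla]
      rcases eq_or_ne l b with rfl | hlb
      · rw [Function.update_self]; exact om_ne_swap (by rw [hz]; exact one_ne_zero)
      · rw [Function.update_of_ne hlb]; exact hql l hla hlb
  -- one coinciding factor
  have stepB : ∀ (p : Fin t → Fin k → F) (a : Fin t), p a = w a →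
      (∀ l, l ≠ a → S.om (w l) (p l) ≠ 0) → Rad S M (pvec w) (pvec p) := by
    intro p a hpa hpl
    obtain ⟨b, c, d, hab, hac, had, hbc, hbd, hcd⟩ :
        ∃ b c d : Fin t, a ≠ b ∧ a ≠ c ∧ a ≠ d ∧ b ≠ c ∧ b ≠ d ∧ c ≠ d := by
      have h1 : 2 < (Finset.univ.erase a).card := by
        rw [Finset.card_erase_of_mem (Finset.mem_univ a), Finset.card_univ, Fintype.card_fin]; omega
      obtain ⟨b, c, d, hb, hc, hd, hbc, hbd, hcd⟩ := Finset.two_lt_card_iff.1 h1
      exact ⟨b, c, d, (Finset.ne_of_mem_erase hb).symm, (Finset.ne_of_mem_erase hc).symm,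
        (Finset.ne_of_mem_erase hd).symm, hbc, hbd, hcd⟩
    have hpn : ∀ l, p l ≠ 0 := fun l => by
      rcases eq_or_ne l a with rfl | hla
      exacts [hpa ▸ hw l, off_ne_zero (hpl l hla)]
    choose r hr1 hr2 using fun l => exists_two_off (S := S) (hw l) (hpn l)
    obtain ⟨q, hq⟩ := S.exists_om_one (hpn d)
    set X := Function.update (Function.update (Function.update r d (p d)) c (w c)) b (w b) with hX
    have Xb : X b = w b := Function.update_self ..
    have Xc : X c = w c := by rw [hX, Function.update_of_ne hbc.symm, Function.update_self]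
    have Xd : X d = p d := by
      rw [hX, Function.update_of_ne hbd.symm, Function.update_of_ne hcd.symm, Function.update_self]
    have Xl : ∀ l, l ≠ b → l ≠ c → l ≠ d → X l = r l := fun l h1 h2 h3 => by
      rw [hX, Function.update_of_ne h1, Function.update_of_ne h2, Function.update_of_ne h3]
    refine Rad.step hle ht hu (stepA X b c hbc Xb Xc fun l h1 h2 => ?_)
      (p := pvec p) (q := pvec (Function.update p d q)) (hpair p d q fun l _ => hpn l)
      (hperp p a (by rw [hpa, S.om_self])) (hperp _ a (by rw [Function.update_of_ne had, hpa, S.om_self]))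
      ?_ ?_
    · rcases eq_or_ne l d with rfl | h3
      · rw [Xd]; exact hpl _ had.symm
      · rw [Xl l h1 h2 h3]; exact om_ne_swap (hr1 l)
    · rw [tForm_pvec]
      exact Finset.prod_eq_zero (Finset.mem_univ d) (by rw [Xd, S.om_self])
    · rw [tForm_pvec]
      refine Finset.prod_ne_zero_iff.2 fun l _ => ?_
      rcases eq_or_ne l d with rfl | h3
      · rw [Xd, Function.update_self]; exact om_ne_swap (by rw [hq]; exact one_ne_zero)
      rw [Function.update_of_ne h3]
      rcases eq_or_ne l b with rfl | h1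
      · rw [Xb]; exact hpl _ hab.symm
      rcases eq_or_ne l c with rfl | h2
      · rw [Xc]; exact hpl _ hac.symm
      rw [Xl l h1 h2 h3]; exact hr2 l
  obtain ⟨a, ha⟩ := hwp
  by_cases hz : ∀ l, l ≠ a → S.om (w l) (p l) ≠ 0
  · obtain ⟨c, hc⟩ := two_dim_dep hk S (hw a) ha
    have h1 := Rad.smul hle ht c (stepB (Function.update p a (w a)) a (Function.update_self ..)
      fun l hl => by rw [Function.update_of_ne hl]; exact hz l hl)
    rwa [← pvec_update_smul, ← hc, Function.update_eq_self] at h1
  push Not at hz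
  obtain ⟨b, hba, hb⟩ := hz
  obtain ⟨z, hzb⟩ := S.exists_om_one (hw b)
  choose r hr1 hr2 using fun l => exists_two_off (S := S) (hw l) (hp l)
  set X := Function.update r b (w b) with hX
  refine Rad.step hle ht hu (stepB X b (Function.update_self ..) fun l hl => ?_)
    (p := pvec p) (q := pvec (Function.update p b z)) (hpair p b z fun l _ => hp l)
    (hperp p a ha) (hperp _ a (by rwa [Function.update_of_ne hba.symm])) ?_ ?_
  · rw [hX, Function.update_of_ne hl]; exact om_ne_swap (hr1 l)
  · rw [tForm_pvec]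
    exact Finset.prod_eq_zero (Finset.mem_univ b) (by rw [hX, Function.update_self]; exact hb)
  · rw [tForm_pvec]
    refine Finset.prod_ne_zero_iff.2 fun l _ => ?_
    rcases eq_or_ne l b with rfl | hlb
    · rw [hX, Function.update_self, Function.update_self]
      exact om_ne_swap (by rw [hzb]; exact one_ne_zero)
    · rw [hX, Function.update_of_ne hlb, Function.update_of_ne hlb]; exact hr2 l

/-- All vectors orthogonal to a pure point are root vectors. -/
lemma rad_all (ht0 : 0 < t) (w : Fin t → Fin k → F) (hw : ∀ l, w l ≠ 0)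
    (hrad : ∀ p : Fin t → Fin k → F, (∀ l, p l ≠ 0) → (∃ b, S.om (w b) (p b) = 0) →
      Rad S M (pvec w) (pvec p)) {z : (Fin t → Fin k) → F}
    (hz : tForm S t (pvec w) z = 0) : Rad S M (pvec w) z := by
  classical
  have hu := tForm_pvec_self (S := S) ht0 w
  let W : Submodule F ((Fin t → Fin k) → F) :=
    { carrier := {z | Rad S M (pvec w) z}
      add_mem' := fun ha hb => Rad.add hle ht hu ha hb
      zero_mem' := ⟨by rw [tForm, Matrix.mulVec_zero, dotProduct_zero], fun c => by
        rw [show rn S (pvec w) (c • (0 : (Fin t → Fin k) → F)) = 0 by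
          rw [← zero_smul F (0 : (Fin t → Fin k) → F), smul_smul, mul_zero, rn_smul, zero_smul]]
        rw [ex_zero]; exact MV.one⟩
      smul_mem' := fun c _ hz => Rad.smul hle ht c hz }
  choose v hv using fun l => S.exists_om_one (hw l)
  have hrad0 : ∀ p : Fin t → Fin k → F, (∃ b, S.om (w b) (p b) = 0) → pvec p ∈ W := by
    intro p hb
    by_cases h0 : ∀ l, p l ≠ 0
    · exact hrad p h0 hb
    · push Not at h0
      obtain ⟨l, hl⟩ := h0
      rw [show pvec p = 0 from funext fun q =>
        Finset.prod_eq_zero (Finset.mem_univ l) (by rw [hl]; rfl)]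
      exact W.zero_mem
  have hdec : ∀ (s : Finset (Fin t)) (p : Fin t → Fin k → F), (∀ l, l ∉ s → p l = v l) →
      pvec p - (∏ l, S.om (p l) (w l)) • pvec v ∈ W := by
    intro s
    induction s using Finset.induction with
    | empty =>
      intro p hp
      rw [show p = v from funext fun l => hp l (Finset.notMem_empty l),
        Finset.prod_congr rfl (fun l _ => hv l), Finset.prod_const_one, one_smul, sub_self]
      exact W.zero_mem
    | insert i s hi ih =>
      intro p hp
      set c := S.om (p i) (w i)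
      have e : pvec p = c • pvec (Function.update p i (v i)) +
          pvec (Function.update p i (p i - c • v i)) := by
        rw [← pvec_update_smul, ← pvec_update_add, add_sub_cancel, Function.update_eq_self]
      have h1 := W.smul_mem c (ih (Function.update p i (v i)) fun l hl => by
        rcases eq_or_ne l i with rfl | hli
        · exact Function.update_self ..
        · rw [Function.update_of_ne hli]; exact hp l (by simp [hli, hl]))
      have h2 : pvec (Function.update p i (p i - c • v i)) ∈ W := hrad0 _ ⟨i, by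
        rw [Function.update_self, S.om_swap, S.om_sub_left, S.om_smul_left, hv, mul_one, sub_self,
          neg_zero]⟩
      have e2 : (∏ l, S.om (p l) (w l)) = c * ∏ l, S.om (Function.update p i (v i) l) (w l) := by
        rw [← Finset.mul_prod_erase _ _ (Finset.mem_univ i),
          ← Finset.mul_prod_erase _ (fun l => S.om (Function.update p i (v i) l) (w l))
            (Finset.mem_univ i), Function.update_self, hv, one_mul]
        congr 1
        exact Finset.prod_congr rfl fun l hl => by
          rw [Function.update_of_ne (Finset.ne_of_mem_erase hl)]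
      rw [e2, mul_smul, e, add_sub_right_comm, ← smul_sub]
      exact W.add_mem h1 h2
  have htop : ∀ y : (Fin t → Fin k) → F,
      y - (tForm S t y (pvec w)) • pvec v ∈ W := by
    intro y
    have e : ∀ a : Fin t → Fin k, (pvec fun l => Pi.single (a l) (1 : F)) -
        (tForm S t (pvec fun l => Pi.single (a l) 1) (pvec w)) • pvec v ∈ W := fun a => by
      rw [tForm_pvec]
      exact hdec Finset.univ _ fun l hl => absurd (Finset.mem_univ l) hl
    have : y = ∑ a, y a • pvec fun l => Pi.single (a l) (1 : F) := by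
      conv_lhs => rw [pi_eq_sum_univ' y]
      simp only [pvec_single]
    have e' := W.sum_mem (t := Finset.univ) (f := fun a => y a •
      ((pvec fun l => Pi.single (a l) (1 : F)) -
        (tForm S t (pvec fun l => Pi.single (a l) 1) (pvec w)) • pvec v))
      fun a _ => W.smul_mem _ (e a)
    convert e' using 1
    simp only [smul_sub, smul_smul, Finset.sum_sub_distrib, ← Finset.sum_smul, ← this]
    congr 2
    conv_lhs => rw [tForm, this, sum_dotProduct]
    exact Finset.sum_congr rfl fun a _ => by rw [smul_dotProduct]; rfl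
  have := htop z
  rwa [tForm_symm S ht, hz, zero_smul, sub_zero] at this

/-- With the root groups of neighbours all of `Ω` is in the subgroup. -/
theorem omega_le_of_roots [Fintype F] {Q : QuadraticForm F ((Fin t → Fin k) → F)}
    (hnd : CfsgLib.Classical.Quad.NDPolar Q) (P : CfsgLib.Classical.Quad.Frame Q) {c : F}
    (hpol : ∀ x y, QuadraticMap.polar Q x y = c * tForm S t x y)
    (hM : M ≤ omegaGL ⇑Q) (h2 : 2 ≤ t) (hk : k = 2 ∧ 4 ≤ t ∨ 4 ≤ k)
    (a : Fin t) (hR : Roots S M a) (hR2 : k = 2 → ∀ a, Roots S M a) : omegaGL ⇑Q ≤ M := by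
  classical
  have ht0 : 0 < t := by omega
  have hk0 : 0 < k := by omega
  have hQ : ∀ x, 2 * Q x = c * tForm S t x x := fun x => by
    rw [← hpol, QuadraticMap.polar_self, nsmul_eq_mul, Nat.cast_ofNat]
  have hSS : ∀ w : Fin t → Fin k → F, (∀ l, w l ≠ 0) → pvec w ∈ OmS.SS Q M := by
    intro w hw
    have hQ0 : Q (pvec w) = 0 := by
      have := hQ (pvec w)
      rw [tForm_pvec_self ht0, mul_zero, mul_eq_zero] at this
      exact this.resolve_left S.two
    refine ⟨hQ0, fun z hz => ?_⟩
    rcases eq_or_ne c 0 with hc | hc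
    · exact ⟨1, M.one_mem, fun x => by simp [hpol, hc, Units.val_one]⟩
    rw [hpol, mul_eq_zero, or_iff_right hc] at hz
    obtain ⟨h, hh, hhv⟩ := (rad_all hle ht ht0 w hw (fun p hp hb => by
      rcases hk with ⟨hk, h4⟩ | hk
      exacts [rad_pure_of_two hle ht hk h4 (hR2 hk) w hw p hp hb,
        rad_pure_of_four hle ht hk h2 hR w hw p hp hb]) hz).2 c
    refine ⟨h, hh, fun x => ?_⟩
    have hu := tForm_pvec_self (S := S) ht0 w
    have hzu : tForm S t z (pvec w) = 0 := by rw [tForm_symm S ht]; exact hz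
    have hQz : Q z = c * tForm S t z z / 2 := by
      rw [eq_div_iff S.two, mul_comm, hQ]
    simp only [hhv, ex, Matrix.add_mulVec, Matrix.one_mulVec, Matrix.smul_mulVec,
      ← Matrix.mulVec_mulVec, rn_mulVec, tForm_sub_left, tForm_smul_left, tForm_smul_right, hu, hzu,
      hz, hpol, hQz]
    have htwo := S.two
    match_scalars <;> field_simp <;> ring
  set e0 : Fin k → F := Pi.single (⟨0, hk0⟩ : Fin k) 1
  have he0 : e0 ≠ 0 := by simp [e0]
  obtain ⟨f0, hf0⟩ := S.exists_om_one he0
  have hf0' : f0 ≠ 0 := fun h => by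
    rw [h, Alt.om, dotProduct_zero] at hf0; exact zero_ne_one hf0
  rcases eq_or_ne c 0 with hc | hc
  · refine absurd (hnd (pvec fun _ : Fin t => e0) fun y => ?_) (pvec_ne_zero fun _ => he0)
    rw [hpol, hc, zero_mul]
  refine OmS.omega_le_of_pair hnd P hM (hSS (fun _ => f0) fun _ => hf0') (hSS (fun _ => e0) fun _ => he0) ?_
  rw [hpol, tForm_pvec]
  simp [hf0, hc]

end CfsgLib.ClassicalMax.TWreath
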