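/-
A non-scalar root set over an even number of symplectic factors gives the root groups of pairs of
pure vectors differing in one factor.
-/
import Cfsg.Agent.Lib.ClassicalMax.TWreath.OmRad
set_option autoImplicit false
set_option linter.unusedSectionVars false

namespace CfsgLib.ClassicalMax.TWreath

open Matrix Cfsg.Geo

variable {F : Type*} [Field F] {t k : ℕ} {S : Alt F k} {M : Subgroup (GL (Fin t → Fin k) F)}

/-- The self-adjoint parts at the factor `i` next to roots at all other factors. -/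
def Tw (S : Alt F k) (M : Subgroup (GL (Fin t → Fin k) F)) (i : Fin t)
    (X : Matrix (Fin k) (Fin k) F) : Prop :=
  ∀ w : Fin t → Fin k → F, (∀ l, l ≠ i → w l ≠ 0) →
    MV M (1 + pmat (Function.update (fun l => S.R (w l)) i X))

lemma rn_pvec_update (w : Fin t → Fin k → F) (a : Fin t) (x y : Fin k → F) :
    rn S (pvec (Function.update w a x)) (pvec (Function.update w a y)) =
      pmat (Function.update (fun l => S.R (w l)) a (S.A y x)) := by
  have e : ∀ x y : Fin k → F,
      Matrix.vecMulVec (pvec (Function.update w a y))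
        (pmat (fun _ : Fin t => S.J) *ᵥ pvec (Function.update w a x)) =
      pmat (Function.update (fun l => S.R (w l)) a (S.ro y x)) := fun x y => by
    rw [pmat_mulVec_pvec, ← pmat_vecMulVec]
    congr 1
    funext l
    rcases eq_or_ne l a with rfl | hl
    · rw [Function.update_self, Function.update_self, Function.update_self]; rfl
    · rw [Function.update_of_ne hl, Function.update_of_ne hl, Function.update_of_ne hl]; rfl
  have h := pmat_update_add (fun l => S.R (w l)) a (S.A y x) (S.ro x y)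
  rw [show S.A y x + S.ro x y = S.ro y x by rw [Alt.A]; abel] at h
  rw [rn, e, e, h, add_sub_cancel_right]

lemma roots_of_Tw {a : Fin t}
    (h : ∀ x y : Fin k → F, (k < 6 ∨ S.om x y = 0) → Tw S M a (S.A x y)) : Roots S M a := by
  intro w x y hw hxy
  rw [rn_pvec_update]
  exact h y x (hxy.imp id fun e => by rw [S.om_swap, e, neg_zero]) w hw

lemma A_self_zero (x : Fin k → F) (c : F) : S.A x (c • x) = 0 := by
  rw [Alt.A, S.ro_smul_right, S.ro_smul_left, sub_self]

lemma A_smul_right (x y : Fin k → F) (c : F) : S.A x (c • y) = c • S.A x y := by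
  rw [Alt.A, Alt.A, S.ro_smul_right, S.ro_smul_left, smul_sub]

lemma A_add_left (x x' y : Fin k → F) : S.A (x + x') y = S.A x y + S.A x' y := by
  rw [Alt.A, Alt.A, Alt.A, S.ro_add_left, S.ro_add_right]; abel

lemma A_add_right (x y y' : Fin k → F) : S.A x (y + y') = S.A x y + S.A x y' := by
  rw [Alt.A, Alt.A, Alt.A, S.ro_add_left, S.ro_add_right]; abel

lemma A_swap (x y : Fin k → F) : S.A y x = -S.A x y := by
  rw [Alt.A, Alt.A]; abel

/-- Two orthogonal hyperbolic pairs. -/
lemma exists_quad (hk : 4 ≤ k) (S : Alt F k) :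
    ∃ u y v y' : Fin k → F, S.om v u = 1 ∧ S.om v y = 0 ∧ S.om y' y = 1 ∧ S.om y' u = 0 ∧
      S.om v y' = 0 ∧ S.om u y = 0 := by
  set u : Fin k → F := Pi.single (⟨0, by omega⟩ : Fin k) 1 with hu
  obtain ⟨v, hv⟩ := S.exists_om_one (u := u) (by simp [hu])
  obtain ⟨y, hy0, hy1, hy2, -⟩ := exists_three_perp hk (S.J *ᵥ u) (S.J *ᵥ v) (S.J *ᵥ u)
  have hyu : S.om y u = 0 := hy1
  have hyv : S.om y v = 0 := hy2
  obtain ⟨φ, hφ⟩ := S.exists_om_one hy0
  refine ⟨u, y, v, φ + (-S.om φ u) • v + S.om φ v • u, hv, by rw [S.om_swap, hyv, neg_zero],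
    ?_, ?_, ?_, by rw [S.om_swap, hyu, neg_zero]⟩
  · rw [S.om_add_left, S.om_add_left, S.om_smul_left, S.om_smul_left, hφ, S.om_swap v y, hyv,
      S.om_swap u y, hyu]
    ring
  · rw [S.om_add_left, S.om_add_left, S.om_smul_left, S.om_smul_left, hv, S.om_self]; ring
  · rw [S.om_add_right, S.om_add_right, S.om_smul_right, S.om_smul_right, S.om_self, hv,
      S.om_swap v φ]
    ring

/-- On four dimensions the two projections add up to a scalar. -/
lemma A_add_eq_neg_one (hk : k = 4) {u y v y' : Fin k → F} (h1 : S.om v u = 1) (h2 : S.om v y = 0)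
    (h3 : S.om y' y = 1) (h4 : S.om y' u = 0) (h5 : S.om v y' = 0) (h6 : S.om u y = 0) :
    S.A u v + S.A y y' = -1 := by
  let L : (Fin k → F) →ₗ[F] F × F × F × F :=
    { toFun := fun z => ((S.J *ᵥ u) ⬝ᵥ z, (S.J *ᵥ v) ⬝ᵥ z, (S.J *ᵥ y) ⬝ᵥ z, (S.J *ᵥ y') ⬝ᵥ z)
      map_add' := fun z z' => by simp [dotProduct_add]
      map_smul' := fun c z => by simp [dotProduct_smul] }
  have hL : ∀ z, L z = (S.om z u, S.om z v, S.om z y, S.om z y') := fun z => rfl
  have e1 : S.om u v = -1 := by rw [S.om_swap, h1]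
  have e3 : S.om y y' = -1 := by rw [S.om_swap, h3]
  have e2 : S.om y v = 0 := by rw [S.om_swap, h2, neg_zero]
  have e4 : S.om u y' = 0 := by rw [S.om_swap, h4, neg_zero]
  have e5 : S.om y' v = 0 := by rw [S.om_swap, h5, neg_zero]
  have e6 : S.om y u = 0 := by rw [S.om_swap, h6, neg_zero]
  have hsurj : Function.Surjective L := by
    rintro ⟨a, b, c, d⟩
    refine ⟨a • v + (-b) • u + c • y' + (-d) • y, ?_⟩
    rw [hL]
    simp only [S.om_add_left, S.om_smul_left]
    simp [S.om_add_left, S.om_smul_left, S.om_self, h1, h2, h3, h4, h5, h6, e1, e2, e3, e4, e5, e6]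
  have hinj : Function.Injective L :=
    (LinearMap.injective_iff_surjective_of_finrank_eq_finrank (by
      rw [Module.finrank_prod, Module.finrank_prod, Module.finrank_prod, Module.finrank_self,
        Module.finrank_fin_fun, hk])).2 hsurj
  refine Matrix.toLin'.injective (LinearMap.ext fun z => hinj ?_)
  simp only [Matrix.toLin'_apply, Matrix.add_mulVec, S.A_mulVec, Matrix.neg_mulVec, Matrix.one_mulVec]
  rw [hL, hL]
  simp only [S.om_add_left, S.om_sub_left, S.om_smul_left, S.om_self, h1, h2, h3, h4, h5, h6, e1, e2,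
    e3, e4, e5, e6]
  simp only [← neg_one_smul F z, S.om_smul_left]
  refine Prod.ext ?_ (Prod.ext ?_ (Prod.ext ?_ ?_)) <;> simp

section slots

variable (H : Over S M)
include H

/-- Products of factor isometries. -/
lemma pmat_mem_of_slots (G : Fin t → Matrix (Fin k) (Fin k) F) (hG : ∀ l, S.adj (G l) * G l = 1) :
    MV M (pmat G) := by
  classical
  have key : ∀ s : Finset (Fin t), MV M (pmat fun l => if l ∈ s then G l else 1) := by
    intro s
    induction s using Finset.induction with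
    | empty =>
      simp only [Finset.notMem_empty, if_false]
      rw [show (pmat fun _ : Fin t => (1 : Matrix (Fin k) (Fin k) F)) = 1 from pmat_one]
      exact MV.one
    | insert i s hi ih =>
      have := (slot_mem H i (hG i)).mul ih
      rw [slot_mul_pmat, if_neg hi, mul_one] at this
      rw [show (fun l => if l ∈ insert i s then G l else 1) =
        Function.update (fun l => if l ∈ s then G l else 1) i (G i) from funext fun l => by
          rcases eq_or_ne l i with rfl | h
          · simp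
          · simp [h]]
      exact this
  simpa using key Finset.univ

/-- Conjugation by factor isometries. -/
lemma conj_mem {c : F} {A : Fin t → Matrix (Fin k) (Fin k) F} (h : MV M (1 + c • pmat A))
    (G : Fin t → Matrix (Fin k) (Fin k) F) (hG : ∀ l, S.adj (G l) * G l = 1) :
    MV M (1 + c • pmat fun l => G l * A l * S.adj (G l)) := by
  have h1 : pmat G * (pmat fun l => S.adj (G l)) = 1 := by
    rw [pmat_mul]
    simp only [fun l => mul_eq_one_comm.1 (hG l)]
    exact pmat_one
  have := ((pmat_mem_of_slots H G hG).mul h).mul (pmat_mem_of_slots H (fun l => S.adj (G l)) fun l => by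
    rw [S.adj_adj]; exact mul_eq_one_comm.1 (hG l))
  rwa [mul_add, mul_one, add_mul, h1, mul_smul_comm, smul_mul_assoc, pmat_mul, pmat_mul] at this

lemma Tw.conj {i : Fin t} {X : Matrix (Fin k) (Fin k) F} (h : Tw S M i X)
    {G : Matrix (Fin k) (Fin k) F} (hG : S.adj G * G = 1) : Tw S M i (G * X * S.adj G) := by
  intro w hw
  have h1 := conj_mem H (c := (1 : F)) (A := Function.update (fun l => S.R (w l)) i X)
    (by rw [one_smul]; exact h w hw) (Function.update 1 i G) fun l => by
      rcases eq_or_ne l i with rfl | hl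
      · rwa [Function.update_self]
      · rw [Function.update_of_ne hl, Pi.one_apply, S.adj_one, mul_one]
  rw [one_smul] at h1
  convert h1 using 3
  funext l
  rcases eq_or_ne l i with rfl | hl
  · rw [Function.update_self, Function.update_self, Function.update_self]
  · rw [Function.update_of_ne hl, Function.update_of_ne hl, Function.update_of_ne hl, Pi.one_apply,
      S.adj_one, one_mul, mul_one]

omit H in
lemma Tw.add (ht2 : 2 ≤ t) {i : Fin t} {X Y : Matrix (Fin k) (Fin k) F} (hX : Tw S M i X)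
    (hY : Tw S M i Y) : Tw S M i (X + Y) := by
  intro w hw
  obtain ⟨l, hl⟩ : ∃ l : Fin t, l ≠ i := by
    have : Nontrivial (Fin t) := Fin.nontrivial_iff_two_le.2 ht2
    exact exists_ne i
  have h0 : pmat (Function.update (fun l => S.R (w l)) i X) *
      pmat (Function.update (fun l => S.R (w l)) i Y) = 0 :=
    pmat_mul_eq_zero l (by rw [Function.update_of_ne hl, Function.update_of_ne hl, S.R_sq])
  have := (hX w hw).mul (hY w hw)
  rw [mul_add, mul_one, add_mul, one_mul, h0, add_zero, add_assoc] at this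
  rwa [pmat_update_add]

omit H in
lemma Tw.zero (i : Fin t) : Tw S M i 0 := fun w _ => by
  rw [pmat_update_zero, add_zero]; exact MV.one

/-- One member gives the whole line at every choice of the roots. -/
lemma Tw.of_mem (ht2 : 2 ≤ t) {i : Fin t} {X : Matrix (Fin k) (Fin k) F} {e : F} (he : e ≠ 0)
    {A : Fin t → Matrix (Fin k) (Fin k) F} (hE : ∀ l, l ≠ i → S.IsE (A l)) (hAi : A i = X)
    (hm : MV M (1 + e • pmat A)) (c : F) : Tw S M i (c • X) := by
  classical
  obtain ⟨l₀, hl₀⟩ : ∃ l : Fin t, l ≠ i := by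
    have : Nontrivial (Fin t) := Fin.nontrivial_iff_two_le.2 ht2
    exact exists_ne i
  intro w hw
  set P := pmat (Function.update (fun l => S.R (w l)) i X) with hP
  have hsq : ∀ s : F, s ≠ 0 → MV M (1 + (e * (s * s)) • P) := by
    intro s hs
    set w' := Function.update w l₀ (s • w l₀) with hw'def
    have hw' : ∀ l, l ≠ i → w' l ≠ 0 := fun l hl => by
      rcases eq_or_ne l l₀ with rfl | h
      · simpa [w', hs] using hw _ hl
      · simpa [w', Function.update_of_ne h] using hw l hl
    have hex : ∀ l, ∃ G, S.adj G * G = 1 ∧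
        G * A l * S.adj G = Function.update (fun l => S.R (w' l)) i X l := by
      intro l
      rcases eq_or_ne l i with rfl | hl
      · exact ⟨1, by rw [S.adj_one, one_mul],
          by rw [Function.update_self, hAi, S.adj_one, one_mul, mul_one]⟩
      · obtain ⟨a, ha, hea⟩ := hE l hl
        obtain ⟨G, hG, hGa⟩ := S.move_vec ha (hw' l hl)
        exact ⟨G, hG, by rw [Function.update_of_ne hl, hea, R_conj hG, hGa]⟩
    choose G hG hGe using hex
    have := conj_mem H hm G hG
    simp only [hGe] at this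
    rwa [show Function.update (fun l => S.R (w' l)) i X = Function.update
      (Function.update (fun l => S.R (w l)) i X) l₀
        ((s * s) • Function.update (fun l => S.R (w l)) i X l₀) from funext fun l => by
        rcases eq_or_ne l l₀ with rfl | h
        · simp [w', S.R_smul, hl₀]
        · rcases eq_or_ne l i with rfl | hli
          · simp [h]
          · simp [w', Function.update_of_ne h, Function.update_of_ne hli],
      pmat_update_smul, Function.update_eq_self, smul_smul] at this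
  have hP2 : P * P = 0 := pmat_mul_eq_zero l₀ (by rw [Function.update_of_ne hl₀, S.R_sq])
  have hadd : ∀ a b : F, MV M (1 + a • P) → MV M (1 + b • P) → MV M (1 + (a + b) • P) :=
    fun a b ha hb => by
      have := ha.mul hb
      rwa [add_mul, one_mul, mul_add, mul_one, smul_mul_smul_comm, hP2, smul_zero, add_zero, add_assoc,
        ← add_smul, add_comm b a] at this
  have hzero : MV M (1 + (0 : F) • P) := by rw [zero_smul, add_zero]; exact MV.one
  have hneg : ∀ a : F, MV M (1 + a • P) → MV M (1 + (-a) • P) := fun a ha => ha.inv (by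
    rw [add_mul, one_mul, mul_add, mul_one, smul_mul_smul_comm, hP2, smul_zero, add_zero, add_assoc,
      ← add_smul, neg_add_cancel, zero_smul, add_zero])
  have hsq' : ∀ s : F, MV M (1 + (e * (s * s)) • P) := fun s => by
    rcases eq_or_ne s 0 with rfl | hs
    · rwa [mul_zero, mul_zero]
    · exact hsq s hs
  have := hadd _ _ (hsq' ((c / e + 1) / 2)) (hneg _ (hsq' ((c / e - 1) / 2)))
  rw [show e * ((c / e + 1) / 2 * ((c / e + 1) / 2)) + -(e * ((c / e - 1) / 2 * ((c / e - 1) / 2))) = c by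
    field_simp [S.two]; ring] at this
  rwa [pmat_update_smul]

lemma Tw.smul (ht2 : 2 ≤ t) {i : Fin t} {X : Matrix (Fin k) (Fin k) F} (h : Tw S M i X)
    (hk : 0 < k) (c : F) : Tw S M i (c • X) := by
  set u : Fin k → F := Pi.single (⟨0, hk⟩ : Fin k) 1 with hu
  have hu0 : u ≠ 0 := by simp [hu]
  refine Tw.of_mem H ht2 one_ne_zero (A := Function.update (fun _ => S.R u) i X) (fun l hl => ?_)
    (Function.update_self ..) (by rw [one_smul]; exact h (fun _ => u) fun _ _ => hu0) c
  rw [Function.update_of_ne hl]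
  exact ⟨u, hu0, rfl⟩

/-- A non-scalar self-adjoint part gives all shears. -/
lemma Tw.shears (ht2 : 2 ≤ t) (hk : 2 ≤ k) {i : Fin t} {X : Matrix (Fin k) (Fin k) F}
    (h : Tw S M i X) (hX : S.adj X = X) (hns : ∀ c : F, X ≠ c • 1) (x y : Fin k → F)
    (hxy : S.om x y = 0) : Tw S M i (S.A x y) := by
  obtain ⟨a, ha⟩ : ∃ a, ∀ c : F, c • a ≠ X *ᵥ a := by
    by_contra hcon
    push Not at hcon
    obtain ⟨c, hc⟩ := eq_smul_one_of_eigen hk hcon
    exact hns c hc
  set b := X *ᵥ a
  have hab : S.om a b = 0 := by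
    have h1 : S.om (X *ᵥ a) a = S.om a (X *ᵥ a) := by rw [S.om_adj, hX]
    rw [S.om_swap (X *ᵥ a) a] at h1
    exact (mul_eq_zero.1 (show (2 : F) * S.om a (X *ᵥ a) = 0 by linear_combination -h1)).resolve_left
      S.two
  have ha0 : a ≠ 0 := fun e => ha 0 (by rw [zero_smul]; simp [b, e])
  have hAab : Tw S M i (S.A a b) := by
    have h1 := Tw.add ht2 (Tw.conj H h (G := 1 + (1 : F) • S.R a) (S.R_iso _ _))
      (Tw.smul H ht2 h (by omega) (-1))
    convert h1 using 1
    have e1 : S.R a * X = S.ro a b := by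
      rw [Alt.R, Alt.ro, Alt.ro, Matrix.vecMulVec_mul]
      congr 1
      refine dotProduct_eq _ _ fun z => ?_
      rw [← Matrix.dotProduct_mulVec]
      show S.om (X *ᵥ z) a = S.om z (X *ᵥ a)
      rw [S.om_adj, hX]
    have e2 : X * S.R a = S.ro b a := by
      rw [Alt.R, Alt.ro, Matrix.mul_vecMulVec]; rfl
    have e3 : S.R a * X * S.R a = 0 := by
      rw [S.R_X_R, Alt.qv, show S.om (X *ᵥ a) a = 0 by rw [S.om_swap, hab, neg_zero], zero_smul]
    rw [S.adj_add, S.adj_one, S.adj_smul, S.adj_R, one_smul, neg_one_smul]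
    simp only [add_mul, mul_add, one_mul, mul_one, neg_mul, mul_neg, one_smul, e3]
    rw [e1, e2, Alt.A]
    abel
  by_cases hx : x = 0
  · rw [hx, show S.A 0 y = 0 by simp [Alt.A, Alt.ro]]
    exact Tw.zero i
  by_cases hdep : ∃ c : F, c • x = y
  · obtain ⟨c, rfl⟩ := hdep
    rw [A_self_zero]
    exact Tw.zero i
  push Not at hdep
  obtain ⟨G₁, hG₁, hG₁a⟩ := S.move_vec ha0 hx
  obtain ⟨G₂, hG₂, hG₂b, hG₂a⟩ := S.move_two (x := x) (a := G₁ *ᵥ b) (b := y)
    (by rw [← hG₁a, S.om_iso hG₁, hab]) hxy (fun c hc => ha c (by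
      rw [← hG₁a, ← Matrix.mulVec_smul] at hc
      have := congrArg (fun y => S.adj G₁ *ᵥ y) hc
      simpa [Matrix.mulVec_mulVec, hG₁] using this)) hdep
  have h1 := Tw.conj H hAab (S.iso_mul hG₂ hG₁)
  rwa [S.conj_A (S.iso_mul hG₂ hG₁), ← Matrix.mulVec_mulVec, ← Matrix.mulVec_mulVec, hG₁a, hG₂a,
    hG₂b] at h1

/-- A projection gives all pairs. -/
lemma Tw.all_pairs (ht2 : 2 ≤ t) (hk : 4 ≤ k) {i : Fin t} {a b : Fin k → F} (hab : S.om a b ≠ 0)
    (h : Tw S M i (S.A a b)) (x y : Fin k → F) : Tw S M i (S.A x y) := by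
  have ha : a ≠ 0 := fun e => hab (by rw [e, Alt.om, dotProduct_zero])
  have hns : ∀ c : F, S.A a b ≠ c • 1 := by
    intro c hc
    obtain ⟨z, hz0, hz1, hz2, -⟩ := exists_three_perp hk (S.J *ᵥ a) (S.J *ᵥ b) (S.J *ᵥ a)
    have h1 : S.om z a = 0 := hz1
    have h2 : S.om z b = 0 := hz2
    have e := congrArg (fun P => P *ᵥ z) hc
    simp only [S.A_mulVec, h1, h2, zero_smul, sub_zero, Matrix.smul_mulVec, Matrix.one_mulVec] at e
    have hc0 : c = 0 := (smul_eq_zero.1 e.symm).resolve_right hz0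
    rw [hc0, zero_smul] at hc
    have e' := congrArg (fun P => P *ᵥ a) hc
    simp only [S.A_mulVec, S.om_self, zero_smul, sub_zero, Matrix.zero_mulVec, smul_eq_zero] at e'
    exact hab (e'.resolve_right ha)
  have hsh := Tw.shears H ht2 (by omega) h (S.adj_A a b) hns
  by_cases hxy : S.om x y = 0
  · exact hsh x y hxy
  have hx : x ≠ 0 := fun e => hxy (by rw [e, Alt.om, dotProduct_zero])
  obtain ⟨G, hG, hGa⟩ := S.move_vec ha hx
  have h1 := Tw.conj H h hG
  rw [S.conj_A hG, hGa] at h1
  set b₁ := G *ᵥ b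
  have hb₁ : S.om x b₁ = S.om a b := by rw [← hGa, S.om_iso hG]
  set c := S.om x y / S.om a b
  have e : y = c • b₁ + (y - c • b₁) := by abel
  rw [e, A_add_right, A_smul_right]
  refine Tw.add ht2 (Tw.smul H ht2 h1 (by omega) c) (hsh _ _ ?_)
  rw [S.om_sub_right, S.om_smul_right, hb₁, div_mul_cancel₀ _ hab, sub_self]

end slots

section full

variable (H : Full S M)
include H

lemma Tw.perm {i : Fin t} {X : Matrix (Fin k) (Fin k) F} (h : Tw S M i X) (j : Fin t) :
    Tw S M j X := by
  intro w hw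
  set σ := Equiv.swap i j with hσ
  have h1 := ((H.perm σ).mul (h (w ∘ σ) fun l hl => hw _ fun e => hl (by
    have := congrArg σ e
    rwa [Equiv.swap_apply_self, Equiv.swap_apply_right] at this))).mul (H.perm σ⁻¹)
  convert h1 using 1
  rw [mul_add, mul_one, add_mul, permMat_mul, mul_inv_cancel, permMat_one, permMat_mul_pmat, mul_assoc,
    permMat_mul, mul_inv_cancel, permMat_one, mul_one]
  congr 1
  congr 1
  funext l
  simp only [Function.comp_apply, hσ, Equiv.swap_inv]
  rcases eq_or_ne l j with rfl | hl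
  · rw [Equiv.swap_apply_right, Function.update_self, Function.update_self]
  · rw [Function.update_of_ne hl, Function.update_of_ne (fun e => hl (by
      have := congrArg (Equiv.swap i j) e
      rwa [Equiv.swap_apply_self, Equiv.swap_apply_left] at this)), Equiv.swap_apply_self]

variable [Fintype F]

/-- A commutator sandwiched at all but one factor. -/
theorem leftover {A B : Fin t → Matrix (Fin k) (Fin k) F} {c d : F} (hc : c ≠ 0) (hd : d ≠ 0)
    (hA : MV M (1 + c • pmat A)) (hB : MV M (1 + d • pmat B)) {i b l₀ : Fin t} {z : Fin k → F}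
    (hA2 : A i * A i = 0) (hABA : A i * B i * A i = 0)
    (hB2 : B b * B b = 0) (hBAB : B b * A b * B b = 0)
    (hP : ∃ P, A i * B i = S.R z * P) (hQ : ∃ Q, B i * A i = Q * S.R z)
    (hR1 : S.R z * (B i * A i) = 0) (hR2 : A i * B i * S.R z = 0)
    (O : Finset (Fin t)) (hl₀ : l₀ ∈ O) (hne : l₀ ≠ i) (w : Fin t → Fin k → F) (sg : Fin t → F)
    (hq : ∀ l ∈ O, S.qv (A l * B l) (w l) ≠ 0)
    (hs : ∀ l ∈ O, S.qv (B l * A l) (w l) = sg l * S.qv (A l * B l) (w l))
    (hprod : ∏ l ∈ O, sg l = -1) {m : Fin t} (hm : m ∉ O)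
    (hT : ∀ l, l ∉ O → l ≠ m → B l * A l = A l * B l) :
    ∃ e : F, e ≠ 0 ∧ MV M (1 + e • pmat (Function.update
      (fun l => if l ∈ O then S.R (w l) else A l * B l) m (A m * B m + B m * A m))) := by
  classical
  obtain ⟨e, he, h⟩ := grow_step_gen H hc hd hA hB hA2 hABA hB2 hBAB hP hQ hR1 hR2 O hl₀ hne w
  refine ⟨e * ∏ l ∈ O, S.qv (A l * B l) (w l), mul_ne_zero he (Finset.prod_ne_zero_iff.2 hq), ?_⟩
  rw [Finset.prod_congr rfl (fun l hl => hs l hl : ∀ l ∈ O, S.qv (B l * A l) (w l) = _),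
    Finset.prod_mul_distrib, hprod, neg_one_mul, neg_smul, sub_neg_eq_add, ← smul_add, smul_smul] at h
  set P := fun l => if l ∈ O then S.R (w l) else A l * B l
  have e2 : (fun l => if l ∈ O then S.R (w l) else B l * A l) =
      Function.update P m (B m * A m) := funext fun l => by
    rcases eq_or_ne l m with rfl | hlm
    · rw [Function.update_self, if_neg hm]
    · rw [Function.update_of_ne hlm]
      by_cases hlO : l ∈ O
      · simp only [P, if_pos hlO]
      · simp only [P, if_neg hlO, hT l hlO hlm]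
  rw [e2, show pmat P = pmat (Function.update P m (A m * B m)) by
    rw [show A m * B m = P m by simp only [P, if_neg hm], Function.update_eq_self],
    ← pmat_update_add] at h
  exact h

/-- Exchanging a root with a shear, keeping one factor. -/
theorem exchange (ht : Even t) (ht4 : 4 ≤ t) {u y v y' : Fin k → F} (h1 : S.om v u = 1)
    (h2 : S.om v y = 0) (h3 : S.om y' y = 1) (h4 : S.om y' u = 0) (h5 : S.om v y' = 0)
    (h6 : S.om u y = 0) {A B : Fin t → Matrix (Fin k) (Fin k) F} {c d : F} (hc : c ≠ 0) (hd : d ≠ 0)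
    (hA : MV M (1 + c • pmat A)) (hB : MV M (1 + d • pmat B)) {i j m : Fin t} (hij : i ≠ j)
    (hmi : m ≠ i) (hmj : m ≠ j) (hAi : A i = S.R u) (hBi : B i = S.A v y') (hAj : A j = S.A u y)
    (hBj : B j = S.R v)
    (hoth : ∀ l, l ≠ i → l ≠ j → (A l = S.R u ∧ B l = S.R v) ∨ (A l = S.A u y ∧ B l = S.A v y')) :
    Tw S M m (A m * B m + B m * A m) := by
  classical
  have huv : S.om u v = -1 := by rw [S.om_swap, h1]
  have hyv : S.om y v = 0 := by rw [S.om_swap, h2, neg_zero]
  have hyy' : S.om y y' = -1 := by rw [S.om_swap, h3]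
  have huy' : S.om u y' = 0 := by rw [S.om_swap, h4, neg_zero]
  have hy'v : S.om y' v = 0 := by rw [S.om_swap, h5, neg_zero]
  have hyu : S.om y u = 0 := by rw [S.om_swap, h6, neg_zero]
  have e1 : S.R u * S.A v y' = S.ro u y' := by
    simp [Alt.R, Alt.A, mul_sub, S.ro_mul, h1, h4]
  have e2 : S.A u y * S.R v = -S.ro y v := by
    simp [Alt.R, Alt.A, sub_mul, S.ro_mul, h2, h1]
  have q1 : S.qv (S.R u * S.R v) (u + v) ≠ 0 := by
    rw [Alt.R, Alt.R, S.ro_mul, h1, one_smul, S.qv_ro, S.om_add_left, S.om_self, huv,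
      S.om_add_right, S.om_self, huv]
    simp
  have hAA : S.A u y * S.A v y' = -S.ro u v - S.ro y y' := by
    simp only [Alt.A, sub_mul, mul_sub, S.ro_mul, h2, h3, h1, h4, zero_smul, one_smul]
    abel
  have q2 : S.qv (S.A u y * S.A v y') (u + v) ≠ 0 := by
    rw [hAA, Alt.qv, Matrix.sub_mulVec, Matrix.neg_mulVec, S.ro_mulVec, S.ro_mulVec, S.om_sub_left,
      ← neg_one_smul F, S.om_smul_left, S.om_smul_left, S.om_smul_left]
    simp [S.om_add_left, S.om_add_right, S.om_self, huv, huy', h5, hyu, hyv]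
  let ws : Fin t → Fin k → F := fun l =>
    if l = i then v + y else if l = j then u + y' else u + v
  have wsi : ws i = v + y := if_pos rfl
  have wsj : ws j = u + y' := by simp [ws, hij.symm]
  have qi : S.qv (S.R u * S.A v y') (v + y) = 1 := by
    rw [e1, S.qv_ro, S.om_add_left, S.om_add_right, h5, hyy', huv, h6]; ring
  have qj : S.qv (S.A u y * S.R v) (u + y') = -1 := by
    rw [e2, Alt.qv, Matrix.neg_mulVec, S.ro_mulVec, ← neg_one_smul F, S.om_smul_left,
      S.om_smul_left, S.om_add_left, S.om_add_right, huv, hy'v, hyu, hyy']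
    ring
  have hpos : ∀ X Y : Matrix (Fin k) (Fin k) F, S.adj X = -X → S.adj Y = Y → ∀ z,
      S.qv (Y * X) z = S.qv (X * Y) z ∧ S.qv (X * Y) z = S.qv (Y * X) z := fun X Y hX hY z => by
    have : S.qv (Y * X) z = S.qv (X * Y) z := by
      rw [show Y * X = -S.adj (X * Y) by rw [S.adj_mul, hX, hY, mul_neg, neg_neg], Alt.qv,
        Matrix.neg_mulVec, ← neg_one_smul F, S.om_smul_left]
      show (-1 : F) * S.qv _ _ = _
      rw [S.qv_adj]; ring
    exact ⟨this, this.symm⟩
  have hneg : ∀ X Y : Matrix (Fin k) (Fin k) F, S.adj (X * Y) = Y * X → ∀ z,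
      S.qv (Y * X) z = (-1) * S.qv (X * Y) z := fun X Y h z => by
    rw [← h, S.qv_adj, neg_one_mul]
  set O := Finset.univ.erase m
  have hiO : i ∈ O := Finset.mem_erase.2 ⟨hmi.symm, Finset.mem_univ i⟩
  have hjO : j ∈ O := Finset.mem_erase.2 ⟨hmj.symm, Finset.mem_univ j⟩
  obtain ⟨e, he, hme⟩ := leftover H hc hd hA hB (i := i) (b := j) (z := u)
    (by rw [hAi, S.R_sq]) (by rw [hAi, hBi, e1, Alt.R, S.ro_mul, huy', zero_smul])
    (by rw [hBj, S.R_sq])
    (by rw [hAj, hBj, mul_assoc, e2, mul_neg, Alt.R, S.ro_mul, hyv, zero_smul, neg_zero])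
    ⟨S.A v y', by rw [hAi, hBi]⟩ ⟨S.A v y', by rw [hAi, hBi]⟩
    (by rw [hAi, hBi, ← mul_assoc, e1, Alt.R, S.ro_mul, huy', zero_smul])
    (by rw [hAi, hBi, e1, Alt.R, S.ro_mul, huy', zero_smul])
    O hjO hij.symm ws (fun l => if l = i ∨ l = j then 1 else -1)
    (fun l hl => by
      by_cases e1' : l = i
      · subst e1'; rw [hAi, hBi, wsi, qi]; exact one_ne_zero
      by_cases e2' : l = j
      · subst e2'; rw [hAj, hBj, wsj, qj]; exact neg_ne_zero.2 one_ne_zero
      simp only [ws, if_neg e1', if_neg e2']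
      rcases hoth l e1' e2' with ⟨ea, eb⟩ | ⟨ea, eb⟩ <;> rw [ea, eb]
      exacts [q1, q2])
    (fun l hl => by
      by_cases e1' : l = i
      · subst e1'
        rw [if_pos (Or.inl rfl), one_mul, hAi, hBi]
        exact (hpos _ _ (S.adj_R u) (S.adj_A v y') _).1
      by_cases e2' : l = j
      · subst e2'
        rw [if_pos (Or.inr rfl), one_mul, hAj, hBj]
        exact (hpos _ _ (S.adj_R v) (S.adj_A u y) _).2
      rw [if_neg (by tauto)]
      rcases hoth l e1' e2' with ⟨ea, eb⟩ | ⟨ea, eb⟩ <;> rw [ea, eb] <;> refine hneg _ _ ?_ _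
      · rw [S.adj_mul, S.adj_R, S.adj_R, neg_mul_neg]
      · rw [S.adj_mul, S.adj_A, S.adj_A])
    (by
      rw [Finset.prod_ite, Finset.prod_const_one, one_mul, Finset.prod_const]
      have h : (O.filter fun l => ¬ (l = i ∨ l = j)) = (O.erase i).erase j := by
        ext l; simp only [Finset.mem_filter, Finset.mem_erase]; tauto
      obtain ⟨s, hs⟩ := ht
      rw [h, Finset.card_erase_of_mem (Finset.mem_erase.2 ⟨hij.symm, hjO⟩),
        Finset.card_erase_of_mem hiO, Finset.card_erase_of_mem (Finset.mem_univ m), Finset.card_univ,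
        Fintype.card_fin, Odd.neg_one_pow ⟨s - 2, by omega⟩])
    (Finset.notMem_erase m _) (fun l hl hlm => absurd (Finset.mem_erase.2 ⟨hlm, Finset.mem_univ l⟩) hl)
  have h1' := Tw.of_mem H.toOver (by omega) he (i := m) (X := A m * B m + B m * A m) (fun l hl => ?_)
    (Function.update_self ..) hme 1
  · rwa [one_smul] at h1'
  · rw [Function.update_of_ne hl, if_pos (Finset.mem_erase.2 ⟨hl, Finset.mem_univ l⟩)]
    refine ⟨ws l, ?_, rfl⟩
    have key : ∀ (a b z : Fin k → F), S.om (a + b) z ≠ 0 → a + b ≠ 0 := fun a b z h h0 => h (by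
      rw [h0, Alt.om, dotProduct_zero])
    simp only [ws]
    split_ifs
    · exact key v y u (by rw [S.om_add_left, h1, hyu]; simp)
    · exact key u y' y (by rw [S.om_add_left, h6, h3]; simp)
    · exact key u v u (by rw [S.om_add_left, h1, S.om_self]; simp)

/-- Identities next to roots give a projection. -/
theorem projection_of_one (ht : Even t) (ht4 : 4 ≤ t) (hk : 0 < k)
    (hone : ∀ i : Fin t, Tw S M i (1 : Matrix (Fin k) (Fin k) F)) :
    ∃ (m : Fin t) (a b : Fin k → F), S.om a b ≠ 0 ∧ Tw S M m (S.A a b) := by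
  classical
  set u : Fin k → F := Pi.single (⟨0, hk⟩ : Fin k) 1 with hudef
  have hu : u ≠ 0 := by simp [hudef]
  obtain ⟨v, hv⟩ := S.exists_om_one hu
  have hv0 : v ≠ 0 := fun h => by rw [h, Alt.om, dotProduct_zero] at hv; exact zero_ne_one hv
  have huv : S.om u v = -1 := by rw [S.om_swap, hv]
  let i : Fin t := ⟨0, by omega⟩
  let a : Fin t := ⟨1, by omega⟩
  let m : Fin t := ⟨2, by omega⟩
  let l₀ : Fin t := ⟨3, by omega⟩
  have hia : i ≠ a := by simp [i, a, Fin.ext_iff]
  have hmi : m ≠ i := by simp [m, i, Fin.ext_iff]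
  have hma : m ≠ a := by simp [m, a, Fin.ext_iff]
  set A := Function.update (fun _ : Fin t => S.R u) a (1 : Matrix (Fin k) (Fin k) F) with hAdef
  set B := Function.update (fun l => S.R (Function.update (fun _ : Fin t => v) a u l)) i
    (1 : Matrix (Fin k) (Fin k) F) with hBdef
  have hA : MV M (1 + (1 : F) • pmat A) := by
    rw [one_smul]; exact hone a (fun _ => u) fun _ _ => hu
  have hB : MV M (1 + (1 : F) • pmat B) := by
    rw [one_smul]
    exact hone i _ fun l _ => by
      rcases eq_or_ne l a with rfl | h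
      · rwa [Function.update_self]
      · rwa [Function.update_of_ne h]
  have hAi : A i = S.R u ∧ B i = 1 := ⟨by simp [A, hia], by simp [B]⟩
  have hAa : A a = 1 ∧ B a = S.R u := ⟨by simp [A], by simp [B, hia.symm]⟩
  have hAl : ∀ l, l ≠ i → l ≠ a → A l = S.R u ∧ B l = S.R v := fun l h1 h2 =>
    ⟨by simp [A, h2], by simp [B, h1, h2]⟩
  set O := ((Finset.univ.erase m).erase i).erase a
  have hl₀ : l₀ ∈ O := by simp [O, l₀, m, i, a, Fin.ext_iff]
  have hO : ∀ l ∈ O, l ≠ m ∧ l ≠ i ∧ l ≠ a := fun l hl => by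
    simp only [O, Finset.mem_erase] at hl; tauto
  have q1 : S.qv (S.R u * S.R v) (u + v) ≠ 0 := by
    rw [Alt.R, Alt.R, S.ro_mul, hv, one_smul, S.qv_ro, S.om_add_left, S.om_self, huv,
      S.om_add_right, S.om_self, huv]
    simp
  obtain ⟨e, he, hme⟩ := leftover H one_ne_zero one_ne_zero hA hB (i := i) (b := a) (z := u)
    (by rw [hAi.1, S.R_sq]) (by rw [hAi.1, hAi.2, mul_one, S.R_sq])
    (by rw [hAa.2, S.R_sq]) (by rw [hAa.1, hAa.2, mul_one, S.R_sq])
    ⟨1, by rw [hAi.1, hAi.2]⟩ ⟨1, by rw [hAi.1, hAi.2]⟩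
    (by rw [hAi.1, hAi.2, one_mul, S.R_sq]) (by rw [hAi.1, hAi.2, mul_one, S.R_sq])
    O hl₀ (hO l₀ hl₀).2.1 (fun _ => u + v) (fun _ => -1)
    (fun l hl => by
      obtain ⟨-, h1, h2⟩ := hO l hl
      rw [(hAl l h1 h2).1, (hAl l h1 h2).2]; exact q1)
    (fun l hl => by
      obtain ⟨-, h1, h2⟩ := hO l hl
      rw [(hAl l h1 h2).1, (hAl l h1 h2).2,
        show S.R v * S.R u = S.adj (S.R u * S.R v) by rw [S.adj_mul, S.adj_R, S.adj_R, neg_mul_neg],
        S.qv_adj, neg_one_mul])
    (by
      rw [Finset.prod_const, Finset.card_erase_of_mem (by simp [hma.symm, hia.symm]),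
        Finset.card_erase_of_mem (by simp [hmi.symm]), Finset.card_erase_of_mem (Finset.mem_univ m),
        Finset.card_univ, Fintype.card_fin]
      obtain ⟨s, hs⟩ := ht
      exact Odd.neg_one_pow ⟨s - 2, by omega⟩)
    (m := m) (by simp [O])
    (fun l hl hlm => by
      have : l = i ∨ l = a := by
        simp only [O, Finset.mem_erase, Finset.mem_univ, and_true] at hl; tauto
      rcases this with rfl | rfl
      · rw [hAi.1, hAi.2, one_mul, mul_one]
      · rw [hAa.1, hAa.2, one_mul, mul_one])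
  refine ⟨m, u, v, by rw [huv]; exact neg_ne_zero.2 one_ne_zero, ?_⟩
  have hX : A m * B m + B m * A m = S.A u v := by
    rw [(hAl m hmi hma).1, (hAl m hmi hma).2, Alt.R, Alt.R, S.ro_mul, S.ro_mul, hv, huv, one_smul,
      neg_one_smul, ← sub_eq_add_neg]
    rfl
  rw [hX] at hme
  have h1' := Tw.of_mem H.toOver (by omega) he (i := m) (X := S.A u v) (fun l hl => ?_)
    (Function.update_self ..) hme 1
  · rwa [one_smul] at h1'
  · rw [Function.update_of_ne hl]
    by_cases hlO : l ∈ O
    · rw [if_pos hlO]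
      exact ⟨u + v, fun h => by
        have := S.om_add_left u v u
        rw [h, S.om_self, hv, Alt.om, dotProduct_zero] at this
        simp at this, rfl⟩
    · rw [if_neg hlO]
      have : l = i ∨ l = a := by
        simp only [O, Finset.mem_erase, Finset.mem_univ, and_true] at hlO; tauto
      rcases this with rfl | rfl
      · rw [hAi.1, hAi.2, mul_one]; exact ⟨u, hu, rfl⟩
      · rw [hAa.1, hAa.2, one_mul]; exact ⟨u, hu, rfl⟩

/-- Some self-adjoint part occurs next to roots. -/
theorem exists_twist (ht : Even t) (ht4 : 4 ≤ t) (hk : 0 < k) (hno : ¬ NoUp S M) :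
    ∃ (i : Fin t) (X : Matrix (Fin k) (Fin k) F), X ≠ 0 ∧ S.adj X = X ∧ Tw S M i X := by
  classical
  obtain ⟨J, K, hJK, hJo, ⟨A₁, c, hc, hm, hJ, hK, h1⟩, hst⟩ := grow_max H hk hno
  obtain ⟨s, hs⟩ := ht
  obtain ⟨a, ha⟩ := hJo
  have hJu : J ≠ Finset.univ := fun h => by
    rw [h, Finset.card_univ, Fintype.card_fin] at ha; omega
  by_cases hJ1 : J.card + 1 = t
  · obtain ⟨i, hi⟩ : ∃ i, i ∉ J := by
      by_contra hcon
      push Not at hcon
      exact hJu (Finset.eq_univ_of_forall hcon)
    have hJi : ∀ l, l ≠ i → l ∈ J := fun l hl => by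
      by_contra hlJ
      have := Finset.card_le_univ (insert l (insert i J))
      rw [Finset.card_insert_of_notMem (by simp [hl, hlJ]), Finset.card_insert_of_notMem hi,
        Fintype.card_fin] at this
      omega
    have hX : A₁ i ≠ 0 ∧ S.adj (A₁ i) = A₁ i := by
      by_cases hiK : i ∈ K
      · obtain ⟨a, b, h⟩ := hK i hiK
        exact ⟨(hK i hiK).ne_zero, by rw [h.2.2.2, S.adj_A]⟩
      · rw [h1 i hi hiK]
        have : Nonempty (Fin k) := ⟨⟨0, hk⟩⟩
        exact ⟨one_ne_zero, S.adj_one⟩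
    refine ⟨i, A₁ i, hX.1, hX.2, ?_⟩
    have := Tw.of_mem H.toOver (by omega) hc (fun l hl => hJ l (hJi l hl)) rfl hm 1
    rwa [one_smul] at this
  obtain ⟨hKo, huniv⟩ := (hst.resolve_left hJu).resolve_left hJ1
  have hcard : J.card + K.card = t := by
    rw [← Finset.card_union_of_disjoint hJK, huniv, Finset.card_univ, Fintype.card_fin]
  obtain ⟨b, hb⟩ := hKo
  obtain ⟨i, hi⟩ := Finset.card_pos.1 (show 0 < J.card by omega)
  obtain ⟨j, hj, m, hmK, hjm⟩ := Finset.one_lt_card.1 (show 1 < K.card by omega)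
  have hKJ : ∀ l ∈ K, l ∉ J := fun l hlK hlJ => Finset.disjoint_left.1 hJK hlJ hlK
  have hall : ∀ l, l ∉ J → l ∈ K := fun l hl => by
    have := huniv ▸ Finset.mem_univ l
    exact (Finset.mem_union.1 this).resolve_left hl
  have hk4 : 4 ≤ k := by
    obtain ⟨a', b', ha', hab, hind, -⟩ := hK j hj
    by_contra hk4
    obtain ⟨φ, hφ⟩ := exists_dual ha'
    by_cases hk2 : k = 2
    · obtain ⟨c, hc⟩ := two_dim_dep hk2 S ha' hab
      exact hind c hc.symm
    · have hJdet : S.Jᵀ.det = S.J.det := Matrix.det_transpose _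
      rw [S.skew, Matrix.det_neg, Fintype.card_fin] at hJdet
      have hdet : S.J.det ≠ 0 := fun h => by
        have := congrArg Matrix.det S.Ji_mul
        rw [Matrix.det_mul, h, mul_zero, Matrix.det_one] at this
        exact zero_ne_one this
      have hko : Odd k := by
        rw [← Nat.not_even_iff_odd]
        rintro ⟨r, hr⟩
        omega
      rw [hko.neg_one_pow, neg_one_mul] at hJdet
      exact hdet ((mul_eq_zero.1 (show (2 : F) * S.J.det = 0 by linear_combination -hJdet)).resolve_left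
        S.two)
  obtain ⟨u, y, v, y', h1', h2, h3, h4, h5, h6⟩ := exists_quad hk4 S
  have huy0 : ∀ (a b p q : Fin k → F), S.om q b = 1 → S.om q a = 0 → ∀ c : F, c • a ≠ b :=
    fun a b p q hb ha c hc => by
      rw [← hc, S.om_smul_right, ha, mul_zero] at hb
      exact zero_ne_one hb
  have hu : u ≠ 0 := fun h => by
    rw [h, Alt.om, Matrix.mulVec_zero, zero_dotProduct] at h1'; exact zero_ne_one h1'
  have hv : v ≠ 0 := fun h => by rw [h, Alt.om, dotProduct_zero] at h1'; exact zero_ne_one h1'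
  have hA1 : S.IsA (S.A u y) := ⟨u, y, hu, h6, huy0 u y v y' h3 h4, rfl⟩
  have hA2 : S.IsA (S.A v y') := ⟨v, y', hv, h5, fun c hc => by
    have e := congrArg (fun z => S.om z u) hc
    simp only [S.om_smul_left, h1', h4, mul_one] at e
    rw [e, zero_smul] at hc
    rw [← hc, Alt.om, dotProduct_zero] at h3
    exact zero_ne_one h3, rfl⟩
  let A : Fin t → Matrix (Fin k) (Fin k) F := fun l => if l ∈ J then S.R u else S.A u y
  have hA : MV M (1 + c • pmat A) := retarget H hm 1 fun l => by
    simp only [inv_one, Equiv.Perm.one_apply, A]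
    by_cases hlJ : l ∈ J
    · rw [if_pos hlJ]; exact Or.inr (Or.inl ⟨hJ l hlJ, u, hu, rfl⟩)
    · rw [if_neg hlJ]; exact Or.inr (Or.inr ⟨hK l (hall l hlJ), hA1⟩)
  let B : Fin t → Matrix (Fin k) (Fin k) F := fun l =>
    if l = i then S.A v y' else if l = j then S.R v else if l ∈ J then S.R v else S.A v y'
  have hij : i ≠ j := fun e => hKJ j hj (e ▸ hi)
  have hB : MV M (1 + c • pmat B) := retarget H hA (Equiv.swap i j) fun l => by
    rw [Equiv.swap_inv]
    simp only [A, B]
    by_cases e1 : l = i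
    · subst e1
      rw [Equiv.swap_apply_left, if_neg (hKJ j hj), if_pos rfl]
      exact Or.inr (Or.inr ⟨hA1, hA2⟩)
    by_cases e2 : l = j
    · subst e2
      rw [Equiv.swap_apply_right, if_pos hi, if_neg e1, if_pos rfl]
      exact Or.inr (Or.inl ⟨⟨u, hu, rfl⟩, ⟨v, hv, rfl⟩⟩)
    rw [Equiv.swap_apply_of_ne_of_ne e1 e2, if_neg e1, if_neg e2]
    by_cases hlJ : l ∈ J
    · rw [if_pos hlJ, if_pos hlJ]; exact Or.inr (Or.inl ⟨⟨u, hu, rfl⟩, ⟨v, hv, rfl⟩⟩)
    · rw [if_neg hlJ, if_neg hlJ]; exact Or.inr (Or.inr ⟨hA1, hA2⟩)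
  have hmi : m ≠ i := fun e => hKJ m hmK (e ▸ hi)
  have hT := exchange H ⟨s, hs⟩ ht4 h1' h2 h3 h4 h5 h6 hc hc hA hB hij hmi hjm.symm (if_pos hi)
    (if_pos rfl) (if_neg (hKJ j hj)) (by simp [B, hij.symm]) (fun l h1 h2 => by
      by_cases hlJ : l ∈ J
      · exact Or.inl ⟨if_pos hlJ, by simp [B, h1, h2, hlJ]⟩
      · exact Or.inr ⟨if_neg hlJ, by simp [B, h1, h2, hlJ]⟩)
  have hm1 : A m = S.A u y ∧ B m = S.A v y' :=
    ⟨if_neg (hKJ m hmK), by simp [B, hmi, hjm.symm, hKJ m hmK]⟩
  refine ⟨m, _, ?_, ?_, hT⟩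
  · rw [hm1.1, hm1.2]
    intro h
    have e := congrArg (fun P => P *ᵥ v) h
    have ea : S.A u y *ᵥ v = -y := by rw [S.A_mulVec, h2, h1', zero_smul, one_smul, zero_sub]
    have eb : S.A v y' *ᵥ v = 0 := by rw [S.A_mulVec, h5, S.om_self, zero_smul, zero_smul, sub_zero]
    have ec : S.A v y' *ᵥ y = -v := by
      rw [S.A_mulVec, S.om_swap y v, h2, S.om_swap y y', h3]; simp
    simp only [Matrix.add_mulVec, ← Matrix.mulVec_mulVec, ea, eb, Matrix.mulVec_neg, ec,
      Matrix.mulVec_zero, Matrix.zero_mulVec, zero_add, neg_neg] at e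
    exact hv e
  · rw [S.adj_add, S.adj_mul, S.adj_mul, hm1.1, hm1.2, S.adj_A, S.adj_A, add_comm]

/-- For at least four factors all pairs occur at every factor. -/
theorem roots_of_four_le (ht : Even t) (ht4 : 4 ≤ t) (hk : k = 2 ∨ 4 ≤ k) (hno : ¬ NoUp S M)
    (a : Fin t) : Roots S M a := by
  classical
  obtain ⟨i, X, hX0, hXa, hX⟩ := exists_twist H ht ht4 (by omega) hno
  by_cases hsc : ∃ c : F, X = c • 1
  · obtain ⟨c, rfl⟩ := hsc
    have hc : c ≠ 0 := fun h => hX0 (by rw [h, zero_smul])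
    have hone : ∀ i : Fin t, Tw S M i (1 : Matrix (Fin k) (Fin k) F) := fun l => by
      have := Tw.smul H.toOver (by omega) (Tw.perm H hX l) (by omega) c⁻¹
      rwa [inv_smul_smul₀ hc] at this
    refine roots_of_Tw fun x y _ => ?_
    rcases hk with hk | hk
    · rw [show S.A x y = S.om x y • (1 : Matrix (Fin k) (Fin k) F) from
        Matrix.toLin'.injective (LinearMap.ext fun z => by
          rw [Matrix.toLin'_apply, Matrix.toLin'_apply, S.A_mulVec, two_dim_A hk S, Matrix.smul_mulVec,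
            Matrix.one_mulVec])]
      exact Tw.smul H.toOver (by omega) (hone a) (by omega) _
    · obtain ⟨m, p, q, hpq, hT⟩ := projection_of_one H ht ht4 (by omega) hone
      exact Tw.perm H (Tw.all_pairs H.toOver (by omega) hk hpq hT x y) a
  push Not at hsc
  have hk4 : 4 ≤ k := hk.resolve_left fun hk2 => by
    obtain ⟨z, hz⟩ : ∃ z, ∀ c : F, c • z ≠ X *ᵥ z := by
      by_contra hcon
      push Not at hcon
      obtain ⟨c, hc⟩ := eq_smul_one_of_eigen (by omega) hcon
      exact hsc c hc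
    have hz0 : z ≠ 0 := fun e => hz 0 (by rw [zero_smul]; simp [e])
    have hom : S.om z (X *ᵥ z) = 0 := by
      have h1 : S.om (X *ᵥ z) z = S.om z (X *ᵥ z) := by rw [S.om_adj, hXa]
      rw [S.om_swap (X *ᵥ z) z] at h1
      exact (mul_eq_zero.1 (show (2 : F) * S.om z (X *ᵥ z) = 0 by linear_combination -h1)).resolve_left
        S.two
    obtain ⟨c, hc⟩ := two_dim_dep hk2 S hz0 hom
    exact hz c hc.symm
  have hsh : ∀ x y, S.om x y = 0 → ∀ l, Tw S M l (S.A x y) := fun x y h l =>
    Tw.perm H (Tw.shears H.toOver (by omega) (by omega) hX hXa hsc x y h) l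
  obtain ⟨u, y, v, y', h1, h2, h3, h4, h5, h6⟩ := exists_quad hk4 S
  have hu : u ≠ 0 := fun h => by
    rw [h, Alt.om, Matrix.mulVec_zero, zero_dotProduct] at h1; exact zero_ne_one h1
  have hv : v ≠ 0 := fun h => by rw [h, Alt.om, dotProduct_zero] at h1; exact zero_ne_one h1
  let i' : Fin t := ⟨0, by omega⟩
  let j : Fin t := ⟨1, by omega⟩
  let m : Fin t := ⟨2, by omega⟩
  have hij : i' ≠ j := by simp [i', j, Fin.ext_iff]
  have hmi : m ≠ i' := by simp [m, i', Fin.ext_iff]
  have hmj : m ≠ j := by simp [m, j, Fin.ext_iff]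
  have hA := hsh u y h6 j (fun _ => u) fun _ _ => hu
  have hB := hsh v y' h5 i' (fun _ => v) fun _ _ => hv
  rw [← one_smul F (pmat (Function.update _ j _))] at hA
  rw [← one_smul F (pmat (Function.update _ i' _))] at hB
  have hT := exchange H ht ht4 h1 h2 h3 h4 h5 h6 one_ne_zero one_ne_zero hA hB hij hmi hmj
    (by simp [hij]) (by simp) (by simp) (by simp [hij.symm])
    (fun l h1 h2 => Or.inl ⟨by simp [h2], by simp [h1]⟩)
  have hX' : Function.update (fun _ : Fin t => S.R u) j (S.A u y) m *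
      Function.update (fun _ : Fin t => S.R v) i' (S.A v y') m +
      Function.update (fun _ : Fin t => S.R v) i' (S.A v y') m *
      Function.update (fun _ : Fin t => S.R u) j (S.A u y) m = S.A u v := by
    rw [Function.update_of_ne hmj, Function.update_of_ne hmi, Alt.R, Alt.R, S.ro_mul, S.ro_mul, h1,
      S.om_swap u v, h1, one_smul, neg_one_smul, ← sub_eq_add_neg]
    rfl
  rw [hX'] at hT
  refine roots_of_Tw fun x z _ => Tw.perm H (i := m) ?_ a
  exact Tw.all_pairs H.toOver (by omega) hk4 (by rw [S.om_swap, h1]; exact neg_ne_zero.2 one_ne_zero)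
    hT x z

end full

/-- For two factors shears, and in dimension four all pairs, occur at one factor. -/
theorem roots_of_two [Fintype F] (H : Over S M) (ht : t = 2) (hk : 4 ≤ k) (hno : ¬ NoUp S M) :
    ∃ a, Roots S M a := by
  classical
  obtain ⟨A, c, i, j, hc, hij, hi, hj, hty, hm⟩ := exists_seed H (by omega) hno
  have hl : ∀ l, l ≠ j → l = i := fun l hl => by
    have h1 : (i : ℕ) ≠ j := fun e => hij (Fin.ext e)
    have h2 : (l : ℕ) ≠ j := fun e => hl (Fin.ext e)
    have := i.2; have := j.2; have := l.2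
    exact Fin.ext (by omega)
  have hE : ¬ S.IsE (A j) := by
    intro hjE
    have hsgn : ∀ l, S.adj (A l) = (-1 : F) • A l := fun l => by
      have hlE : S.IsE (A l) := by
        rcases eq_or_ne l j with rfl | h
        exacts [hjE, hl l h ▸ hi]
      obtain ⟨w, -, e⟩ := hlE
      rw [e, S.adj_R, neg_one_smul]
    have hne : pmat A ≠ 0 := pmat_ne_zero fun l => by
      rcases eq_or_ne l j with rfl | h
      · obtain ⟨w, hw, e⟩ := hjE
        rw [e]; exact R_ne_zero hw
      · obtain ⟨w, hw, e⟩ := hi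
        rw [hl l h, e]; exact R_ne_zero hw
    have hsq : pmat A * pmat A = 0 := pmat_mul_eq_zero i (by
      obtain ⟨w, -, e⟩ := hi
      rw [e, S.R_sq])
    have h2 := iso_of_MV H hm
    rw [map_add, S.adjB_one, map_smul, S.adjB_pmat_self A _ hsgn, Finset.prod_const, Finset.card_univ,
      Fintype.card_fin, (Even.neg_one_pow ⟨1, by omega⟩ : (-1 : F) ^ t = 1), one_smul] at h2
    simp only [add_mul, mul_add, one_mul, mul_one, smul_mul_smul_comm, hsq, smul_zero, add_zero] at h2
    rw [add_assoc, add_eq_left, ← add_smul, smul_eq_zero, or_iff_left hne, ← two_mul, mul_eq_zero,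
      or_iff_left hc] at h2
    exact S.two h2
  obtain ⟨p, q, hp, hpq, hind, hAj⟩ := ((hty j).resolve_left hj).resolve_left hE
  have hT : Tw S M j (A j) := by
    have := Tw.of_mem H (by omega) hc (fun l h => hl l h ▸ hi) rfl hm 1
    rwa [one_smul] at this
  have hns : ∀ d : F, A j ≠ d • 1 := by
    intro d hd
    obtain ⟨z, hz0, hz1, hz2, -⟩ := exists_three_perp hk (S.J *ᵥ p) (S.J *ᵥ q) (S.J *ᵥ p)
    have e := congrArg (fun P => P *ᵥ z) (hAj ▸ hd)
    simp only [S.A_mulVec, show S.om z p = 0 from hz1, show S.om z q = 0 from hz2, zero_smul, sub_zero,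
      Matrix.smul_mulVec, Matrix.one_mulVec] at e
    rw [(smul_eq_zero.1 e.symm).resolve_right hz0, zero_smul] at hd
    exact Alt.IsA.ne_zero S (show S.IsA (A j) from ⟨p, q, hp, hpq, hind, hAj⟩) hd
  have hsh := Tw.shears H (by omega) (by omega) hT (by rw [hAj, S.adj_A]) hns
  refine ⟨j, roots_of_Tw fun x y hxy => ?_⟩
  rcases hxy with hk6 | hxy
  swap
  · exact hsh x y hxy
  -- dimension four
  have hone : Tw S M j (1 : Matrix (Fin k) (Fin k) F) := by
    intro w _
    have e : Function.update (fun l => S.R (w l)) j (1 : Matrix (Fin k) (Fin k) F) =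
        Function.update (1 : Fin t → Matrix (Fin k) (Fin k) F) i (S.R (w i)) := funext fun l => by
      rcases eq_or_ne l j with rfl | h
      · simp [hij.symm]
      · obtain rfl := hl l h
        simp [h]
    rw [e, ← slot_eq, ← one_smul F (slot i (S.R (w i)))]
    exact root_mem H i _ _
  have hk4 : k = 4 := by
    by_contra h
    have hJdet : S.Jᵀ.det = S.J.det := Matrix.det_transpose _
    rw [S.skew, Matrix.det_neg, Fintype.card_fin] at hJdet
    have hdet : S.J.det ≠ 0 := fun h0 => by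
      have := congrArg Matrix.det S.Ji_mul
      rw [Matrix.det_mul, h0, mul_zero, Matrix.det_one] at this
      exact zero_ne_one this
    rw [(Odd.neg_one_pow ⟨2, by omega⟩ : (-1 : F) ^ k = -1), neg_one_mul] at hJdet
    exact hdet ((mul_eq_zero.1 (show (2 : F) * S.J.det = 0 by linear_combination -hJdet)).resolve_left
      S.two)
  obtain ⟨u, z, v, z', h1, h2, h3, h4, h5, h6⟩ := exists_quad hk S
  have huv : S.om u v = -1 := by rw [S.om_swap, h1]
  have hD : Tw S M j (S.A (u + z) (v + (-1 : F) • z')) := hsh _ _ (by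
    rw [S.om_add_left, S.om_add_right, S.om_add_right, S.om_smul_right, S.om_smul_right, huv,
      S.om_swap u z', h4, S.om_swap z v, h2, S.om_swap z z', h3]
    ring)
  have e1 : Tw S M j (S.A u z') := hsh _ _ (by rw [S.om_swap, h4, neg_zero])
  have e2 : Tw S M j (S.A z v) := hsh _ _ (by rw [S.om_swap, h2, neg_zero])
  have hkey : S.A u v = (2⁻¹ : F) • (S.A (u + z) (v + (-1 : F) • z') + S.A u z' +
      (-1 : F) • S.A z v + (-1 : F) • 1) := by
    rw [A_add_left, A_add_right, A_add_right, A_smul_right, A_smul_right,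
      ← neg_neg (1 : Matrix (Fin k) (Fin k) F), ← A_add_eq_neg_one hk4 h1 h2 h3 h4 h5 h6]
    have := S.two
    match_scalars <;> field_simp <;> ring
  have hP : Tw S M j (S.A u v) := by
    rw [hkey]
    exact Tw.smul H (by omega) (Tw.add (by omega) (Tw.add (by omega) (Tw.add (by omega) hD e1)
      (Tw.smul H (by omega) e2 (by omega) _)) (Tw.smul H (by omega) hone (by omega) _)) (by omega) _
  exact Tw.all_pairs H (by omega) hk (by rw [huv]; exact neg_ne_zero.2 one_ne_zero) hP x y

/-- A non-scalar root set gives all of `Ω`. -/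
theorem omega_le_of_not_noUp [Fintype F] (H : Over S M) (hFull : 4 ≤ t → Full S M)
    {Q : QuadraticForm F ((Fin t → Fin k) → F)} (hnd : CfsgLib.Classical.Quad.NDPolar Q)
    (P : CfsgLib.Classical.Quad.Frame Q) {c : F}
    (hpol : ∀ x y, QuadraticMap.polar Q x y = c * tForm S t x y) (hM : M ≤ omegaGL ⇑Q)
    (ht : Even t) (hkt : 4 ≤ t ∧ (k = 2 ∨ 4 ≤ k) ∨ t = 2 ∧ 4 ≤ k) (hno : ¬ NoUp S M) :
    omegaGL ⇑Q ≤ M := by
  rcases hkt with ⟨h4, hk⟩ | ⟨h2, hk⟩
  · have hR := fun a => roots_of_four_le (hFull h4) ht h4 hk hno a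
    exact omega_le_of_roots H.le ht hnd P hpol hM (by omega) (hk.imp (fun h => ⟨h, h4⟩) id)
      ⟨0, by omega⟩ (hR _) fun _ => hR
  · obtain ⟨a, hR⟩ := roots_of_two H h2 hk hno
    exact omega_le_of_roots H.le ht hnd P hpol hM (by omega) (Or.inr hk) a hR fun h => by omega

end CfsgLib.ClassicalMax.TWreath
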